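import Cfsg.Agent.Lib.OrderFive.CaseFour

/-!
# An abelian essential subgroup of order `p³`

`good_of_cube`: without essential subgroups of order `p⁴` such a subgroup forces `p = 3` and `Good`.
-/

set_option autoImplicit false
set_option linter.unusedSectionVars false
set_option linter.style.haveILetI false

open Subgroup
open scoped commutatorElement

namespace Cfsg.Agent.OrderFive

open Cfsg Cfsg.FusionSystem Cfsg.Agent.Fusion

variable {p : ℕ} [hp : Fact p.Prime] {Ω : Type*} [Group Ω] {S : Subgroup Ω} [Finite S] {F : FusionSystem S}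

variable (h5 : Five p F)

include h5

/-- An abelian essential subgroup of order `p³`. -/
theorem good_of_cube (hno : ∀ P : Subgroup Ω, Nat.card P = p ^ 4 → ¬ F.IsEssential p P) {E : Subgroup Ω}
    (hE : F.IsEssential p E) (hc : Nat.card E = p ^ 3) (hcm : ∀ a b : E, a * b = b * a) : Good p F := by
  have hES := hE.1.1
  have := finite_of_le (S := S) hES
  have hexp : ∀ e : E, e ^ p = 1 := by
    intro e
    rcases S5186.result p h5.pg F h5.sat E hE hc with h' | ⟨-, h', -⟩ | ⟨h', -⟩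
    · exact Subtype.ext (h'.2 e e.2)
    · exfalso
      have h1 := h'.2
      have h2 : center E = ⊤ := eq_top_iff.2 fun u _ => mem_center_iff.2 fun v => hcm v u
      rw [h2, card_top, hc] at h1
      exact absurd (Nat.pow_right_injective hp.out.two_le (h1.trans (pow_one p).symm)) (by norm_num)
    · exact absurd h' h5.p2
  obtain ⟨R, -, -, hinj⟩ := exists_rep_elem h5 hE hcm hexp
  obtain ⟨hNc, hT⟩ := trans_cube h5 hE hcm hexp hc
  set N := normalizerIn S E with hN
  have hNS : N ≤ S := inf_le_left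
  haveI := finite_of_le hNS
  have hEN : E ≤ N := le_normalizerIn hES
  obtain ⟨y, hyN, hyE⟩ := SetLike.exists_of_lt (lt_normalizerIn h5.pg le_rfl (lt_S h5.pg h5.sat hE))
  obtain ⟨P, hP⟩ := hT R hinj ⟨y, hyN⟩ hyE
  have hgen := gen_of_index h5 hE (y := ⟨y, hyN⟩) hyE (by rw [hNc, hc, ← pow_succ'])
  obtain ⟨γ, hγ, hγu⟩ := exists_not_mem_up h5.pg h5.sat hE
  have ha := isOuterP_conj h5.pg h5.sat hE hyN hyE
  set τ := R.act (normConj S E ⟨y, hyN⟩) with hτ
  set P' := R.act γ P with hP'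
  have hne : τ P' ≠ P' := R.not_fix h5.pg h5.sat hE ha ha hγ hγu hP
  have hne' : R.act (γ * normConj S E ⟨y, hyN⟩ * γ⁻¹) P ≠ P :=
    R.not_fix' h5.pg h5.sat hE ha ha hγ hγu hP
  have hu'T : Trans (R.act (γ * normConj S E ⟨y, hyN⟩ * γ⁻¹)) P' := by
    rw [map_mul, map_mul, map_inv]
    exact hP.conj _
  obtain ⟨P₀, hP₀⟩ := R.surj P
  obtain ⟨a, haP⟩ := hP.exists_coef R.expV P'
  have ha0 : a ≠ 0 := fun h => hne (by rw [haP, h, pw_zero, mul_one])
  -- elements of `N`
  let inN : E → N := fun u => ⟨u, hEN u.2⟩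
  let yN : N := ⟨y, hyN⟩
  have hfixE : ∀ u : E, τ (R.proj u) = R.proj u ↔ normConj S E ⟨y, hyN⟩ u = u := fun u => by
    rw [hτ, ← R.comm, hinj.eq_iff]
  have hcenN : ∀ u : E, inN u ∈ center N ↔ τ (R.proj u) = R.proj u := by
    intro u
    rw [hfixE]
    constructor
    · intro h
      refine Subtype.ext ?_
      show y * (u : Ω) * y⁻¹ = u
      rw [mul_inv_eq_iff_eq_mul]
      exact (congrArg Subtype.val (mem_center_iff.1 h yN) :)
    · intro h
      refine mem_center_iff.2 fun g => ?_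
      obtain ⟨n, hn⟩ := hgen g
      set w := g * ((⟨y, hyN⟩ : normalizerIn S E) ^ n)⁻¹ with hw
      have h1 : Commute w (inN u) := Subtype.ext (congrArg Subtype.val (hcm ⟨_, hn⟩ u) :)
      have h2 : Commute yN (inN u) := Subtype.ext (by
        show y * (u : Ω) = u * y
        exact mul_inv_eq_iff_eq_mul.1 (congrArg Subtype.val h :))
      have h3 := h1.mul_left (h2.pow_left n)
      rw [hw] at h3
      rwa [show g * ((⟨y, hyN⟩ : normalizerIn S E) ^ n)⁻¹ * yN ^ n = g from inv_mul_cancel_right _ _] at h3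
  have hncy : ¬ ∀ a b : N, a * b = b * a := by
    intro h
    obtain ⟨e, he⟩ := R.surj P'
    exact hne (by rw [← he]; exact (hcenN e).1 (mem_center_iff.2 fun g => h g _))
  have hcenE : ∀ z : N, z ∈ center N → (z : Ω) ∈ E := by
    intro z hz
    refine centralizerIn_le h5.pg h5.sat hE (mem_centralizerIn.2 ⟨hNS z.2, fun x hx => ?_⟩)
    exact (congrArg Subtype.val (mem_center_iff.1 hz ⟨x, hEN hx⟩) :).symm
  have hidx : (center N).index = p ^ 2 ∧ Nat.card (center N) = p ^ 2 := by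
    have hcle : Nat.card (center N) * p ^ 2 = p ^ 4 → (center N).index = p ^ 2 ∧ Nat.card (center N) = p ^ 2 := by
      intro h
      have h' : Nat.card (center N) = p ^ 2 :=
        Nat.eq_of_mul_eq_mul_right (pow_pos hp.out.pos 2) (h.trans (by ring))
      refine ⟨?_, h'⟩
      have h3 := (center N).card_mul_index
      rw [h', hNc, show p ^ 4 = p ^ 2 * p ^ 2 by ring] at h3
      exact Nat.eq_of_mul_eq_mul_left (pow_pos hp.out.pos 2) h3
    refine hcle ?_
    let δ : E →* Vq (⊥ : Subgroup E) := MonoidHom.mk' (fun u => (R.proj u)⁻¹ * τ (R.proj u)) fun u v => by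
      rw [map_mul, map_mul, mul_inv_rev, mul_comm (R.proj v)⁻¹, mul_mul_mul_comm]
    have hker : Nat.card δ.ker = Nat.card (center N) := by
      have hmem : ∀ u : E, u ∈ δ.ker ↔ inN u ∈ center N := fun u => by
        rw [hcenN, MonoidHom.mem_ker]
        show (R.proj u)⁻¹ * τ (R.proj u) = 1 ↔ _
        rw [inv_mul_eq_one, eq_comm]
      exact Nat.card_congr
        { toFun := fun u => ⟨inN u.1, (hmem u.1).1 u.2⟩
          invFun := fun z => ⟨⟨z.1, hcenE z.1 z.2⟩, (hmem _).2 z.2⟩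
          left_inv := fun u => rfl
          right_inv := fun z => rfl }
    have hrange : δ.range = zpowers P := by
      refine le_antisymm (fun v hv => ?_) (zpowers_le.2 ?_)
      · obtain ⟨u, rfl⟩ := hv
        exact hP.mem _
      · obtain ⟨e, he⟩ := R.surj P'
        have h1 : δ e = pw P a := by
          show (R.proj e)⁻¹ * τ (R.proj e) = _
          rw [he, haP, inv_mul_cancel_left]
        have h2 : pw P a ∈ δ.range := ⟨e, h1⟩
        have h3 : pw (pw P a) a⁻¹ ∈ δ.range := δ.range.pow_mem h2 _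
        rwa [pw_mul R.expV, mul_inv_cancel₀ ha0, pw_one] at h3
    have h1 := δ.ker.card_mul_index
    rw [Subgroup.index_ker, hrange, Nat.card_zpowers, orderOf_eq_prime (R.expV P) hP.ne, hker, hc] at h1
    have h2 : Nat.card (center N) = p ^ 2 :=
      Nat.eq_of_mul_eq_mul_right hp.out.pos (h1.trans (by ring))
    rw [h2]; ring
  obtain ⟨hidx, hcZ⟩ := hidx
  have hNA : NonAb p N := nonAb_of_index h5.pg h5.sat (h5.pg.to_le hNS) hidx (by rw [hcZ, pow_two]) hncy
  -- the derived subgroup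
  have hKmem : ∀ u : E, R.proj u ∈ zpowers P → inN u ∈ commutator N := by
    intro u hu
    obtain ⟨e, he⟩ := R.surj P'
    obtain ⟨i, hi⟩ := exists_pw_of_mem R.expV hu
    have h1 : inN u = ⁅yN, inN e⁆ ^ (a⁻¹ * i).val := by
      set c := normConj S E ⟨y, hyN⟩ e * e⁻¹ with hc
      have hcu : u = c ^ (a⁻¹ * i).val := hinj (by
        rw [map_pow, hc, map_mul, map_inv, R.comm, he, ← hi]
        show pw P i = pw (τ P' * P'⁻¹) _
        rw [haP, mul_inv_cancel_comm, pw_mul R.expV, mul_inv_cancel_left₀ ha0])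
      refine Subtype.ext ?_
      conv_lhs => rw [hcu]
      rfl
    rw [h1]
    exact pow_mem (commutator_mem_commutator (mem_top _) (mem_top _)) _
  -- the elements `g`, `e` of `S`
  obtain ⟨g, hg, hgN⟩ := SetLike.exists_of_lt (lt_of_le_of_ne hNS fun h => by
    rw [h, h5.card] at hNc
    exact absurd (Nat.pow_right_injective hp.out.two_le hNc) (by norm_num) : N < S)
  obtain ⟨e, he, hge⟩ : ∃ e ∈ E, g * e * g⁻¹ ∉ E := by
    by_contra h
    push Not at h
    exact hgN (mem_normalizerIn_of_conj hg h)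
  set g' : S := ⟨g, hg⟩
  set e' : S := ⟨e, hES he⟩ with he'
  set N' := N.subgroupOf S
  set E' := E.subgroupOf S
  set Z := inS hNS (center N) with hZ
  haveI hnN : N'.Normal := normal_fourth h5 hNS hNc
  haveI hnZ : Z.Normal := normal_inS h5 hNS hNc _
  have hZE : Z ≤ E' := fun s hs => by
    obtain ⟨h, hu⟩ := mem_inS.1 hs
    exact hcenE _ hu
  have hxE : ⁅g', e'⁆ ∉ E' := fun h => hge (by
    have := E'.mul_mem h (show e' ∈ E' from he)
    rwa [commutatorElement_def, inv_mul_cancel_right] at this)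
  have hxN : ⁅g', e'⁆ ∈ N' := mul_mem (hnN.conj_mem e' (hEN he) g') (inv_mem (hEN he))
  have heZ : e' ∉ Z := fun h => hxE (hZE (mul_mem (hnZ.conj_mem _ h g') (inv_mem h)))
  have hxZ : ⁅g', e'⁆ ∉ Z ⊔ zpowers e' := fun h => hxE ((sup_le hZE (zpowers_le.2 he)) h)
  have hcZ' : Nat.card Z = p ^ 2 := by
    rw [hZ, inS, Subgroup.card_map_of_injective (Subgroup.inclusion_injective hNS), hcZ]
  have hN'c : Nat.card N' = p ^ 4 := (Nat.card_congr (subgroupOfEquivOfLe hNS).toEquiv).trans hNc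
  have hZN : Z < N' := lt_of_le_of_ne (hZE.trans fun s hs => hEN hs) fun h =>
    heZ (h ▸ (hEN he : e' ∈ N'))
  obtain ⟨M, hMn, hZM, hMN, hMc, hMZ⟩ := PGroup.exists_normal_between h5.pg hZN
  haveI := hMn
  rw [hcZ'] at hMc
  have hMlt : M < N' := lt_of_le_of_ne hMN fun h => by
    rw [h, hN'c, ← pow_succ'] at hMc
    exact absurd (Nat.pow_right_injective hp.out.two_le hMc) (by norm_num)
  have hcomM : ∀ u ∈ N', ∀ t : S, ⁅t, u⁆ ∈ M := fun u hu t =>
    PGroup.commutator_mem_of_card h5.pg hMlt (by rw [hN'c, hMc]; exact le_of_eq (by ring)) hu t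
  have hxM : ⁅g', e'⁆ ∈ M := hcomM e' (hEN he) g'
  have hgx : ⁅g', ⁅g', e'⁆⁆ ∈ Z := by
    rw [← commutatorElement_inv]
    exact inv_mem (hMZ (commutator_mem_commutator hxM (mem_top g')))
  have hME : ∀ u ∈ M, u ∈ E' → u ∈ Z := by
    intro u hu huE
    by_contra huZ
    have h1 : Z ⊔ zpowers u = M := PGroup.eq_sup_zpowers_of_card h5.pg hZM (by rw [hMc, hcZ']) hu huZ
    exact hxE ((h1 ▸ sup_le hZE (zpowers_le.2 huE) : M ≤ E') hxM)
  have D := nData h5 hNS hNc hNA (g := g') (e := e') hgN (hEN he) heZ hxZ hgx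
  -- automorphisms of `S` from the torus
  have main : ∀ l : ZMod p, l ≠ 0 → ∃ φ : MulAut S, (e' ^ (l⁻¹).val)⁻¹ * φ e' ∈ Z ∧
      (⁅g', e'⁆ ^ (l ^ 2).val)⁻¹ * φ ⁅g', e'⁆ ∈ Z ∧
      ∀ z ∈ Z, z⁻¹ * φ z ∈ inS hNS (commutator N) := by
    intro l hl
    obtain ⟨h, hh, e1, e2, e3, -, -, f, hf, hfe, hfy⟩ :=
      R.exists_torus_extension h5.pg h5.sat hE (y := ⟨y, hyN⟩) hyE hgen hγ hγu hP hl
    obtain ⟨φ, -, hφf⟩ := exists_aut_top h5 hNS hNc (hno _ hNc) hf
    have hφE : ∀ u : E, φ (Subgroup.inclusion hES u) = Subgroup.inclusion hES (h u) := fun u =>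
      Subtype.ext (by rw [hφf _ (hEN u.2)]; exact (hfe u u.2).trans (autFn_apply h u.2))
    have hdec := fun u : E => exists_decomp R.expV hP hu'T hne hne' (R.proj u)
    have hZmem : ∀ u : E, Subgroup.inclusion hES u ∈ Z ↔ τ (R.proj u) = R.proj u := fun u => by
      rw [← hcenN]
      exact ⟨fun hu => (mem_inS.1 hu).2, fun hu => mem_inS.2 ⟨_, hu⟩⟩
    have hEmod : ∀ u : E, τ ((R.proj u ^ (l⁻¹).val)⁻¹ * R.act h (R.proj u)) =
        (R.proj u ^ (l⁻¹).val)⁻¹ * R.act h (R.proj u) := by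
      intro u
      obtain ⟨i, j, w, hu, hw, hw'⟩ := hdec u
      have hfw : τ (pw w l⁻¹) = pw w l⁻¹ := by rw [map_pw, hw]
      have hh' : R.act h (R.proj u) = pw P (l * i) * pw P' (l⁻¹ * j) * w := by
        rw [hu, map_mul, map_mul, map_pw, map_pw, e1, e2, pw_mul R.expV, pw_mul R.expV, e3 w hw hw']
      have hpow : R.proj u ^ (l⁻¹).val = pw P (l⁻¹ * i) * pw P' (l⁻¹ * j) * pw w l⁻¹ := by
        show pw (R.proj u) l⁻¹ = _
        rw [hu, pw_mul_distrib R.expV, pw_mul_distrib R.expV, pw_mul R.expV, pw_mul R.expV,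
          mul_comm i, mul_comm j]
      have hrw : (R.proj u ^ (l⁻¹).val)⁻¹ * R.act h (R.proj u) =
          (pw P (l⁻¹ * i) * pw w l⁻¹)⁻¹ * (pw P (l * i) * w) := by
        rw [hh', hpow]
        simp [mul_assoc, mul_comm, mul_left_comm]
      rw [hrw, map_mul, map_inv, map_mul, map_mul, map_pw, map_pw, hP.fix, hw, map_pw, hP.fix]
    have hfe' : (e' ^ (l⁻¹).val)⁻¹ * φ e' ∈ Z := by
      rw [show e' = Subgroup.inclusion hES ⟨e, he⟩ from rfl, hφE, ← map_pow, ← map_inv, ← map_mul, hZmem,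
        map_mul, map_inv, map_pow, R.comm]
      exact hEmod _
    have hfZ : ∀ z ∈ Z, z⁻¹ * φ z ∈ inS hNS (commutator N) := by
      intro z hz
      obtain ⟨hzN, hzc⟩ := mem_inS.1 hz
      set u : E := ⟨z, hcenE _ hzc⟩
      have hz' : z = Subgroup.inclusion hES u := Subtype.ext rfl
      have hu : R.proj (u⁻¹ * h u) ∈ zpowers P := by
        have hzu : τ (R.proj u) = R.proj u := (hcenN u).1 hzc
        obtain ⟨i, j, w, hd, hw, hw'⟩ := hdec u
        have hPw : ∀ v : ZMod p, τ (pw P v) = pw P v := fun v => by rw [map_pw, hP.fix]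
        have hj : j = 0 := by
          have h4 := hzu
          rw [hd, map_mul, map_mul, hPw, map_pw, hw, haP, pw_mul_distrib R.expV, pw_mul R.expV] at h4
          have h5' : pw P (a * j) = 1 := mul_eq_left.1 (mul_left_cancel (mul_right_cancel h4))
          exact (mul_eq_zero.1 ((pw_eq_one_iff R.expV hP.ne _).1 h5')).resolve_left ha0
        subst hj
        rw [map_mul, map_inv, R.comm, hd, map_mul, map_mul, map_pw, map_pw, e1, pw_mul R.expV, e3 w hw hw',
          pw_zero (p := p), pw_zero (p := p), mul_one, mul_one, mul_inv_rev, mul_assoc, mul_comm (pw P (l * i)) w,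
          ← mul_assoc (pw P i)⁻¹, mul_comm (pw P i)⁻¹ w, mul_assoc, inv_mul_cancel_left]
        exact (zpowers P).mul_mem ((zpowers P).inv_mem ((zpowers P).pow_mem (mem_zpowers P) _))
          ((zpowers P).pow_mem (mem_zpowers P) _)
      rw [hz', hφE, ← map_inv, ← map_mul]
      exact mem_inS.2 ⟨_, hKmem _ hu⟩
    refine ⟨φ, hfe', ?_, hfZ⟩
    set x := ⁅g', e'⁆ with hx
    refine hME _ (M.mul_mem (M.inv_mem (M.pow_mem hxM _)) ?_) ?_
    · rw [hx, map_commutatorElement]
      refine hcomM _ ?_ _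
      have h1 : φ (Subgroup.inclusion hES ⟨e, he⟩) ∈ N' := by
        rw [hφE]
        exact hEN (h _).2
      exact h1
    · -- modulo `E` the element `x` is a power of `y`
      have hxN' : (x : Ω) ∈ N := hxN
      obtain ⟨k, hk⟩ := hgen ⟨x, hxN'⟩
      set yS : S := ⟨y, hNS hyN⟩
      set u := x * (yS ^ k)⁻¹ with hu
      have huE : (u : Ω) ∈ E := hk
      have hxy : x = Subgroup.inclusion hES ⟨u, huE⟩ * yS ^ k := Subtype.ext (by simp [hu, yS])
      haveI : (E'.subgroupOf N').Normal := ⟨fun n hn t => mem_subgroupOf.2 (mem_subgroupOf.2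
        (normalizerIn_conj (mem_subgroupOf.1 t.2) (mem_subgroupOf.1 (mem_subgroupOf.1 hn))))⟩
      let q := QuotientGroup.mk' (E'.subgroupOf N')
      have hφy : (yS ^ (l ^ 2).val)⁻¹ * φ yS ∈ E' := by
        show ((yS : Ω) ^ (l ^ 2).val)⁻¹ * (φ yS : Ω) ∈ E
        rw [hφf yS hyN]
        exact hfy
      have hmap : ∀ t ∈ N', φ t ∈ N' := fun t ht => by
        show (φ t : Ω) ∈ N
        rw [hφf t ht]
        exact hf.mem ht
      set m := (l ^ 2).val
      have hyN' : yS ∈ N' := hyN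
      have hq : ∀ (t : S) (ht : t ∈ N'), t ∈ E' → q ⟨t, ht⟩ = 1 := fun t ht h =>
        (QuotientGroup.eq_one_iff _).2 (mem_subgroupOf.2 h)
      have huN : u ∈ N' := hEN huE
      have hφu : φ u ∈ E' := by
        rw [show u = Subgroup.inclusion hES ⟨u, huE⟩ from Subtype.ext rfl, hφE]
        exact (h _).2
      have hqy : q ⟨φ yS, hmap _ hyN'⟩ = q ⟨yS, hyN'⟩ ^ m := by
        rw [← map_pow, eq_comm, ← inv_mul_eq_one, ← map_inv, ← map_mul]
        exact hq _ _ hφy
      have hxq : q ⟨x, hxN'⟩ = q ⟨yS, hyN'⟩ ^ k := by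
        rw [← map_pow, ← mul_inv_eq_one, ← map_inv, ← map_mul]
        exact hq _ _ huE
      have hxφ : q ⟨φ x, hmap _ hxN'⟩ = q ⟨φ yS, hmap _ hyN'⟩ ^ k := by
        rw [← map_pow, ← mul_inv_eq_one, ← map_inv, ← map_mul]
        refine hq _ _ ?_
        show φ x * (φ yS ^ k)⁻¹ ∈ E'
        rwa [← map_pow, ← map_inv, ← map_mul, ← hu]
      have h1 : q ((⟨x, hxN'⟩ : N') ^ m)⁻¹ * q ⟨φ x, hmap _ hxN'⟩ = 1 := by
        rw [map_inv, map_pow, hxq, hxφ, hqy, ← pow_mul, ← pow_mul, mul_comm m k, inv_mul_cancel]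
      rw [← map_mul] at h1
      exact mem_subgroupOf.1 ((QuotientGroup.eq_one_iff _).1 h1)
  have h2 := two_ne h5
  obtain ⟨φ, hfe', hfx, hfZ⟩ := main (-1) (neg_ne_zero.2 one_ne_zero)
  have hm1 : (-1 : ZMod p) ≠ 1 := fun h => h2 (by linear_combination -h)
  obtain ⟨hgx', hep⟩ := D.commute_mod φ hfe' hfx hfZ
    (by rwa [ZMod.natCast_zmod_val, inv_neg, inv_one])
    (by
      rw [ZMod.natCast_zmod_val, ZMod.natCast_zmod_val, inv_neg, inv_one, neg_one_sq, mul_one]
      exact hm1.symm)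
  obtain ⟨g₁, c, B, hcZ₁, hZW⟩ := D.exists_groupB hgx' hep
  refine good_of_groupB h5 B (eq_three h5 rfl ?_)
  obtain ⟨φ₂, hfe₂, -, hfZ₂⟩ := main 2 h2
  have := D.weight_sq B hcZ₁ hZW φ₂ hfe₂ hfZ₂
  rwa [ZMod.natCast_zmod_val] at this

end Cfsg.Agent.OrderFive
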