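import Cfsg.Agent.Lib.OrderFive.GroupB

/-!
# From a normal subgroup of index `p` to the generators `GroupB`

`NData p N Z K g e`: `N` normal of index `p`, `Z` central in `N` of order `p²`, `[N,N] ≤ K`, `|K| = p`.
* `NData.commute_mod`: an automorphism with suitable weights forces `[g,[g,e]] ∈ K` and `e^p ∈ K`;
* `NData.weight_sq`: then a second automorphism has `j² = 1`.
-/

set_option autoImplicit false
set_option linter.unusedSectionVars false
set_option linter.style.haveILetI false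

open Subgroup
open scoped commutatorElement

namespace Cfsg.Agent.OrderFive

variable {X : Type*} [Group X] [Finite X] {p : ℕ} [hp : Fact p.Prime]

/-- The configuration. -/
structure NData (p : ℕ) (N Z K : Subgroup X) (g e : X) : Prop where
  pgroup : IsPGroup p X
  hX : Nat.card X = p ^ 5
  nN : N.Normal
  iN : N.index = p
  nZ : Z.Normal
  nK : K.Normal
  cZ : Nat.card Z = p ^ 2
  cK : Nat.card K = p
  KZ : K ≤ Z
  ZN : Z ≤ N
  hgN : g ∉ N
  heN : e ∈ N
  comm : ∀ n ∈ N, ∀ z ∈ Z, n * z = z * n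
  der : ∀ m ∈ N, ∀ n ∈ N, ⁅m, n⁆ ∈ K
  pow : ∀ n ∈ N, n ^ p ∈ Z
  gen : N ≤ closure ({e, ⁅g, e⁆} : Set X) ⊔ Z
  hgx : ⁅g, ⁅g, e⁆⁆ ∈ Z
  hex : ⁅e, ⁅g, e⁆⁆ ≠ 1
  na : ∀ A : Subgroup X, A.index = p → ∃ u ∈ A, ∃ v ∈ A, u * v ≠ v * u

namespace NData

variable {N Z K : Subgroup X} {g e : X} (D : NData p N Z K g e)

include D

theorem x_mem : ⁅g, e⁆ ∈ N := D.nN.conj_mem _ (D.heN) g |> fun h => mul_mem h (inv_mem D.heN)

theorem x_not_mem : ⁅g, e⁆ ∉ Z := fun h =>
  D.hex (commutatorElement_eq_one_iff_mul_comm.2 (D.comm e D.heN _ h))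

theorem K_center : K ≤ center X := by
  haveI := D.nK
  exact PGroup.le_center_of_card_eq D.pgroup D.cK

theorem Z_mod {s z : X} (hz : z ∈ Z) : ⁅s, z⁆ ∈ K := by
  haveI := D.nK
  haveI := D.nZ
  refine PGroup.commutator_mem_of_card D.pgroup (lt_of_le_of_ne D.KZ fun h => ?_) ?_ hz s
  · have h1 := D.cZ
    rw [← h, D.cK] at h1
    exact absurd (Nat.pow_right_injective hp.out.two_le ((pow_one p).trans h1)) (by norm_num)
  · rw [D.cZ, D.cK, pow_two]

theorem pow_mem_K {k : X} (hk : k ∈ K) : k ^ p = 1 := by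
  have : (⟨k, hk⟩ : K) ^ Nat.card K = 1 := pow_card_eq_one'
  rw [D.cK] at this
  exact congrArg Subtype.val this

theorem Z_pow {z : X} (hz : z ∈ Z) : z ^ p ∈ K := by
  haveI := D.nK
  haveI : (K.subgroupOf Z).Normal := D.nK.subgroupOf Z
  have hc : Nat.card (Z ⧸ K.subgroupOf Z) = p := by
    have h3 := (K.subgroupOf Z).card_mul_index
    rw [Nat.card_congr (subgroupOfEquivOfLe D.KZ).toEquiv, D.cZ, D.cK, pow_two] at h3
    exact Nat.eq_of_mul_eq_mul_left hp.out.pos h3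
  have h2 : (QuotientGroup.mk' (K.subgroupOf Z) ⟨z, hz⟩) ^ Nat.card (Z ⧸ K.subgroupOf Z) = 1 := pow_card_eq_one'
  rw [hc, ← map_pow] at h2
  exact mem_subgroupOf.1 ((QuotientGroup.eq_one_iff _).1 h2)

theorem mod_Z_order {m n : ℕ} (h : (⁅g, e⁆ : X) ^ m * (⁅g, e⁆ ^ n)⁻¹ ∈ Z) : (m : ZMod p) = n := by
  have hk : ⁅e, ⁅g, e⁆⁆ ∈ K := D.der _ D.heN _ D.x_mem
  have hc : ∀ y, Commute y ⁅e, ⁅g, e⁆⁆ := fun y => mem_center_iff.1 (D.K_center hk) y
  have h1 : ∀ t : ℕ, e * ⁅g, e⁆ ^ t * e⁻¹ = ⁅e, ⁅g, e⁆⁆ ^ t * ⁅g, e⁆ ^ t := fun t => by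
    rw [← conj_pow, show e * ⁅g, e⁆ * e⁻¹ = ⁅e, ⁅g, e⁆⁆ * ⁅g, e⁆ by simp only [commutatorElement_def]; group,
      (hc _).symm.mul_pow]
  have h2 : e * (⁅g, e⁆ ^ m * (⁅g, e⁆ ^ n)⁻¹) * e⁻¹ = ⁅g, e⁆ ^ m * (⁅g, e⁆ ^ n)⁻¹ := by
    rw [D.comm e D.heN _ h, mul_inv_cancel_right]
  rw [show e * (⁅g, e⁆ ^ m * (⁅g, e⁆ ^ n)⁻¹) * e⁻¹ =
    (e * ⁅g, e⁆ ^ m * e⁻¹) * (e * ⁅g, e⁆ ^ n * e⁻¹)⁻¹ by group, h1, h1, mul_inv_rev,
    show ⁅e, ⁅g, e⁆⁆ ^ m * ⁅g, e⁆ ^ m * ((⁅g, e⁆ ^ n)⁻¹ * (⁅e, ⁅g, e⁆⁆ ^ n)⁻¹) =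
      ⁅e, ⁅g, e⁆⁆ ^ m * (⁅g, e⁆ ^ m * (⁅g, e⁆ ^ n)⁻¹ * (⁅e, ⁅g, e⁆⁆ ^ n)⁻¹) by group,
    ((hc _).pow_right n).inv_right.eq, ← mul_assoc, mul_eq_right, mul_inv_eq_one] at h2
  exact cast_eq_of_pow (orderOf_eq_prime (D.pow_mem_K hk) D.hex) h2

theorem K_pow_cast {k : X} (hk : k ∈ K) {m : ℕ} (h : k ^ m = k) (hm : (m : ZMod p) ≠ 1) : k = 1 := by
  by_contra hk1
  have h' : k ^ m = k ^ 1 := by rw [pow_one]; exact h
  have := cast_eq_of_pow (orderOf_eq_prime (D.pow_mem_K hk) hk1) h'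
  rw [Nat.cast_one] at this
  exact hm this

/-- Modulo `K`. -/
theorem pow_eq_mod {u : X} (hu : u ^ p ∈ K) {m n : ℕ} (hmn : (m : ZMod p) = n) :
    u ^ m * (u ^ n)⁻¹ ∈ K := by
  haveI := D.nK
  have h1 : (QuotientGroup.mk' K u) ^ p = 1 := by
    rw [← map_pow]; exact (QuotientGroup.eq_one_iff _).2 hu
  rw [← QuotientGroup.eq_one_iff]
  show QuotientGroup.mk' K _ = 1
  rw [map_mul, map_inv, map_pow, map_pow, mul_inv_eq_one]
  rw [ZMod.natCast_eq_natCast_iff] at hmn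
  exact (pow_eq_pow_iff_modEq.2 (hmn.of_dvd (orderOf_dvd_of_pow_eq_one h1)))

/-- An automorphism with weights `e ↦ e^je`, `x ↦ x^jx`. -/
theorem commute_mod (f : MulAut X) {je jx : ℕ}
    (hfe : (e ^ je)⁻¹ * f e ∈ Z) (hfx : (⁅g, e⁆ ^ jx)⁻¹ * f ⁅g, e⁆ ∈ Z)
    (hfZ : ∀ z ∈ Z, z⁻¹ * f z ∈ K) (hje : (je : ZMod p) ≠ 1)
    (hw : ((jx : ZMod p) * jx) ≠ je) :
    ⁅g, ⁅g, e⁆⁆ ∈ K ∧ e ^ p ∈ K := by
  haveI := D.nK
  haveI := D.nN
  let π := QuotientGroup.mk' K
  have hπ : ∀ {k}, k ∈ K → π k = 1 := fun h => (QuotientGroup.eq_one_iff _).2 h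
  have hcomm : ∀ {u v : X}, ⁅u, v⁆ ∈ K → Commute (π u) (π v) := fun {u v} h => by
    rw [← commutatorElement_eq_one_iff_commute, ← map_commutatorElement]; exact hπ h
  have hZc : ∀ {z : X}, z ∈ Z → ∀ y, Commute (π z) (π y) := fun hz y => (hcomm (D.Z_mod hz)).symm
  have hfz : ∀ {z : X}, z ∈ Z → π (f z) = π z := fun {z} hz => by
    have := hπ (hfZ z hz)
    rwa [map_mul, map_inv, inv_mul_eq_one, eq_comm] at this
  constructor
  · obtain ⟨a, ha⟩ : ∃ a : ℕ, (g ^ a)⁻¹ * f g ∈ N := by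
      have hprime : Nat.card (X ⧸ N) = p := D.iN
      have hg1 : (QuotientGroup.mk' N g) ≠ 1 := fun h => D.hgN ((QuotientGroup.eq_one_iff g).1 h)
      haveI : Finite (X ⧸ N) := Finite.of_surjective _ (QuotientGroup.mk'_surjective N)
      obtain ⟨a, ha⟩ := mem_powers_of_prime_card hprime hg1 (g' := QuotientGroup.mk' N (f g))
      refine ⟨a, (QuotientGroup.eq_one_iff _).1 ?_⟩
      show QuotientGroup.mk' N _ = 1
      rw [map_mul, map_inv, map_pow, inv_mul_eq_one]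
      exact ha
    obtain ⟨n, hn, hfg⟩ : ∃ n ∈ N, f g = g ^ a * n := ⟨_, ha, by group⟩
    -- the weight of `x`
    have hxa : (jx : ZMod p) = a * je := by
      haveI := D.nZ
      let ρ := QuotientGroup.mk' Z
      have hρ : ∀ {k}, k ∈ Z → ρ k = 1 := fun h => (QuotientGroup.eq_one_iff _).2 h
      have hcommZ : ∀ {u v : X}, ⁅u, v⁆ ∈ Z → Commute (ρ u) (ρ v) := fun {u v} h => by
        rw [← commutatorElement_eq_one_iff_commute, ← map_commutatorElement]; exact hρ h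
      have hfe' : ρ (f e) = ρ e ^ je := by
        have := hρ hfe
        rw [map_mul, map_inv, map_pow, inv_mul_eq_one] at this
        exact this.symm
      have hfx' : ρ (f ⁅g, e⁆) = ρ ⁅g, e⁆ ^ jx := by
        have := hρ hfx
        rw [map_mul, map_inv, map_pow, inv_mul_eq_one] at this
        exact this.symm
      have hne : Commute (ρ n) (ρ e) := hcommZ (D.KZ (D.der n hn e D.heN))
      have h1 : ⁅ρ g ^ a * ρ n, ρ e ^ je * 1⁆ = ⁅ρ g, ρ e⁆ ^ (a * je) := by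
        refine comm_pow_mul ?_ ?_ hne (Commute.one_right _) (Commute.one_left _) a je
        · rw [← map_commutatorElement]; exact hcommZ D.hgx
        · rw [← map_commutatorElement]; exact hcommZ (D.KZ (D.der e D.heN _ D.x_mem))
      rw [mul_one, ← hfe', ← map_pow, ← map_mul, ← hfg, ← map_commutatorElement ρ (f g) (f e),
        ← map_commutatorElement f g e, hfx', ← map_commutatorElement ρ g e, ← map_pow, ← map_pow] at h1
      have h2 := D.mod_Z_order (m := jx) (n := a * je) ((QuotientGroup.eq_one_iff _).1 (by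
        show ρ _ = 1
        rw [map_mul, map_inv, h1, mul_inv_cancel]))
      rw [h2, Nat.cast_mul]
    set x := ⁅g, e⁆ with hx
    obtain ⟨z0, hz0, hfx'⟩ : ∃ z0 ∈ Z, f x = x ^ jx * z0 := ⟨_, hfx, by group⟩
    have hk : Commute (π g) ⁅π g, π x⁆ ∧ Commute (π x) ⁅π g, π x⁆ := by
      rw [← map_commutatorElement]
      exact ⟨(hZc D.hgx g).symm, (hZc D.hgx x).symm⟩
    have h1 : ⁅π g ^ a * π n, π x ^ jx * π z0⁆ = ⁅π g, π x⁆ ^ (a * jx) :=
      comm_pow_mul hk.1 hk.2 (hcomm (D.der n hn x D.x_mem)) ((hZc hz0 n).symm) (hZc hz0 g) a jx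
    rw [← map_pow, ← map_pow, ← map_mul, ← map_mul, ← hfg, ← hfx', ← map_commutatorElement,
      ← map_commutatorElement, ← map_commutatorElement, hfz D.hgx] at h1
    by_contra hne
    have ho : orderOf (π ⁅g, x⁆) = p := by
      refine orderOf_eq_prime ?_ fun h => hne ((QuotientGroup.eq_one_iff _).1 h)
      rw [← map_pow]
      exact hπ (D.Z_pow D.hgx)
    have h3 := cast_eq_of_pow ho ((pow_one _).trans h1)
    push_cast at h3
    refine hw ?_
    linear_combination (jx : ZMod p) * hxa - (je : ZMod p) * h3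
  · have hep : e ^ p ∈ Z := D.pow e D.heN
    obtain ⟨z0, hz0, hfe'⟩ : ∃ z0 ∈ Z, f e = e ^ je * z0 := ⟨_, hfe, by group⟩
    have h1 : π (e ^ p) = π (e ^ p) ^ je := by
      conv_lhs => rw [← hfz hep, map_pow f, hfe']
      rw [Commute.mul_pow ((Commute.pow_left (D.comm e D.heN z0 hz0) je)), map_mul, hπ (D.Z_pow hz0), mul_one,
        ← pow_mul, mul_comm, pow_mul, map_pow]
    by_contra hne
    have ho : orderOf (π (e ^ p)) = p := by
      refine orderOf_eq_prime ?_ fun h => hne ((QuotientGroup.eq_one_iff _).1 h)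
      rw [← map_pow]
      exact hπ (D.Z_pow hep)
    have h2 := cast_eq_of_pow ho ((pow_one _).trans h1)
    rw [Nat.cast_one] at h2
    exact hje h2.symm

/-- The generators of type `GroupB`. -/
theorem exists_groupB (hgx' : ⁅g, ⁅g, e⁆⁆ ∈ K) (hep : e ^ p ∈ K) :
    ∃ g' c, ∃ B : GroupB p g' e c, c ∈ Z ∧ Z ≤ B.W := by
  set x := ⁅g, e⁆ with hx
  have hk0 : ⁅e, x⁆ ∈ K := D.der _ D.heN _ D.x_mem
  have hcK : ∀ {k : X}, k ∈ K → ∀ y, Commute y k := fun hk y => mem_center_iff.1 (D.K_center hk) y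
  obtain ⟨i, hi⟩ := exists_pow_eq_of_card D.cK hk0 D.hex (inv_mem hgx')
  set g' := g * e ^ i with hg'
  have hg'e : ⁅g', e⁆ = x := by
    rw [hx, hg', commutatorElement_def, commutatorElement_def]
    rw [mul_assoc g (e ^ i) e, ← pow_succ, pow_succ']
    group
  have hg'x : ⁅g', x⁆ = 1 := by
    have h1 : e ^ i * x * (e ^ i)⁻¹ = ⁅e, x⁆ ^ i * x := by
      have := conj_pow_pow (hcK hk0 e) (hcK hk0 x) i 1
      rw [pow_one, mul_one, commutatorElement_def, mul_inv_eq_iff_eq_mul] at this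
      exact this
    rw [commutatorElement_def, hg', mul_inv_rev]
    calc g * e ^ i * x * ((e ^ i)⁻¹ * g⁻¹) * x⁻¹ = g * (e ^ i * x * (e ^ i)⁻¹) * g⁻¹ * x⁻¹ := by group
      _ = ⁅e, x⁆ ^ i * ⁅g, x⁆ := by
          rw [h1, ← mul_assoc g, ((hcK hk0 g).pow_right i).eq, commutatorElement_def g x]
          group
      _ = 1 := by rw [hi, inv_mul_cancel]
  have hg'N : g' ∉ N := fun h => D.hgN (by
    have := mul_mem h (inv_mem (pow_mem D.heN i))
    simpa [hg'] using this)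
  obtain ⟨c, hcZ, hc⟩ : ∃ c ∈ Z, ⁅g', c⁆ ≠ 1 := by
    by_contra h
    push Not at h
    haveI := D.nZ
    set M := Z ⊔ zpowers x
    set A := M ⊔ zpowers g'
    have hMc : M ≤ centralizer ({g'} : Set X) := sup_le
      (fun z hz => mem_centralizer_singleton_iff.2 (commutatorElement_eq_one_iff_mul_comm.1 (h z hz)).symm)
      (zpowers_le.2 (mem_centralizer_singleton_iff.2 (commutatorElement_eq_one_iff_mul_comm.1 hg'x).symm))
    have hZc : Z ≤ centralizer (Z : Set X) := fun a ha => mem_centralizer_iff.2 fun b hb =>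
      D.comm b (D.ZN hb) a ha
    have hMM : M ≤ centralizer (M : Set X) := by
      have h1 : M ≤ centralizer ({x} : Set X) := sup_le
        (fun z hz => mem_centralizer_singleton_iff.2 (D.comm x D.x_mem z hz).symm)
        (zpowers_le.2 (mem_centralizer_singleton_iff.2 rfl))
      refine sup_le (fun z hz => mem_centralizer_iff.2 fun m hm => D.comm m ?_ z hz) (zpowers_le.2 ?_)
      · exact (sup_le D.ZN (zpowers_le.2 D.x_mem)) hm
      · exact mem_centralizer_iff.2 fun m hm => mem_centralizer_singleton_iff.1 (h1 hm)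
    have hAA : A ≤ centralizer (A : Set X) := by
      have h1 : A ≤ centralizer ({g'} : Set X) :=
        sup_le hMc (zpowers_le.2 (mem_centralizer_singleton_iff.2 rfl))
      have h2 : M ≤ centralizer (A : Set X) := fun m hm => mem_centralizer_iff.2 fun a ha => by
        have : A ≤ centralizer ({m} : Set X) := sup_le
          (fun y hy => mem_centralizer_singleton_iff.2 ((mem_centralizer_iff.1 (hMM hm) y hy)))
          (zpowers_le.2 (mem_centralizer_singleton_iff.2 (mem_centralizer_singleton_iff.1 (hMc hm)).symm))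
        exact mem_centralizer_singleton_iff.1 (this ha)
      exact sup_le h2 (zpowers_le.2 (mem_centralizer_iff.2 fun a ha => mem_centralizer_singleton_iff.1 (h1 ha)))
    have hMlt : Z < M := lt_of_le_of_ne le_sup_left fun e' => D.x_not_mem (e' ▸ mem_sup_right (mem_zpowers _))
    have hAlt : M < A := lt_of_le_of_ne le_sup_left fun e' => hg'N
      (sup_le D.ZN (zpowers_le.2 D.x_mem) (e' ▸ mem_sup_right (mem_zpowers g') : g' ∈ M))
    have c1 := PGroup.mul_card_le_of_lt D.pgroup hMlt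
    have c2 := PGroup.mul_card_le_of_lt D.pgroup hAlt
    rw [D.cZ] at c1
    have c3 := A.card_mul_index
    rw [D.hX] at c3
    obtain ⟨t, ht, hA⟩ := (Nat.dvd_prime_pow hp.out).1 (D.hX ▸ A.card_subgroup_dvd_card)
    have ht4 : 4 ≤ t := by
      have : p ^ 4 ≤ p ^ t := by
        rw [← hA]
        calc p ^ 4 = p * (p * p ^ 2) := by ring
          _ ≤ p * Nat.card M := Nat.mul_le_mul_left _ c1
          _ ≤ _ := c2
      exact (Nat.pow_le_pow_iff_right hp.out.one_lt).1 this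
    rcases Nat.lt_or_ge t 5 with h5 | h5
    · obtain rfl : t = 4 := by omega
      rw [hA, pow_succ p 4] at c3
      have hidx : A.index = p := Nat.eq_of_mul_eq_mul_left (pow_pos hp.out.pos 4) c3
      obtain ⟨u, hu, v, hv, huv⟩ := D.na A hidx
      exact huv (mem_centralizer_iff.1 (hAA hv) u hu)
    · have hAT : A = ⊤ := eq_top_of_card_eq _ (by rw [hA, D.hX, show t = 5 by omega])
      refine D.hex (commutatorElement_eq_one_iff_mul_comm.2 ?_)
      exact mem_centralizer_iff.1 (hAA (hAT ▸ mem_top x)) e (hAT ▸ mem_top e)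
  have hzK : ⁅g', c⁆ ∈ K := D.Z_mod hcZ
  have hcnK : c ∉ K := fun h => hc (commutatorElement_eq_one_iff_commute.2 (hcK h g'))
  obtain ⟨b, hb⟩ := exists_pow_eq_of_card D.cK hzK hc hk0
  have hcp : c ^ p ∈ K := D.Z_pow hcZ
  have hKz : K ≤ zpowers ⁅g', c⁆ := fun k hk =>
    mem_powers_iff_mem_zpowers.1 (exists_pow_eq_of_card D.cK hzK hc hk)
  haveI := D.nK
  have hZK : K ⊔ zpowers c = Z := PGroup.eq_sup_zpowers_of_card D.pgroup D.KZ
    (by rw [D.cZ, D.cK, pow_two]) hcZ hcnK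
  have hZW : Z ≤ closure ({⁅g', e⁆, c, ⁅g', c⁆} : Set X) := by
    rw [← hZK]
    exact sup_le (hKz.trans (zpowers_le.2 (subset_closure (Or.inr (Or.inr rfl)))))
      (zpowers_le.2 (subset_closure (Or.inr (Or.inl rfl))))
  have hxW : x ∈ closure ({⁅g', e⁆, c, ⁅g', c⁆} : Set X) := subset_closure (Or.inl hg'e.symm)
  have hg'p : g' ^ p ∈ closure ({⁅g', e⁆, c, ⁅g', c⁆} : Set X) := by
    haveI := D.nN
    have hpN : g' ^ p ∈ N := by
      rw [← QuotientGroup.eq_one_iff]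
      show QuotientGroup.mk' N (g' ^ p) = 1
      rw [map_pow]
      have : (QuotientGroup.mk' N g') ^ Nat.card (X ⧸ N) = 1 := pow_card_eq_one'
      rwa [show Nat.card (X ⧸ N) = p from D.iN] at this
    haveI := D.nZ
    let ρ := QuotientGroup.mk' Z
    have hρ : ∀ {k}, k ∈ Z → ρ k = 1 := fun h => (QuotientGroup.eq_one_iff _).2 h
    have hex' : Commute (ρ e) (ρ x) := by
      rw [← commutatorElement_eq_one_iff_commute, ← map_commutatorElement]; exact hρ (D.KZ hk0)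
    have hgen : (closure ({e, x} : Set X) ⊔ Z).map ρ = closure {ρ e, ρ x} := by
      rw [Subgroup.map_sup, MonoidHom.map_closure, Set.image_pair]
      refine sup_eq_left.2 ?_
      rintro _ ⟨z, hz, rfl⟩
      rw [hρ hz]
      exact one_mem _
    have hmem : ρ (g' ^ p) ∈ closure {ρ e, ρ x} := hgen ▸ mem_map_of_mem ρ (D.gen hpN)
    obtain ⟨s, t, hst⟩ : ∃ s t : ℤ, ρ e ^ s * ρ x ^ t = ρ (g' ^ p) := by
      clear hgen
      generalize ρ (g' ^ p) = v₀ at hmem ⊢
      induction hmem using closure_induction with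
      | mem v hv =>
        rcases hv with rfl | rfl
        · exact ⟨1, 0, by simp⟩
        · exact ⟨0, 1, by simp⟩
      | one => exact ⟨0, 0, by simp⟩
      | mul v v' _ _ hv hv' =>
        obtain ⟨s, t, rfl⟩ := hv
        obtain ⟨s', t', rfl⟩ := hv'
        refine ⟨s + s', t + t', ?_⟩
        rw [zpow_add, zpow_add, (hex'.zpow_zpow s' t).mul_mul_mul_comm]
      | inv v _ hv =>
        obtain ⟨s, t, rfl⟩ := hv
        exact ⟨-s, -t, by rw [mul_inv_rev, zpow_neg, zpow_neg, (hex'.zpow_zpow s t).inv_inv.eq]⟩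
    obtain ⟨s', hs'⟩ := mem_powers_iff_mem_zpowers.2 (⟨s, rfl⟩ : e ^ s ∈ zpowers e)
    obtain ⟨t', ht'⟩ := mem_powers_iff_mem_zpowers.2 (⟨t, rfl⟩ : x ^ t ∈ zpowers x)
    have hst' : ρ (e ^ s') * ρ (x ^ t') = ρ (g' ^ p) := by
      simp only at hs' ht'
      rw [hs', ht', map_zpow, map_zpow]
      exact hst
    rw [map_pow ρ e, map_pow ρ x] at hst'
    have h1 : Commute (ρ g') (ρ e ^ s' * ρ x ^ t') := by
      rw [hst']
      exact (Commute.self_pow g' p).map ρ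
    have hgx : Commute (ρ g') (ρ x) := by
      rw [← commutatorElement_eq_one_iff_commute, ← map_commutatorElement, hg'x, map_one]
    have h2 : Commute (ρ g') (ρ e ^ s') := by
      have := h1.mul_right ((hgx.pow_right t').inv_right)
      simpa [mul_assoc] using this
    have hk : Commute (ρ g') ⁅ρ g', ρ e⁆ ∧ Commute (ρ e) ⁅ρ g', ρ e⁆ := by
      rw [← map_commutatorElement, hg'e]; exact ⟨hgx, hex'⟩
    have h3 := conj_pow_pow hk.1 hk.2 1 s'
    rw [pow_one, one_mul, commutatorElement_eq_one_iff_commute.2 h2, ← map_commutatorElement, hg'e,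
      ← map_pow] at h3
    have h4 := D.mod_Z_order (m := s') (n := 0) (by
      rw [pow_zero, inv_one, mul_one]
      exact (QuotientGroup.eq_one_iff _).1 h3.symm)
    rw [Nat.cast_zero, ZMod.natCast_eq_zero_iff] at h4
    obtain ⟨r, rfl⟩ := h4
    have hmem2 : (x ^ t')⁻¹ * g' ^ p ∈ Z := by
      rw [← QuotientGroup.eq_one_iff]
      show ρ _ = 1
      rw [map_mul, map_inv, ← hst', map_pow ρ x, pow_mul, ← map_pow ρ e, hρ (D.pow e D.heN), one_pow, one_mul,
        inv_mul_cancel]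
    have := mul_mem (pow_mem hxW t') (hZW hmem2)
    rwa [mul_inv_cancel_left] at this
  refine ⟨g', c, ⟨D.pgroup, ?_, by rw [hg'e]; exact hg'x, ?_, ?_, D.K_center hzK,
    orderOf_eq_prime (D.pow_mem_K hzK) hc, ?_, hKz hcp, hKz hep, ?_⟩, hcZ, hZW⟩
  · set Y := closure ({g', e, c} : Set X)
    have hgY : g' ∈ Y := subset_closure (Or.inl rfl)
    have heY : e ∈ Y := subset_closure (Or.inr (Or.inl rfl))
    have hcY : c ∈ Y := subset_closure (Or.inr (Or.inr rfl))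
    have hcm : ∀ {u v : X}, u ∈ Y → v ∈ Y → ⁅u, v⁆ ∈ Y := fun hu hv =>
      mul_mem (mul_mem (mul_mem hu hv) (inv_mem hu)) (inv_mem hv)
    have hZY : Z ≤ Y := by
      refine hZW.trans ((closure_le _).2 ?_)
      simp only [Set.insert_subset_iff, Set.singleton_subset_iff, SetLike.mem_coe]
      exact ⟨hcm hgY heY, hcY, hcm hgY hcY⟩
    have hNY : N ≤ Y := D.gen.trans (sup_le ((closure_le _).2 (by
      simp only [Set.insert_subset_iff, Set.singleton_subset_iff, SetLike.mem_coe]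
      exact ⟨heY, (show ⁅g, e⁆ = ⁅g', e⁆ from hg'e.symm) ▸ hcm hgY heY⟩)) hZY)
    have hlt : N < Y := lt_of_le_of_ne hNY fun h => hg'N (h ▸ hgY)
    have c1 := PGroup.mul_card_le_of_lt D.pgroup hlt
    have c2 := N.card_mul_index
    rw [D.iN, mul_comm] at c2
    rw [c2] at c1
    exact eq_top_of_card_eq _ (le_antisymm (card_le_card_group _) c1)
  · exact commutatorElement_eq_one_iff_mul_comm.2 (D.comm e D.heN c hcZ)
  · rw [hg'e]
    exact commutatorElement_eq_one_iff_mul_comm.2 (D.comm x D.x_mem c hcZ)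
  · refine ⟨b, fun hdvd => D.hex ?_, by rw [hg'e, hb]⟩
    obtain ⟨r, rfl⟩ := hdvd
    rw [← hb, pow_mul, D.pow_mem_K hzK, one_pow]
  · exact hg'p

/-- A second automorphism has `j ^ 2 = 1`. -/
theorem weight_sq {g' c : X} (B : GroupB p g' e c) (hcZ : c ∈ Z) (hZW : Z ≤ B.W)
    (f : MulAut X) {j : ℕ} (hfe : (e ^ j)⁻¹ * f e ∈ Z) (hfZ : ∀ z ∈ Z, z⁻¹ * f z ∈ K) :
    (j : ZMod p) * j = 1 := by
  have hα : f e = g' ^ 0 * e ^ j * ((e ^ j)⁻¹ * f e) := by rw [pow_zero, one_mul, mul_inv_cancel_left]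
  obtain ⟨-, hH⟩ := B.weights f (hZW hfe) hα
  have hz1 : ⁅g', c⁆ ≠ 1 := fun h => by
    have := B.hzp
    rw [h, orderOf_one] at this
    exact hp.out.one_lt.ne this
  have hKH : K ≤ B.H := fun k hk => B.K_le_H
    (mem_powers_iff_mem_zpowers.1 (exists_pow_eq_of_card D.cK (D.Z_mod hcZ) hz1 hk))
  haveI : B.H.Normal := by rw [B.H_eq_frattini]; infer_instance
  have h1 : f c * c⁻¹ ∈ B.H := by
    have h := (inferInstance : B.H.Normal).conj_mem _ (hKH (hfZ c hcZ)) c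
    rwa [mul_inv_cancel_left] at h
  have h2 : c ^ (j * j) * c⁻¹ ∈ B.H := by
    have h := mul_mem (inv_mem hH) h1
    rwa [mul_inv_rev, inv_inv, mul_assoc, inv_mul_cancel_left] at h
  by_contra hne
  refine B.c_not_mem_H ?_
  -- `c ^ (j*j - 1) ∈ H` with exponent prime to `p`
  have hcp : c ^ p ∈ B.H := hKH (D.Z_pow hcZ)
  let q := QuotientGroup.mk' B.H
  have h3 : q c ^ (j * j) = q c ^ 1 := by
    rw [pow_one, ← map_pow, ← mul_inv_eq_one, ← map_inv, ← map_mul]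
    exact (QuotientGroup.eq_one_iff _).2 h2
  rw [← QuotientGroup.eq_one_iff]
  by_contra hq
  have h4 := cast_eq_of_pow (orderOf_eq_prime
    (show q c ^ p = 1 by rw [← map_pow]; exact (QuotientGroup.eq_one_iff _).2 hcp) hq) h3
  push_cast at h4
  exact hne h4

end NData

end Cfsg.Agent.OrderFive
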