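import Cfsg.Agent.Lib.OrderFive.Ready
import Cfsg.Agent.Lib.OrderFive.NCase

/-!
# An essential subgroup of order `p⁴`

`nData`: the configuration `NData` attached to a subgroup `N` of order `p⁴` with `NonAb p N`.
`good_of_fourth`: an essential subgroup of order `p⁴` forces `p = 3` and `Good`.
-/

set_option autoImplicit false
set_option linter.unusedSectionVars false
set_option linter.style.haveILetI false

open Subgroup
open scoped commutatorElement

namespace Cfsg.Agent.OrderFive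

open Cfsg Cfsg.FusionSystem Cfsg.Agent.Fusion

variable {p : ℕ} [hp : Fact p.Prime] {Ω : Type*} [Group Ω] {S : Subgroup Ω} [Finite S] {F : FusionSystem S}

/-- A subgroup of `N` as a subgroup of `S`. -/
def inS {N : Subgroup Ω} (hN : N ≤ S) (U : Subgroup N) : Subgroup S := U.map (Subgroup.inclusion hN)

theorem mem_inS {N : Subgroup Ω} {hN : N ≤ S} {U : Subgroup N} {s : S} :
    s ∈ inS hN U ↔ ∃ h : (s : Ω) ∈ N, (⟨s, h⟩ : N) ∈ U := by
  constructor
  · rintro ⟨u, hu, rfl⟩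
    exact ⟨u.2, hu⟩
  · rintro ⟨h, hu⟩
    exact ⟨_, hu, Subtype.ext rfl⟩

variable (h5 : Five p F)

include h5

theorem two_ne : (2 : ZMod p) ≠ 0 := fun h => by
  rw [show (2 : ZMod p) = ((2 : ℕ) : ZMod p) by norm_num, ZMod.natCast_eq_zero_iff] at h
  exact h5.p2 ((Nat.prime_dvd_prime_iff_eq hp.out Nat.prime_two).1 h)

theorem eq_three {l : ZMod p} (hl : l = 2) (h : l⁻¹ * l⁻¹ = 1) : p = 3 := by
  subst hl
  have h4 : ((3 : ℕ) : ZMod p) = 0 := by
    have h2 := two_ne h5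
    field_simp at h
    push_cast
    linear_combination -h
  exact (Nat.prime_dvd_prime_iff_eq hp.out Nat.prime_three).1 ((ZMod.natCast_eq_zero_iff 3 p).1 h4)

theorem good_of_groupB {g e c : S} (B : GroupB p g e c) (hp3 : p = 3) : Good p F := by
  refine ⟨hp3, c, B.c_not_mem_frattini, fun α _ => ?_⟩
  obtain ⟨i, j, w, hw, hα⟩ := B.exists_form (α e)
  obtain ⟨hj, hH⟩ := B.weights α hw hα
  have hj1 : j * j % 3 = 1 := by
    have h3 : j % 3 ≠ 0 := fun h => hj (by rw [hp3]; exact Nat.dvd_of_mod_eq_zero h)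
    rcases (show j % 3 = 1 ∨ j % 3 = 2 by omega) with h | h <;> simp [Nat.mul_mod, h]
  have hsplit : c ^ (j * j) = c ^ (3 * (j * j / 3)) * c := by
    rw [← pow_succ, ← hj1, Nat.div_add_mod]
  have h2 : c ^ (3 * (j * j / 3)) ∈ B.H := B.pow_mem_H (by rw [hp3]; exact dvd_mul_right _ _)
  rw [← B.H_eq_frattini]
  have e' : α c * c⁻¹ = α c * (c ^ (j * j))⁻¹ * c ^ (3 * (j * j / 3)) := by rw [hsplit]; group
  rw [e']
  exact B.H.mul_mem hH h2

theorem idx_subgroupOf {N : Subgroup Ω} (hN : N ≤ S) (hc : Nat.card N = p ^ 4) :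
    (N.subgroupOf S).index = p := by
  have h := (N.subgroupOf S).card_mul_index
  rw [Nat.card_congr (subgroupOfEquivOfLe hN).toEquiv, hc, h5.card, pow_succ] at h
  exact Nat.eq_of_mul_eq_mul_left (pow_pos hp.out.pos 4) h

theorem normal_fourth {N : Subgroup Ω} (hN : N ≤ S) (hc : Nat.card N = p ^ 4) : (N.subgroupOf S).Normal :=
  ⟨fun n hn t => mem_subgroupOf.2
    (normalizerIn_conj ((normalizerIn_fourth h5 hN hc).ge t.2) (mem_subgroupOf.1 hn))⟩

theorem normal_inS {N : Subgroup Ω} (hN : N ≤ S) (hc : Nat.card N = p ^ 4) (U : Subgroup N)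
    [U.Characteristic] : (inS hN U).Normal := by
  refine ⟨fun n hn t => ?_⟩
  obtain ⟨h, hu⟩ := mem_inS.1 hn
  have ht : (t : Ω) ∈ normalizerIn S N := (normalizerIn_fourth h5 hN hc).ge t.2
  refine mem_inS.2 ⟨normalizerIn_conj ht h, ?_⟩
  have := (characteristic_iff_map_le.1 (inferInstance : U.Characteristic) (normConj S N ⟨t, ht⟩))
    ⟨_, hu, rfl⟩
  exact this

/-- The configuration on `S`. -/
theorem nData {N : Subgroup Ω} (hN : N ≤ S) (hc : Nat.card N = p ^ 4) (hNA : NonAb p N) {g e : S}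
    (hgN : (g : Ω) ∉ N) (he : (e : Ω) ∈ N) (heZ : e ∉ inS hN (center N))
    (hxZ : ⁅g, e⁆ ∉ inS hN (center N) ⊔ zpowers e) (hgx : ⁅g, ⁅g, e⁆⁆ ∈ inS hN (center N)) :
    NData p (N.subgroupOf S) (inS hN (center N)) (inS hN (commutator N)) g e := by
  have := finite_of_le hN
  set N' := N.subgroupOf S
  set Z := inS hN (center N) with hZ
  haveI hnN : N'.Normal := normal_fourth h5 hN hc
  haveI hnZ : Z.Normal := normal_inS h5 hN hc _
  have hinj := Subgroup.inclusion_injective hN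
  have hcZ : Nat.card Z = p ^ 2 := by
    rw [hZ, inS, Subgroup.card_map_of_injective hinj]
    have h := (center N).card_mul_index
    rw [hNA.idx, hc, show p ^ 4 = p ^ 2 * p ^ 2 by ring] at h
    exact Nat.eq_of_mul_eq_mul_right (pow_pos hp.out.pos 2) h
  have hZN : Z ≤ N' := fun s hs => (mem_inS.1 hs).1
  have hxN : ⁅g, e⁆ ∈ N' := mul_mem (hnN.conj_mem _ he g) (inv_mem he)
  have hgen : N' ≤ closure ({e, ⁅g, e⁆} : Set S) ⊔ Z := by
    have h1 : Z < Z ⊔ zpowers e := left_lt_sup.2 (fun h => heZ (h (mem_zpowers e)))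
    have h2 : Z ⊔ zpowers e < Z ⊔ zpowers e ⊔ zpowers ⁅g, e⁆ :=
      left_lt_sup.2 (fun h => hxZ (h (mem_zpowers _)))
    have h3 := PGroup.mul_card_le_of_lt h5.pg h1
    have h4 := PGroup.mul_card_le_of_lt h5.pg h2
    have h6 : Z ⊔ zpowers e ⊔ zpowers ⁅g, e⁆ = N' := by
      refine PGroup.eq_of_le_of_card_le (sup_le (sup_le hZN (zpowers_le.2 he)) (zpowers_le.2 hxN)) ?_
      rw [Nat.card_congr (subgroupOfEquivOfLe hN).toEquiv, hc]
      refine le_trans ?_ h4
      calc p ^ 4 = p * (p * p ^ 2) := by ring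
        _ ≤ _ := Nat.mul_le_mul_left _ (hcZ ▸ h3)
    rw [← h6]
    have he1 : e ∈ closure ({e, ⁅g, e⁆} : Set S) := Subgroup.subset_closure (Set.mem_insert _ _)
    have hx1 : ⁅g, e⁆ ∈ closure ({e, ⁅g, e⁆} : Set S) :=
      Subgroup.subset_closure (Set.mem_insert_of_mem _ rfl)
    exact sup_le (sup_le le_sup_right ((zpowers_le.2 he1).trans le_sup_left))
      ((zpowers_le.2 hx1).trans le_sup_left)
  have hcomm : ∀ n ∈ N', ∀ z ∈ Z, n * z = z * n := fun n hn z hz => by
    obtain ⟨h, hu⟩ := mem_inS.1 hz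
    exact Subtype.ext (congrArg Subtype.val (mem_center_iff.1 hu ⟨n, hn⟩) :)
  exact
  { pgroup := h5.pg
    hX := h5.card
    nN := hnN
    iN := idx_subgroupOf h5 hN hc
    nZ := hnZ
    nK := normal_inS h5 hN hc _
    cZ := hcZ
    cK := by rw [inS, Subgroup.card_map_of_injective hinj]; exact hNA.card_der
    KZ := Subgroup.map_mono hNA.der_le
    ZN := hZN
    hgN := hgN
    heN := he
    comm := hcomm
    der := fun m hm n hn => ⟨⁅(⟨m, hm⟩ : N), ⟨n, hn⟩⁆, commutator_mem_commutator (mem_top _) (mem_top _),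
      Subtype.ext rfl⟩
    pow := fun n hn => ⟨(⟨n, hn⟩ : N) ^ p, hNA.pow _, Subtype.ext rfl⟩
    gen := hgen
    hgx := hgx
    hex := by
      intro hex
      refine heZ (mem_inS.2 ⟨he, mem_center_iff.2 fun u => Subtype.ext ?_⟩)
      have hle : closure ({e, ⁅g, e⁆} : Set S) ⊔ Z ≤ centralizer ({e} : Set S) := by
        refine sup_le ((closure_le _).2 ?_) fun z hz => mem_centralizer_singleton_iff.2 (hcomm e he z hz).symm
        rintro t (rfl | rfl)
        · exact mem_centralizer_singleton_iff.2 rfl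
        · exact mem_centralizer_singleton_iff.2 (commutatorElement_eq_one_iff_mul_comm.1 hex).symm
      have h := mem_centralizer_singleton_iff.1 (hle (hgen (show (⟨u, hN u.2⟩ : S) ∈ N' from u.2)))
      exact (congrArg Subtype.val h :)
    na := h5.na }

/-- An essential subgroup of order `p⁴`. -/
theorem good_of_fourth (hp7 : p ≠ 7) {E : Subgroup Ω} (hE : F.IsEssential p E) (hc : Nat.card E = p ^ 4) :
    Good p F := by
  have hES := hE.1.1
  have := finite_of_le (S := S) hES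
  have hN := normalizerIn_fourth h5 hES hc
  have hNA : NonAb p E := nonAb_of_fourth h5.pg h5.sat hE h5.p2 hc (not_comm_fourth h5 hES hc)
  obtain ⟨R, hproj, -⟩ := exists_rep_nonAb h5.pg h5.sat hE hNA
  have hV : Nat.card (Vq (center E)) = p ^ 2 := by rw [card_Vq _ hNA.der_le, hNA.idx]
  have hk : ∀ u : E, R.proj u = 1 ↔ u ∈ center E := fun u => by rw [hproj, qproj_eq_one _ hNA.der_le]
  obtain ⟨y, hyN, hyE⟩ := SetLike.exists_of_lt (lt_normalizerIn h5.pg le_rfl (lt_S h5.pg h5.sat hE))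
  obtain ⟨⟨P, hP⟩, hgen⟩ := exists_trans_plane h5.pg h5.sat hE R hV (y := ⟨y, hyN⟩) hyE
  obtain ⟨γ, hγ, hγu⟩ := exists_not_mem_up h5.pg h5.sat hE
  have ha := isOuterP_conj h5.pg h5.sat hE hyN hyE
  have hne := R.not_fix h5.pg h5.sat hE ha ha hγ hγu hP
  set τ := R.act (normConj S E ⟨y, hyN⟩) with hτ
  set P' := R.act γ P with hP'
  obtain ⟨e, he⟩ := R.surj P'
  obtain ⟨a, haP⟩ := hP.exists_coef R.expV P'
  have ha0 : a ≠ 0 := fun h => hne (by rw [haP, h, pw_zero, mul_one])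
  set g : S := ⟨y, hyN.1⟩
  set e' : S := Subgroup.inclusion hES e with he'
  have hconj : ∀ u : E, ⁅g, Subgroup.inclusion hES u⁆ =
      Subgroup.inclusion hES (normConj S E ⟨y, hyN⟩ u * u⁻¹) := fun u => Subtype.ext rfl
  have hprojc : ∀ u : E, R.proj (normConj S E ⟨y, hyN⟩ u * u⁻¹) = τ (R.proj u) * (R.proj u)⁻¹ :=
    fun u => by rw [map_mul, map_inv, R.comm]
  set xE := normConj S E ⟨y, hyN⟩ e * e⁻¹ with hxE
  have hprojx : R.proj xE = pw P a := by
    rw [hxE, hprojc, he, haP, mul_inv_cancel_comm]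
  have hmem : ∀ u : E, Subgroup.inclusion hES u ∈ inS hES (center E) ↔ R.proj u = 1 := fun u => by
    rw [hk, inS, mem_map_iff_mem (Subgroup.inclusion_injective hES)]
  have heZ : e' ∉ inS hES (center E) := fun h => hne (by
    rw [← he, (hmem e).1 h, map_one])
  have hxZ : ⁅g, e'⁆ ∉ inS hES (center E) ⊔ zpowers e' := by
    intro h
    rw [he', hconj, inS, ← MonoidHom.map_zpowers, ← Subgroup.map_sup,
      mem_map_iff_mem (Subgroup.inclusion_injective hES)] at h
    obtain ⟨z, hz, w, hw, hzw⟩ := mem_sup_of_normal_left.1 h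
    obtain ⟨n, rfl⟩ := Subgroup.mem_zpowers_iff.1 hw
    have h1 : pw P a = P' ^ n := by
      rw [← hprojx, hxE, ← hzw, map_mul, (hk z).2 hz, one_mul, map_zpow, he]
    have h2 : τ (pw P a) = pw P a := by rw [map_pw, hP.fix]
    have hQ : pw P a ≠ 1 := fun h => ha0 ((pw_eq_one_iff R.expV hP.ne a).1 h)
    have h3 : (pw P a) ^ n = 1 := by
      have h4 : τ (pw P a) = pw P a * (pw P a) ^ n := by
        conv_lhs => rw [h1, map_zpow, haP, mul_zpow, ← h1]
      rw [h2] at h4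
      exact mul_eq_left.1 h4.symm
    have hn : (p : ℤ) ∣ n := by
      rw [← orderOf_eq_prime (R.expV (pw P a)) hQ]
      exact orderOf_dvd_iff_zpow_eq_one.2 h3
    obtain ⟨m, rfl⟩ := hn
    rw [zpow_mul, zpow_natCast, R.expV, one_zpow] at h1
    exact hQ h1
  have hgx : ⁅g, ⁅g, e'⁆⁆ ∈ inS hES (center E) := by
    rw [he', hconj, hconj, hmem, hprojc, hprojx, map_pw, hP.fix, mul_inv_cancel]
  have D := nData h5 hES hc hNA (g := g) (e := e') hyE e.2 heZ hxZ hgx
  have h2 := two_ne h5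
  obtain ⟨h, hh, e1, e2, -, -, -, f, hf, hfe, -⟩ :=
    R.exists_torus_extension h5.pg h5.sat hE (y := ⟨y, hyN⟩) hyE hgen hγ hγu hP (l := 2) h2
  rw [hN] at hf
  obtain ⟨φ, hφ, hφf⟩ := exists_aut_of_isIso hf
  have hφE : ∀ u : E, φ (Subgroup.inclusion hES u) = Subgroup.inclusion hES (h u) := fun u =>
    Subtype.ext (by rw [hφf]; exact (hfe u u.2).trans (autFn_apply h u.2))
  have hmod : ∀ (u : E) (j : ℕ), R.act h (R.proj u) = R.proj u ^ j →
      (Subgroup.inclusion hES u ^ j)⁻¹ * φ (Subgroup.inclusion hES u) ∈ inS hES (center E) := by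
    intro u j hu
    rw [hφE, ← map_pow, ← map_inv, ← map_mul, hmem, map_mul, map_inv, map_pow, R.comm, hu, inv_mul_cancel]
  have hfe' : (e' ^ ((2 : ZMod p)⁻¹).val)⁻¹ * φ e' ∈ inS hES (center E) := by
    refine hmod e _ ?_
    rw [he, hP', e2]
    rfl
  have hfx : (⁅g, e'⁆ ^ (2 : ZMod p).val)⁻¹ * φ ⁅g, e'⁆ ∈ inS hES (center E) := by
    rw [he', hconj]
    refine hmod _ _ ?_
    rw [hprojx, map_pw, e1, pw_mul R.expV, mul_comm, ← pw_mul R.expV]
    rfl
  have hfZ : ∀ z ∈ inS hES (center E), z⁻¹ * φ z ∈ inS hES (commutator E) := by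
    rintro _ ⟨u, hu, rfl⟩
    rw [hφE, ← map_inv, ← map_mul]
    exact mem_map_of_mem _ (G0_factor h5.pg h5.sat hE hNA.der_le hNA.card_center hh hu)
  have h7 : (7 : ZMod p) ≠ 0 := fun h => by
    rw [show (7 : ZMod p) = ((7 : ℕ) : ZMod p) by norm_num, ZMod.natCast_eq_zero_iff] at h
    exact hp7 ((Nat.prime_dvd_prime_iff_eq hp.out (by norm_num)).1 h)
  obtain ⟨hgx', hep⟩ := D.commute_mod φ hfe' hfx hfZ
    (by
      rw [ZMod.natCast_zmod_val, Ne, inv_eq_one]
      exact fun h => one_ne_zero (α := ZMod p) (by linear_combination h))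
    (by
      rw [ZMod.natCast_zmod_val, ZMod.natCast_zmod_val]
      intro h
      field_simp at h
      exact h7 (by linear_combination h))
  obtain ⟨g', c, B, hcZ, hZW⟩ := D.exists_groupB hgx' hep
  refine good_of_groupB h5 B (eq_three h5 rfl ?_)
  have := D.weight_sq B hcZ hZW φ hfe' hfZ
  rwa [ZMod.natCast_zmod_val] at this

end Cfsg.Agent.OrderFive
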