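import Cfsg.Agent.Lib.OrderFive.GroupB
import Cfsg.Agent.Lib.MaxClass.TwoStep

/-!
# Groups of order `p^5` of maximal class without an abelian subgroup of index `p`

`MaxFive p x s`: `x` outside the two-step centralizer `S₁ = twoStep X 2`, `s ∈ S₁ \ X'`.
`MaxFive.weights`: an automorphism with `x ↦ x^a` modulo `S₁` has weights `a²` on `s` and `a⁵` on the centre.
-/

set_option autoImplicit false
set_option linter.unusedSectionVars false
set_option linter.style.haveILetI false

open Subgroup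
open scoped commutatorElement

universe u

namespace Cfsg.Agent.OrderFive

open PearlRank (L)
open MaxClassPower

variable {X : Type u} [Group X] [Finite X] {p : ℕ} [hp : Fact p.Prime]

theorem comm_L_mem {i : ℕ} {u : X} (hu : u ∈ L X i) (g : X) : ⁅g, u⁆ ∈ L X (i + 1) := by
  rw [← commutatorElement_inv]
  exact inv_mem (commutator_mem_commutator hu (mem_top g))

theorem L_map_mem (α : MulAut X) {i : ℕ} {u : X} (hu : u ∈ L X i) : α u ∈ L X i := by
  have h : (L X i).map α.toMonoidHom = L X i := by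
    show ((⊤ : Subgroup X).lowerCentralSeries i).map _ = _
    rw [Subgroup.map_lowerCentralSeries, map_top_of_surjective _ α.surjective]
  exact h.le (mem_map_of_mem _ hu)

/-- The configuration. -/
structure MaxFive (p : ℕ) (x s : X) : Prop where
  mc : Mc X p 5
  hx : x ∉ twoStep X 2
  hs : s ∈ twoStep X 2
  hsL : s ∉ L X 1
  na : ∀ A : Subgroup X, A.index = p → ∃ u ∈ A, ∃ v ∈ A, u * v ≠ v * u

theorem index_twoStep (c : Mc X p 5) : (twoStep X 2).index = p := by
  have h1 := c.twoStep_index_le (i := 2) (by norm_num) (by norm_num)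
  obtain ⟨k, -, hk⟩ := (Nat.dvd_prime_pow hp.out).1 (c.card ▸ (twoStep X 2).index_dvd_card)
  rcases k with _ | _ | k
  · rw [pow_zero, index_eq_one] at hk
    exact absurd hk (c.twoStep_ne_top (by norm_num) (by norm_num))
  · rwa [pow_one] at hk
  · rw [hk] at h1
    exact absurd h1 (not_le.2 (by simpa using Nat.pow_lt_pow_right hp.out.one_lt (show 1 < k + 2 by omega)))

theorem exists_maxFive (c : Mc X p 5) {x : X} (hx : x ∉ twoStep X 2)
    (hna : ∀ A : Subgroup X, A.index = p → ∃ u ∈ A, ∃ v ∈ A, u * v ≠ v * u) :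
    ∃ s, MaxFive p x s := by
  obtain ⟨s, hs, hsL⟩ : ∃ s ∈ twoStep X 2, s ∉ L X 1 := by
    by_contra h
    push Not at h
    have h1 := Subgroup.card_le_of_le (show twoStep X 2 ≤ L X 1 from h)
    have h2 := (twoStep X 2).card_mul_index
    rw [index_twoStep c, c.card] at h2
    rw [c.card_L le_rfl] at h1
    have : p ^ 5 ≤ p ^ 4 := by
      calc p ^ 5 = Nat.card (twoStep X 2) * p := h2.symm
        _ ≤ p ^ (5 - 1 - 1) * p := Nat.mul_le_mul_right _ h1
        _ = p ^ 4 := by ring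
    exact absurd ((Nat.pow_le_pow_iff_right hp.out.one_lt).1 this) (by norm_num)
  exact ⟨s, c, hx, hs, hsL, hna⟩

namespace MaxFive

variable {x s : X} (M : MaxFive p x s)

include M

theorem L_four : L X 4 = ⊥ := M.mc.L_bot (le_refl _)

theorem L_three_center {u : X} (hu : u ∈ L X 3) (g : X) : Commute g u := by
  have h := comm_L_mem hu g
  rw [M.L_four, mem_bot] at h
  exact commutatorElement_eq_one_iff_commute.1 h

theorem commute_S1 {g u : X} (hg : g ∈ twoStep X 2) (hu : u ∈ L X 2) : Commute g u := by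
  have h := mem_twoStep.1 hg u hu
  rw [M.L_four, mem_bot] at h
  exact commutatorElement_eq_one_iff_commute.1 h

theorem S1_eq : L X 1 ⊔ zpowers s = twoStep X 2 := by
  refine PGroup.eq_sup_zpowers_of_card M.mc.pGroup (L_one_le_twoStep 2) ?_ M.hs M.hsL
  have h2 := (twoStep X 2).card_mul_index
  rw [index_twoStep M.mc, M.mc.card] at h2
  rw [M.mc.card_L le_rfl]
  refine le_of_eq (Nat.eq_of_mul_eq_mul_right hp.out.pos ?_)
  rw [h2]; ring

theorem top_eq : twoStep X 2 ⊔ zpowers x = ⊤ := by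
  refine PGroup.eq_sup_zpowers_of_card M.mc.pGroup le_top ?_ (mem_top x) M.hx
  have h2 := (twoStep X 2).card_mul_index
  rw [index_twoStep M.mc] at h2
  rw [card_top, ← h2, mul_comm]

theorem s2_mem : ⁅x, s⁆ ∈ L X 1 := by
  have : s ∈ L X 0 := mem_top s
  exact comm_L_mem this x

theorem s2_not_mem : ⁅x, s⁆ ∉ L X 2 := by
  intro h
  refine M.mc.L_lt (i := 1) le_rfl (by norm_num) ?_
  show ⁅(⊤ : Subgroup X).lowerCentralSeries 0, (⊤ : Subgroup X)⁆ ≤ L X 2
  rw [commutator_le]
  haveI : (L X 2).Normal := inferInstance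
  let q := QuotientGroup.mk' (L X 2)
  have hgen : ∀ g : X, Commute (q g) (q x) ∧ Commute (q g) (q s) := by
    have hz : ∀ {u : X}, u ∈ L X 1 → ∀ g, Commute (q g) (q u) := fun hu g => by
      rw [← commutatorElement_eq_one_iff_commute, ← map_commutatorElement]
      exact (QuotientGroup.eq_one_iff _).2 (comm_L_mem hu g)
    have hxs : Commute (q x) (q s) := by
      rw [← commutatorElement_eq_one_iff_commute, ← map_commutatorElement]
      exact (QuotientGroup.eq_one_iff _).2 h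
    have hle : (⊤ : Subgroup X) ≤ (centralizer ({q x, q s} : Set (X ⧸ L X 2))).comap q := by
      rw [← M.top_eq, ← M.S1_eq]
      refine sup_le (sup_le (fun u hu => ?_) (zpowers_le.2 ?_)) (zpowers_le.2 ?_) <;>
        refine mem_comap.2 (mem_centralizer_iff.2 ?_) <;> rintro v (rfl | rfl)
      · exact (hz hu x).eq
      · exact (hz hu s).eq
      · exact hxs.eq
      · rfl
      · rfl
      · exact hxs.symm.eq
    intro g
    exact ⟨(mem_centralizer_iff.1 (hle (mem_top g)) (q x) (Or.inl rfl)).symm,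
      (mem_centralizer_iff.1 (hle (mem_top g)) (q s) (Or.inr rfl)).symm⟩
  intro a _ b _
  rw [← QuotientGroup.eq_one_iff]
  show q ⁅a, b⁆ = 1
  rw [map_commutatorElement, commutatorElement_eq_one_iff_commute]
  have hle : (⊤ : Subgroup X) ≤ (centralizer ({q a} : Set (X ⧸ L X 2))).comap q := by
    rw [← M.top_eq, ← M.S1_eq]
    refine sup_le (sup_le (fun u hu => ?_) (zpowers_le.2 ?_)) (zpowers_le.2 ?_) <;>
      refine mem_comap.2 (mem_centralizer_singleton_iff.2 ?_)
    · have h1 := comm_L_mem hu a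
      have h2 : Commute (q a) (q u) := by
        rw [← commutatorElement_eq_one_iff_commute, ← map_commutatorElement]
        exact (QuotientGroup.eq_one_iff _).2 h1
      exact h2.eq.symm
    · exact (hgen a).2.eq.symm
    · exact (hgen a).1.eq.symm
  exact (mem_centralizer_singleton_iff.1 (hle (mem_top b))).symm

theorem s3_mem : ⁅x, ⁅x, s⁆⁆ ∈ L X 2 := comm_L_mem M.s2_mem x

/-- `[s, [x, s]]` lies in the last term. -/
theorem comm_s_mem : ⁅s, ⁅x, s⁆⁆ ∈ L X 3 := by
  have hc : ⁅s, ⁅x, s⁆⁆ ∈ L X 2 := comm_L_mem M.s2_mem s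
  by_contra hne
  refine M.hx (M.mc.mem_twoStep_of (i := 2) (by norm_num) hc hne ?_)
  suffices hx : x * ⁅s, ⁅x, s⁆⁆ * x⁻¹ = ⁅s, ⁅x, s⁆⁆ by
    rw [commutatorElement_def x, hx, mul_inv_cancel]
    exact one_mem _
  have e1 : x * ⁅s, ⁅x, s⁆⁆ * x⁻¹ = ⁅⁅x, s⁆ * s, ⁅x, ⁅x, s⁆⁆ * ⁅x, s⁆⁆ := by
    simp only [commutatorElement_def]; group
  rw [e1]
  have h1 : Commute (⁅x, s⁆ * s) ⁅x, ⁅x, s⁆⁆ :=
    M.commute_S1 (mul_mem (L_one_le_twoStep 2 M.s2_mem) M.hs) M.s3_mem
  have h2 : Commute ⁅x, s⁆ ⁅s, ⁅x, s⁆⁆ := M.commute_S1 (L_one_le_twoStep 2 M.s2_mem) hc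
  have h3 : Commute ⁅x, ⁅x, s⁆⁆ ⁅s, ⁅x, s⁆⁆ :=
    M.commute_S1 (L_one_le_twoStep 2 (Subgroup.lowerCentralSeries_antitone _ (by norm_num) M.s3_mem)) hc
  generalize ⁅x, ⁅x, s⁆⁆ = s3 at h1 h3
  generalize ⁅x, s⁆ = s2 at h1 h2 h3
  calc ⁅s2 * s, s3 * s2⁆ = s2 * s * s3 * s2 * (s2 * s)⁻¹ * s2⁻¹ * s3⁻¹ := by
        simp only [commutatorElement_def]; group
    _ = s3 * (s2 * s * s2 * (s2 * s)⁻¹ * s2⁻¹) * s3⁻¹ := by rw [h1.eq]; group
    _ = s3 * (s2 * ⁅s, s2⁆ * s2⁻¹) * s3⁻¹ := by simp only [commutatorElement_def]; group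
    _ = s3 * ⁅s, s2⁆ * s3⁻¹ := by rw [h2.eq, mul_inv_cancel_right]
    _ = ⁅s, s2⁆ := by rw [h3.eq, mul_inv_cancel_right]

theorem commute_L1 {u v : X} (hu : u ∈ L X 1) (hv : v ∈ L X 1) : Commute u v := by
  have hle : L X 1 ≤ centralizer ({⁅x, s⁆} : Set X) := by
    rw [← M.mc.gen_L le_rfl M.s2_mem M.s2_not_mem]
    exact sup_le (fun w hw => mem_centralizer_singleton_iff.2
      (M.commute_S1 (L_one_le_twoStep 2 M.s2_mem) hw).eq.symm)
      (zpowers_le.2 (mem_centralizer_singleton_iff.2 rfl))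
  have h2 : L X 1 ≤ centralizer ({u} : Set X) := by
    rw [← M.mc.gen_L le_rfl M.s2_mem M.s2_not_mem]
    exact sup_le (fun w hw => mem_centralizer_singleton_iff.2
      (M.commute_S1 (L_one_le_twoStep 2 hu) hw).eq.symm)
      (zpowers_le.2 (mem_centralizer_singleton_iff.2 (mem_centralizer_singleton_iff.1 (hle hu)).symm))
  exact (mem_centralizer_singleton_iff.1 (h2 hv)).symm

theorem s3_not_mem : ⁅x, ⁅x, s⁆⁆ ∉ L X 3 := by
  intro h
  refine M.mc.L_lt (i := 2) (by norm_num) (by norm_num) ?_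
  show ⁅(⊤ : Subgroup X).lowerCentralSeries 1, (⊤ : Subgroup X)⁆ ≤ L X 3
  rw [commutator_le]
  let q := QuotientGroup.mk' (L X 3)
  have hq : ∀ {k : X}, k ∈ L X 3 → q k = 1 := fun h => (QuotientGroup.eq_one_iff _).2 h
  intro a ha b _
  rw [← QuotientGroup.eq_one_iff]
  show q ⁅a, b⁆ = 1
  rw [map_commutatorElement, commutatorElement_eq_one_iff_commute]
  have h1 : ∀ b, Commute (q ⁅x, s⁆) (q b) := by
    intro b
    have hle : (⊤ : Subgroup X) ≤ (centralizer ({q ⁅x, s⁆} : Set (X ⧸ L X 3))).comap q := by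
      refine M.top_eq.ge.trans ?_
      rw [← M.S1_eq]
      refine sup_le (sup_le (fun u hu => ?_) (zpowers_le.2 ?_)) (zpowers_le.2 ?_) <;>
        refine mem_comap.2 (mem_centralizer_singleton_iff.2 ?_)
      · exact ((M.commute_L1 hu M.s2_mem).map q).eq
      · have h2 : Commute (q s) (q ⁅x, s⁆) := by
          rw [← commutatorElement_eq_one_iff_commute, ← map_commutatorElement]; exact hq M.comm_s_mem
        exact h2.eq
      · have h2 : Commute (q x) (q ⁅x, s⁆) := by
          rw [← commutatorElement_eq_one_iff_commute, ← map_commutatorElement]; exact hq h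
        exact h2.eq
    exact (mem_centralizer_singleton_iff.1 (hle (mem_top b))).symm
  have hle : L X 1 ≤ (centralizer ({q b} : Set (X ⧸ L X 3))).comap q := by
    rw [← M.mc.gen_L le_rfl M.s2_mem M.s2_not_mem]
    refine sup_le (fun w hw => ?_) (zpowers_le.2 ?_) <;> refine mem_comap.2 (mem_centralizer_singleton_iff.2 ?_)
    · have h2 : Commute (q b) (q w) := by
        rw [← commutatorElement_eq_one_iff_commute, ← map_commutatorElement]; exact hq (comm_L_mem hw b)
      exact h2.eq.symm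
    · exact (h1 b).eq
  exact mem_centralizer_singleton_iff.1 (hle ha)

theorem z_mem : ⁅x, ⁅x, ⁅x, s⁆⁆⁆ ∈ L X 3 := comm_L_mem M.s3_mem x

theorem z_ne : ⁅x, ⁅x, ⁅x, s⁆⁆⁆ ≠ 1 := fun h =>
  M.hx (M.mc.mem_twoStep_of (by norm_num) M.s3_mem M.s3_not_mem (by rw [h]; exact one_mem _))

theorem orderOf_z : orderOf ⁅x, ⁅x, ⁅x, s⁆⁆⁆ = p := by
  refine orderOf_eq_prime ?_ M.z_ne
  have h : (⟨_, M.z_mem⟩ : L X 3) ^ Nat.card (L X 3) = 1 := pow_card_eq_one'
  rw [M.mc.card_L (by norm_num), show 5 - 1 - 3 = 1 from rfl, pow_one] at h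
  exact congrArg Subtype.val h

theorem comm_s_ne : ⁅s, ⁅x, s⁆⁆ ≠ 1 := by
  intro h
  obtain ⟨u, hu, v, hv, huv⟩ := M.na _ (index_twoStep M.mc)
  have h1 : twoStep X 2 ≤ centralizer ({⁅x, s⁆} : Set X) := by
    rw [← M.S1_eq]
    exact sup_le (fun w hw => mem_centralizer_singleton_iff.2 (M.commute_L1 hw M.s2_mem).eq)
      (zpowers_le.2 (mem_centralizer_singleton_iff.2 (commutatorElement_eq_one_iff_mul_comm.1 h)))
  have h2 : L X 1 ≤ centralizer ({s} : Set X) := by
    rw [← M.mc.gen_L le_rfl M.s2_mem M.s2_not_mem]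
    exact sup_le (fun w hw => mem_centralizer_singleton_iff.2 (M.commute_S1 M.hs hw).eq.symm)
      (zpowers_le.2 (mem_centralizer_singleton_iff.2 (mem_centralizer_singleton_iff.1 (h1 M.hs)).symm))
  refine huv ?_
  have h3 : twoStep X 2 ≤ centralizer ({u} : Set X) := by
    have hus : u * s = s * u := by
      have : twoStep X 2 ≤ centralizer ({s} : Set X) := by
        rw [← M.S1_eq]
        exact sup_le h2 (zpowers_le.2 (mem_centralizer_singleton_iff.2 rfl))
      exact mem_centralizer_singleton_iff.1 (this hu)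
    rw [← M.S1_eq]
    refine sup_le (fun w hw => mem_centralizer_singleton_iff.2 ?_) (zpowers_le.2 (mem_centralizer_singleton_iff.2 hus.symm))
    have : twoStep X 2 ≤ centralizer ({w} : Set X) := by
      rw [← M.S1_eq]
      exact sup_le (fun t ht => mem_centralizer_singleton_iff.2 (M.commute_L1 ht hw).eq)
        (zpowers_le.2 (mem_centralizer_singleton_iff.2 (mem_centralizer_singleton_iff.1 (h2 hw)).symm))
    exact (mem_centralizer_singleton_iff.1 (this hu)).symm
  exact (mem_centralizer_singleton_iff.1 (h3 hv)).symm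

theorem s_not_mem_frattini : s ∉ frattini X := by
  intro h
  have hle : twoStep X 2 ≤ frattini X := by
    rw [← M.S1_eq]
    refine sup_le ?_ (zpowers_le.2 h)
    show ⁅(⊤ : Subgroup X).lowerCentralSeries 0, (⊤ : Subgroup X)⁆ ≤ _
    exact PGroup.commutator_le_frattini M.mc.pGroup
  have htop : zpowers x ⊔ frattini X = ⊤ :=
    top_le_iff.1 (M.top_eq.ge.trans (sup_le (hle.trans le_sup_right) le_sup_left))
  haveI := PGroup.isCyclic_of_sup_frattini htop
  exact M.comm_s_ne (commutatorElement_eq_one_iff_mul_comm.2 (IsMulCommutative.is_comm.comm s _))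

/-- The weights. -/
theorem weights (α : MulAut X) {a : ℕ} (ha : (x ^ a)⁻¹ * α x ∈ twoStep X 2) :
    α ⁅x, ⁅x, ⁅x, s⁆⁆⁆ = ⁅x, ⁅x, ⁅x, s⁆⁆⁆ ^ (a ^ 5) ∧ (s ^ (a * a))⁻¹ * α s ∈ L X 1 := by
  set s2 := ⁅x, s⁆
  set s3 := ⁅x, s2⁆
  set z := ⁅x, s3⁆
  set w := (x ^ a)⁻¹ * α x
  have hαx : α x = x ^ a * w := (mul_inv_cancel_left _ _).symm
  have hαS : α s ∈ twoStep X 2 := by
    refine mem_twoStep.2 fun u hu => ?_
    obtain ⟨u, rfl⟩ := α.surjective u
    have hu' : u ∈ L X 2 := by simpa using L_map_mem α⁻¹ hu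
    rw [← map_commutatorElement]
    exact L_map_mem α (mem_twoStep.1 M.hs u hu')
  haveI := index_twoStep M.mc
  obtain ⟨b, l, hl, hαs⟩ : ∃ b : ℕ, ∃ l ∈ L X 1, α s = s ^ b * l := by
    rw [← M.S1_eq] at hαS
    obtain ⟨l, hl, t, ht, hlt⟩ := mem_sup_of_normal_left.1 hαS
    obtain ⟨b, rfl⟩ := mem_powers_iff_mem_zpowers.2 ht
    refine ⟨b, (s ^ b)⁻¹ * l * s ^ b, ?_, ?_⟩
    · have := (inferInstance : (L X 1).Normal).conj_mem l hl (s ^ b)⁻¹
      rwa [inv_inv] at this
    · show α s = _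
      rw [← hlt]
      show _ = s ^ b * ((s ^ b)⁻¹ * l * s ^ b)
      group
  -- modulo `L 2`
  have hmod2 : (⁅x, s⁆ ^ (a * b))⁻¹ * α s2 ∈ L X 2 := by
    let q := QuotientGroup.mk' (L X 2)
    have hc : ∀ {u : X}, u ∈ L X 1 → ∀ g, Commute (q g) (q u) := fun hu g => by
      rw [← commutatorElement_eq_one_iff_commute, ← map_commutatorElement]
      exact (QuotientGroup.eq_one_iff _).2 (comm_L_mem hu g)
    have hws : Commute (q w) (q s) := by
      have : twoStep X 2 ≤ (centralizer ({q s} : Set (X ⧸ L X 2))).comap q := by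
        rw [← M.S1_eq]
        refine sup_le (fun u hu => ?_) (zpowers_le.2 ?_) <;> refine mem_comap.2 (mem_centralizer_singleton_iff.2 ?_)
        · exact (hc hu s).eq.symm
        · rfl
      exact mem_centralizer_singleton_iff.1 (this ha)
    have hk : ∀ g, Commute (q g) ⁅q x, q s⁆ := fun g => by rw [← map_commutatorElement]; exact hc M.s2_mem g
    have h1 : ⁅q x ^ a * q w, q s ^ b * q l⁆ = ⁅q x, q s⁆ ^ (a * b) :=
      comm_pow_mul (hk x) (hk s) hws (hc hl w) (hc hl x).symm a b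
    rw [← map_pow, ← map_pow, ← map_mul, ← map_mul, ← hαx, ← hαs, ← map_commutatorElement q (α x) (α s),
      ← map_commutatorElement α x s, ← map_commutatorElement q x s, ← map_pow] at h1
    rw [← QuotientGroup.eq_one_iff]
    show q _ = 1
    rw [map_mul, map_inv, inv_mul_eq_one]
    exact h1.symm
  obtain ⟨l2, hl2, hαs2⟩ : ∃ l2 ∈ L X 2, α s2 = s2 ^ (a * b) * l2 := ⟨_, hmod2, (mul_inv_cancel_left _ _).symm⟩
  -- modulo `L 3`
  have hwL : ∀ {u : X}, u ∈ L X 3 → ∀ g, Commute g u := fun hu g => M.L_three_center hu g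
  have hmod3 : (s3 ^ (a * (a * b)))⁻¹ * α s3 ∈ L X 3 := by
    let q := QuotientGroup.mk' (L X 3)
    have hc : ∀ {u : X}, u ∈ L X 2 → ∀ g, Commute (q g) (q u) := fun hu g => by
      rw [← commutatorElement_eq_one_iff_commute, ← map_commutatorElement]
      exact (QuotientGroup.eq_one_iff _).2 (comm_L_mem hu g)
    have hws : Commute (q w) (q s2) := by
      have : twoStep X 2 ≤ (centralizer ({q s2} : Set (X ⧸ L X 3))).comap q := by
        rw [← M.S1_eq]
        refine sup_le (fun u hu => ?_) (zpowers_le.2 ?_) <;> refine mem_comap.2 (mem_centralizer_singleton_iff.2 ?_)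
        · exact ((M.commute_L1 hu M.s2_mem).map q).eq
        · have h2 : Commute (q s) (q s2) := by
            rw [← commutatorElement_eq_one_iff_commute, ← map_commutatorElement]
            exact (QuotientGroup.eq_one_iff _).2 M.comm_s_mem
          exact h2.eq
      exact mem_centralizer_singleton_iff.1 (this ha)
    have hk : ∀ g, Commute (q g) ⁅q x, q s2⁆ := fun g => by rw [← map_commutatorElement]; exact hc M.s3_mem g
    have h1 : ⁅q x ^ a * q w, q s2 ^ (a * b) * q l2⁆ = ⁅q x, q s2⁆ ^ (a * (a * b)) :=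
      comm_pow_mul (hk x) (hk s2) hws (hc hl2 w) (hc hl2 x).symm a (a * b)
    rw [← map_pow, ← map_pow, ← map_mul, ← map_mul, ← hαx, ← hαs2, ← map_commutatorElement q (α x) (α s2),
      ← map_commutatorElement α x s2, ← map_commutatorElement q x s2, ← map_pow] at h1
    rw [← QuotientGroup.eq_one_iff]
    show q _ = 1
    rw [map_mul, map_inv, inv_mul_eq_one]
    exact h1.symm
  obtain ⟨l3, hl3, hαs3⟩ : ∃ l3 ∈ L X 3, α s3 = s3 ^ (a * (a * b)) * l3 :=
    ⟨_, hmod3, (mul_inv_cancel_left _ _).symm⟩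
  have hz : α z = z ^ (a * (a * (a * b))) := by
    rw [map_commutatorElement, hαx, hαs3]
    exact comm_pow_mul (hwL M.z_mem x) (hwL M.z_mem s3) (M.commute_S1 ha M.s3_mem) (hwL hl3 w)
      (hwL hl3 x).symm a _
  obtain ⟨m, hm⟩ := exists_pow_eq_of_card (p := p) (K := L X 3)
    (by rw [M.mc.card_L (by norm_num), show 5 - 1 - 3 = 1 from rfl, pow_one]) M.z_mem M.z_ne M.comm_s_mem
  have hk : α ⁅s, s2⁆ = ⁅s, s2⁆ ^ (b * (a * b)) := by
    rw [map_commutatorElement, hαs, hαs2]
    exact comm_pow_mul (hwL M.comm_s_mem s) (hwL M.comm_s_mem s2) (M.commute_L1 hl M.s2_mem)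
      (M.commute_S1 (L_one_le_twoStep 2 hl) hl2) ((M.commute_S1 M.hs hl2).symm) b (a * b)
  rw [← hm, map_pow, hz, ← pow_mul, ← pow_mul] at hk
  have h1 := cast_eq_of_pow M.orderOf_z hk
  push_cast at h1
  have hm0 : (m : ZMod p) ≠ 0 := fun h => M.comm_s_ne (by
    rw [← hm, ← orderOf_dvd_iff_pow_eq_one, M.orderOf_z]
    exact (ZMod.natCast_eq_zero_iff m p).1 h)
  have hab : (a : ZMod p) * (a * (a * b)) ≠ 0 := fun h => M.z_ne (α.injective (by
    rw [map_one]
    show α z = 1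
    rw [hz, ← orderOf_dvd_iff_pow_eq_one, M.orderOf_z]
    refine (ZMod.natCast_eq_zero_iff _ p).1 ?_
    push_cast
    exact h))
  have ha0 : (a : ZMod p) ≠ 0 := fun h => hab (by rw [h, zero_mul])
  have hb0 : (b : ZMod p) ≠ 0 := fun h => hab (by rw [h, mul_zero, mul_zero, mul_zero])
  have hb : (b : ZMod p) = a * a := by
    refine mul_left_cancel₀ (mul_ne_zero (mul_ne_zero hm0 ha0) hb0) ?_
    linear_combination -h1
  refine ⟨?_, ?_⟩
  · show α z = z ^ (a ^ 5)
    rw [hz]
    refine pow_eq_pow_iff_modEq.2 ?_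
    rw [M.orderOf_z, ← ZMod.natCast_eq_natCast_iff]
    push_cast
    rw [hb]; ring
  · have hsp : s ^ p ∈ L X 1 := by
      have h2 := index_twoStep M.mc
      let q := QuotientGroup.mk' (L X 1)
      have hle : twoStep X 2 = (twoStep X 2) := rfl
      have hcard : Nat.card ((L X 1).subgroupOf (twoStep X 2)) * p = Nat.card (twoStep X 2) := by
        rw [Nat.card_congr (subgroupOfEquivOfLe (L_one_le_twoStep 2)).toEquiv, M.mc.card_L le_rfl]
        have h3 := (twoStep X 2).card_mul_index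
        rw [h2, M.mc.card] at h3
        refine Nat.eq_of_mul_eq_mul_right hp.out.pos ?_
        rw [h3]; ring
      have hidx : ((L X 1).subgroupOf (twoStep X 2)).index = p := by
        have h4 := ((L X 1).subgroupOf (twoStep X 2)).card_mul_index
        exact Nat.eq_of_mul_eq_mul_left Nat.card_pos (h4.trans hcard.symm)
      have h5 := Subgroup.pow_index_mem ((L X 1).subgroupOf (twoStep X 2)) ⟨s, M.hs⟩
      rw [hidx] at h5
      exact mem_subgroupOf.1 h5
    have hmod : (s ^ (a * a))⁻¹ * s ^ b ∈ L X 1 := by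
      rw [← QuotientGroup.eq_one_iff]
      show QuotientGroup.mk' (L X 1) _ = 1
      rw [map_mul, map_inv, inv_mul_eq_one, map_pow, map_pow]
      refine pow_eq_pow_iff_modEq.2 (Nat.ModEq.of_dvd (orderOf_dvd_of_pow_eq_one
        (show _ ^ p = 1 by rw [← map_pow]; exact (QuotientGroup.eq_one_iff _).2 hsp)) ?_)
      rw [← ZMod.natCast_eq_natCast_iff, hb, Nat.cast_mul]
    rw [hαs, ← mul_assoc]
    exact mul_mem hmod hl

end MaxFive

end Cfsg.Agent.OrderFive
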