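import Cfsg.Agent.Lib.OrderFive.CaseCube
import Cfsg.Agent.Lib.OrderFive.MaxFive
import Cfsg.Agent.Lib.PearlRank.Fusion

/-!
# Maximal class

`false_of_extraspecial`: no essential extraspecial subgroup of order `p³`.
`good_of_pearl`: an essential subgroup of order `p²` forces `p = 3` and `Good` when the larger ones are absent.
-/

set_option autoImplicit false
set_option linter.unusedSectionVars false
set_option linter.style.haveILetI false

open Subgroup
open scoped commutatorElement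

namespace Cfsg.Agent.OrderFive

open Cfsg Cfsg.FusionSystem Cfsg.Agent.Fusion
open PearlRank (L)
open MaxClassPower

variable {p : ℕ} [hp : Fact p.Prime] {Ω : Type*} [Group Ω] {S : Subgroup Ω} [Finite S] {F : FusionSystem S}

theorem normal_twoStep {X : Type*} [Group X] : (twoStep X 2).Normal := by
  refine ⟨fun n hn g => ?_⟩
  have h : ⁅g, n⁆ ∈ L X 1 := by
    show _ ∈ ⁅(⊤ : Subgroup X).lowerCentralSeries 0, (⊤ : Subgroup X)⁆
    exact commutator_mem_commutator (mem_top g) (mem_top n)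
  have := (twoStep X 2).mul_mem (L_one_le_twoStep 2 h) hn
  rwa [commutatorElement_def, inv_mul_cancel_right] at this

variable (h5 : Five p F)

include h5

/-- An element of `E` outside the two-step centralizer, and the last lower central term inside `E`. -/
theorem maxFive_of_pc {E : Subgroup Ω} (hE : F.IsEssential p E) {x₀ : S} (hpc : PearlRank.Pc S p 5 x₀)
    (hsmall : Nat.card E ≤ p ^ 3) (hZ : ¬ ((L S 2).map S.subtype ≤ E ∧
      ∀ u : E, ∀ w ∈ L S 2, (u : Ω) * (w : Ω) = (w : Ω) * u)) :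
    ∃ x : S, (x : Ω) ∈ E ∧ ∃ s, MaxFive p x s ∧ ∀ z ∈ L S 3, (z : Ω) ∈ E := by
  have hES := hE.1.1
  have c : Mc S p 5 := ⟨hpc.card, hpc.three_le, PearlRank.maximal_of_cent hpc.card hpc.cent⟩
  have hC : ∀ w : S, (∀ u : E, (u : Ω) * (w : Ω) = (w : Ω) * u) → (w : Ω) ∈ E := fun w hw =>
    centralizerIn_le h5.pg h5.sat hE (mem_centralizerIn.2 ⟨w.2, fun u hu => (hw ⟨u, hu⟩).symm⟩)
  have hL4 : L S 4 = ⊥ := c.L_bot (le_refl _)
  obtain ⟨x, hx, hxT⟩ : ∃ x : S, (x : Ω) ∈ E ∧ x ∉ twoStep S 2 := by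
    by_contra h
    push Not at h
    have hcen : ∀ u : E, ∀ w ∈ L S 2, (u : Ω) * (w : Ω) = (w : Ω) * u := by
      intro u w hw
      have h1 := mem_twoStep.1 (h ⟨u, hES u.2⟩ u.2) w hw
      rw [hL4, mem_bot] at h1
      exact (congrArg Subtype.val (commutatorElement_eq_one_iff_mul_comm.1 h1) :)
    refine hZ ⟨?_, hcen⟩
    rintro _ ⟨w, hw, rfl⟩
    exact hC w fun u => hcen u w hw
  obtain ⟨s, M⟩ := exists_maxFive c hxT h5.na
  exact ⟨x, hx, s, M, fun z hz => hC z fun u =>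
    (congrArg Subtype.val (M.L_three_center hz ⟨u, hES u.2⟩).eq :)⟩

/-- An automorphism of a normalizer of order `p⁴` or `p⁵` extends to `S`. -/
theorem exists_aut_of_iso {N : Subgroup Ω} (hN : N ≤ S) (hc : Nat.card N = p ^ 4 ∨ N = S)
    (hno : Nat.card N = p ^ 4 → ¬ F.IsEssential p N) {f : Ω → Ω} (hf : IsIso F N N f) :
    ∃ φ ∈ F.autGroup S, ∀ x : S, (x : Ω) ∈ N → ((φ x : S) : Ω) = f x := by
  rcases hc with hc | rfl
  · exact exists_aut_top h5 hN hc (hno hc) hf
  · obtain ⟨φ, hφ, e⟩ := exists_aut_of_isIso hf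
    exact ⟨φ, hφ, fun x _ => e x⟩

/-- No essential extraspecial subgroup of order `p³`. -/
theorem false_of_extraspecial (hno : ∀ P : Subgroup Ω, Nat.card P = p ^ 4 → ¬ F.IsEssential p P)
    {E : Subgroup Ω} (hE : F.IsEssential p E) (hc : Nat.card E = p ^ 3)
    (hnc : ¬ ∀ a b : E, a * b = b * a) : False := by
  have hES := hE.1.1
  have := finite_of_le (S := S) hES
  obtain ⟨x₀, hpc⟩ := PearlRank.pc_of_cube h5.pg h5.sat h5.p2 hE hc
    (fun h => hnc h.is_comm.comm) h5.card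
  have c : Mc S p 5 := ⟨hpc.card, hpc.three_le, PearlRank.maximal_of_cent hpc.card hpc.cent⟩
  have hNA : NonAb p E := nonAb_of_cube h5.pg h5.sat hE hc hnc
  have hcE : Nat.card (center E) = p := by
    have h := (center E).card_mul_index
    rw [hNA.idx, hc, show p ^ 3 = p * p ^ 2 by ring] at h
    exact Nat.eq_of_mul_eq_mul_right (pow_pos hp.out.pos 2) h
  obtain ⟨x, hx, s, M, hL3⟩ := maxFive_of_pc h5 hE hpc hc.le (by
    rintro ⟨hle, hcen⟩
    have h2 : p ^ 2 ≤ p := by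
      have h3 : Nat.card (L S 2) ≤ Nat.card (center E) :=
        Nat.card_le_card_of_injective
          (fun w : L S 2 => (⟨⟨(w.1 : Ω), hle ⟨w, w.2, rfl⟩⟩,
            mem_center_iff.2 fun u => Subtype.ext (hcen u w w.2)⟩ : center E))
          (fun a b hab => Subtype.ext (Subtype.ext (congrArg (fun t : center E => ((t : E) : Ω)) hab :)))
      rwa [hcE, c.card_L (by norm_num), show 5 - 1 - 2 = 2 from rfl] at h3
    exact absurd (show p ^ 2 ≤ p ^ 1 by rwa [pow_one]) (not_le.2 (Nat.pow_lt_pow_right hp.out.one_lt one_lt_two)))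
  obtain ⟨R, hproj, -⟩ := exists_rep_nonAb h5.pg h5.sat hE hNA
  have hV : Nat.card (Vq (center E)) = p ^ 2 := by rw [card_Vq _ hNA.der_le, hNA.idx]
  obtain ⟨y, hyN, hyE⟩ := SetLike.exists_of_lt (lt_normalizerIn h5.pg le_rfl (lt_S h5.pg h5.sat hE))
  obtain ⟨⟨P, hP⟩, hgen⟩ := exists_trans_plane h5.pg h5.sat hE R hV (y := ⟨y, hyN⟩) hyE
  obtain ⟨γ, hγ, hγu⟩ := exists_not_mem_up h5.pg h5.sat hE
  have ha := isOuterP_conj h5.pg h5.sat hE hyN hyE
  have hne := R.not_fix h5.pg h5.sat hE ha ha hγ hγu hP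
  have hne' := R.not_fix' h5.pg h5.sat hE ha ha hγ hγu hP
  have hu'T : Trans (R.act (γ * normConj S E ⟨y, hyN⟩ * γ⁻¹)) (R.act γ P) := by
    rw [map_mul, map_mul, map_inv]
    exact hP.conj _
  obtain ⟨h, hh, e1, e2, e3, -, -, f, hf, hfe, -⟩ :=
    R.exists_torus_extension h5.pg h5.sat hE (y := ⟨y, hyN⟩) hyE hgen hγ hγu hP
      (neg_ne_zero.2 (one_ne_zero (α := ZMod p)))
  have hNc : Nat.card (normalizerIn S E) = p ^ 4 ∨ normalizerIn S E = S := by
    refine or_iff_not_imp_right.2 fun hne => ?_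
    haveI : Finite (normalizerIn S E) := finite_of_le inf_le_left
    obtain ⟨k, hk⟩ : ∃ k, Nat.card (normalizerIn S E) = p ^ k :=
      IsPGroup.iff_card.1 (h5.pg.to_le inf_le_left)
    have h1 := lt_card h5 (M := normalizerIn S E) inf_le_left
      (lt_normalizerIn h5.pg le_rfl (lt_S h5.pg h5.sat hE))
    have h2 := lt_card h5 le_rfl (lt_of_le_of_ne inf_le_left hne : normalizerIn S E < S)
    rw [hc, hk, ← pow_succ', Nat.pow_le_pow_iff_right hp.out.one_lt] at h1
    rw [hk, h5.card, ← pow_succ', Nat.pow_le_pow_iff_right hp.out.one_lt] at h2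
    rw [hk, show k = 4 by omega]
  obtain ⟨φ, -, hφf⟩ := exists_aut_of_iso h5 inf_le_left hNc (hno _) hf
  have hφE : ∀ u : E, φ (Subgroup.inclusion hES u) = Subgroup.inclusion hES (h u) := fun u =>
    Subtype.ext (by rw [hφf _ (le_normalizerIn hES u.2)]; exact (hfe u u.2).trans (autFn_apply h u.2))
  set m : ℕ := (-1 : ZMod p).val with hm
  -- `φ x ≡ x^m`
  have hxφ : (x ^ m)⁻¹ * φ x ∈ twoStep S 2 := by
    set u : E := ⟨x, hx⟩
    have hu : (u ^ m)⁻¹ * h u ∈ center E := by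
      rw [← qproj_eq_one _ hNA.der_le, ← hproj, map_mul, map_inv, map_pow, R.comm, inv_mul_eq_one]
      obtain ⟨i, j, w, hd, hw, hw'⟩ := exists_decomp R.expV hP hu'T hne hne' (R.proj u)
      obtain rfl : w = 1 := eq_one_of_fixed R.expV hP hu'T hne hne' hV hw hw'
      rw [mul_one] at hd
      rw [hd, map_mul, map_pw, map_pw, e1, e2, pw_mul R.expV, pw_mul R.expV, inv_neg, inv_one, mul_comm _ i,
        mul_comm _ j, ← pw_mul R.expV, ← pw_mul R.expV (R.act γ P), ← pw_mul_distrib R.expV]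
      rfl
    have hcen : center E = (L S 3).comap (Subgroup.inclusion hES) := by
      refine (PGroup.eq_of_le_of_card_le ?_ ?_).symm
      · intro w hw
        exact mem_center_iff.2 fun v => Subtype.ext
          (congrArg Subtype.val (M.L_three_center hw (Subgroup.inclusion hES v)).eq :)
      · rw [hcE]
        refine le_trans ?_ (Nat.card_le_card_of_injective
          (fun w : L S 3 => (⟨⟨(w.1 : Ω), hL3 _ w.2⟩, w.2⟩ : (L S 3).comap (Subgroup.inclusion hES)))
          (fun a b hab => Subtype.ext (Subtype.ext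
            (congrArg (fun t : (L S 3).comap (Subgroup.inclusion hES) => ((t : E) : Ω)) hab :))))
        rw [c.card_L (by norm_num), show 5 - 1 - 3 = 1 from rfl, pow_one]
    rw [hcen, mem_comap, map_mul, map_inv, map_pow, ← hφE] at hu
    exact L_one_le_twoStep 2 (Subgroup.lowerCentralSeries_antitone _ (by norm_num : 1 ≤ 3) hu)
  obtain ⟨hz, -⟩ := M.weights φ hxφ
  set z := ⁅x, ⁅x, ⁅x, s⁆⁆⁆
  have hzE := hL3 z M.z_mem
  have hzC : (⟨z, hzE⟩ : E) ∈ center E := mem_center_iff.2 fun v => Subtype.ext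
    (congrArg Subtype.val (M.L_three_center M.z_mem (Subgroup.inclusion hES v)).eq :)
  have hz1 := G0_factor h5.pg h5.sat hE (U := ⊥) (W := center E) bot_le
    (by rw [hcE, card_bot, mul_one]) hh hzC
  rw [mem_bot, inv_mul_eq_one] at hz1
  have hz2 : φ z = z := by
    have := hφE ⟨z, hzE⟩
    rw [← hz1] at this
    exact this
  rw [hz2] at hz
  have h1 := cast_eq_of_pow M.orderOf_z (show z ^ 1 = z ^ (m ^ 5) by rwa [pow_one])
  rw [Nat.cast_one, Nat.cast_pow, hm, ZMod.natCast_zmod_val] at h1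
  exact two_ne h5 (by linear_combination h1)

/-- An essential subgroup of order `p²`. -/
theorem good_of_pearl (hp7 : p ≠ 7)
    (hno : ∀ P : Subgroup Ω, (Nat.card P = p ^ 3 ∨ Nat.card P = p ^ 4) → ¬ F.IsEssential p P)
    {E : Subgroup Ω} (hE : F.IsEssential p E) (hc : Nat.card E = p ^ 2) : Good p F := by
  have hES := hE.1.1
  have := finite_of_le (S := S) hES
  have hexp := (S5185.result p h5.pg F h5.sat E hE hc).1
  obtain ⟨x₀, hpc⟩ := PearlRank.pc_of_sq h5.pg h5.sat hE hc hexp.2 h5.card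
  have c : Mc S p 5 := ⟨hpc.card, hpc.three_le, PearlRank.maximal_of_cent hpc.card hpc.cent⟩
  have hcm : ∀ a b : E, a * b = b * a := fun a b =>
    (IsPGroup.isMulCommutative_of_card_eq_prime_sq (p := p) hc).is_comm.comm a b
  have hexp' : ∀ e : E, e ^ p = 1 := fun e => Subtype.ext (hexp.2 e e.2)
  obtain ⟨R, -, -, hinj⟩ := exists_rep_elem h5 hE hcm hexp'
  have hV : Nat.card (Vq (⊥ : Subgroup E)) = p ^ 2 := by
    rw [← hc, Nat.card_congr (Equiv.ofBijective _ ⟨hinj, R.surj⟩)]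
  obtain ⟨y, hyN, hyE⟩ := SetLike.exists_of_lt (lt_normalizerIn h5.pg le_rfl (lt_S h5.pg h5.sat hE))
  obtain ⟨⟨P, hP⟩, hgen⟩ := exists_trans_plane h5.pg h5.sat hE R hV (y := ⟨y, hyN⟩) hyE
  set N := normalizerIn S E with hNdef
  have hNS : N ≤ S := inf_le_left
  haveI := finite_of_le hNS
  have hEN : E ≤ N := le_normalizerIn hES
  set τ := R.act (normConj S E ⟨y, hyN⟩) with hτ
  -- `|N| = p³`
  have hyp : (((⟨y, hyN⟩ : N) ^ p : N) : Ω) ∈ E := by
    obtain ⟨k, hk⟩ := h5.pg ⟨y, hNS hyN⟩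
    refine Resist.mem_of_inn hE (R.ker _ (mem_G0 (k := k) (Resist.normConj_mem F hES _).2 ?_) ?_)
    · rw [← map_pow, ← pow_mul, mul_comm, pow_mul,
        show (⟨y, hyN⟩ : N) ^ p ^ k = 1 from Subtype.ext (congrArg Subtype.val hk :), one_pow, map_one]
    · rw [map_pow, map_pow]
      exact hP.pow_p R.expV
  have hNc : Nat.card N = p ^ 3 := by
    refine le_antisymm ?_ ?_
    · calc Nat.card N ≤ Nat.card (E × Fin p) := by
            refine Nat.card_le_card_of_surjective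
              (fun t => (⟨t.1, hEN t.1.2⟩ : N) * (⟨y, hyN⟩ : N) ^ (t.2 : ℕ)) fun g => ?_
            obtain ⟨n, hn⟩ := hgen g
            have hyq : (((⟨y, hyN⟩ : N) ^ p) ^ (n / p) : N).1 ∈ E := by
              rw [SubgroupClass.coe_pow]
              exact E.pow_mem hyp _
            refine ⟨(⟨_, E.mul_mem hn hyq⟩, ⟨n % p, Nat.mod_lt _ hp.out.pos⟩), Subtype.ext ?_⟩
            show ((g * ((⟨y, hyN⟩ : N) ^ n)⁻¹ : N) : Ω) * ((((⟨y, hyN⟩ : N) ^ p) ^ (n / p) : N) : Ω) *
              (((⟨y, hyN⟩ : N) ^ (n % p) : N) : Ω) = g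
            rw [← Subgroup.coe_mul, ← Subgroup.coe_mul]
            refine congrArg Subtype.val ?_
            rw [mul_assoc, ← pow_mul, ← pow_add, Nat.div_add_mod, inv_mul_cancel_right]
        _ = p ^ 3 := by rw [Nat.card_prod, hc, Nat.card_fin]; ring
    · have h1 := lt_card h5 hNS (lt_normalizerIn h5.pg le_rfl (lt_S h5.pg h5.sat hE))
      rwa [hc, ← pow_succ'] at h1
  -- `N` is not abelian
  have hNnc : ¬ ∀ a b : N, a * b = b * a := by
    intro h
    refine hP.moves (MulEquiv.ext fun v => ?_)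
    obtain ⟨e, rfl⟩ := R.surj v
    rw [hτ, ← R.comm, MulAut.one_apply]
    refine congrArg R.proj (Subtype.ext ?_)
    show y * (e : Ω) * y⁻¹ = e
    rw [mul_inv_eq_iff_eq_mul]
    exact congrArg Subtype.val (h ⟨y, hyN⟩ ⟨e, hEN e.2⟩)
  have hNS' : N ≠ S := fun h => by
    rw [h, h5.card] at hNc
    exact absurd (Nat.pow_right_injective hp.out.two_le hNc) (by norm_num)
  obtain ⟨x₁, hx₁, s, M, hL3⟩ := maxFive_of_pc h5 hE hpc
    (hc.le.trans (Nat.pow_le_pow_right hp.out.pos (by norm_num))) (by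
    rintro ⟨hle, -⟩
    have hEq : (L S 2).map S.subtype = E := eq_of_le_of_card hES hle (by
      rw [hc, Subgroup.card_map_of_injective S.subtype_injective, c.card_L (by norm_num)])
    refine hNS' (le_antisymm hNS fun g hg => mem_normalizerIn_of_conj hg fun u hu => ?_)
    rw [← hEq] at hu ⊢
    obtain ⟨w, hw, rfl⟩ := hu
    exact ⟨_, (inferInstance : (L S 2).Normal).conj_mem w hw ⟨g, hg⟩, rfl⟩)
  obtain ⟨γ, hγ, hγu⟩ := exists_not_mem_up h5.pg h5.sat hE
  have ha := isOuterP_conj h5.pg h5.sat hE hyN hyE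
  have hne := R.not_fix h5.pg h5.sat hE ha ha hγ hγu hP
  have hne' := R.not_fix' h5.pg h5.sat hE ha ha hγ hγu hP
  have hu'T : Trans (R.act (γ * normConj S E ⟨y, hyN⟩ * γ⁻¹)) (R.act γ P) := by
    rw [map_mul, map_mul, map_inv]
    exact hP.conj _
  set P' := R.act γ P with hP'
  obtain ⟨e, he⟩ := R.surj P'
  set x := Subgroup.inclusion hES e with hxdef
  have hLle : L S 3 ≤ twoStep S 2 :=
    (Subgroup.lowerCentralSeries_antitone _ (by norm_num : 1 ≤ 3)).trans (L_one_le_twoStep 2)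
  -- the last term is `⟨P⟩`
  have hzP : ∀ u : E, Subgroup.inclusion hES u ∈ L S 3 → R.proj u ∈ zpowers P := by
    intro u hu
    have hτu : τ (R.proj u) = R.proj u := by
      rw [hτ, ← R.comm]
      refine congrArg R.proj (Subtype.ext ?_)
      show y * (u : Ω) * y⁻¹ = u
      rw [mul_inv_eq_iff_eq_mul]
      exact (congrArg Subtype.val (M.L_three_center hu ⟨y, hNS hyN⟩).eq :)
    obtain ⟨i, j, w, hd, hw, hw'⟩ := exists_decomp R.expV hP hu'T hne hne' (R.proj u)
    obtain rfl : w = 1 := eq_one_of_fixed R.expV hP hu'T hne hne' hV hw hw'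
    rw [mul_one] at hd
    obtain ⟨a, ha'⟩ := hP.exists_coef R.expV P'
    have ha0 : a ≠ 0 := fun h => hne (by rw [ha', h, pw_zero, mul_one])
    have hj : j = 0 := by
      have h4 := hτu
      rw [hd, map_mul, map_pw, map_pw, hP.fix, ha', pw_mul_distrib R.expV, pw_mul R.expV] at h4
      exact (mul_eq_zero.1 ((pw_eq_one_iff R.expV hP.ne _).1 (mul_eq_left.1 (mul_left_cancel h4)))).resolve_left ha0
    rw [hd, hj, pw_zero, mul_one]
    exact (zpowers P).pow_mem (mem_zpowers P) _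
  set z₁ := ⁅x₁, ⁅x₁, ⁅x₁, s⁆⁆⁆ with hz₁
  have hxT : x ∉ twoStep S 2 := by
    intro hx
    have hz₁E := hL3 z₁ M.z_mem
    obtain ⟨i, hi⟩ := exists_pw_of_mem R.expV (hzP ⟨z₁, hz₁E⟩ M.z_mem)
    have hi0 : i ≠ 0 := fun h => M.z_ne (Subtype.ext (congrArg Subtype.val
      (hinj (show R.proj ⟨z₁, hz₁E⟩ = R.proj 1 by rw [← hi, h, pw_zero, map_one])) :))
    obtain ⟨P₀, hP₀⟩ := R.surj P
    have hP₀T : Subgroup.inclusion hES P₀ ∈ twoStep S 2 := by
      have : P₀ = (⟨z₁, hz₁E⟩ : E) ^ i⁻¹.val := hinj (by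
        rw [map_pow, hP₀, ← hi]
        show P = pw (pw P i) i⁻¹
        rw [pw_mul R.expV, mul_inv_cancel₀ hi0, pw_one])
      rw [this, map_pow]
      exact pow_mem (hLle M.z_mem) _
    obtain ⟨i', j', w, hd, hw, hw'⟩ := exists_decomp R.expV hP hu'T hne hne' (R.proj ⟨x₁, hx₁⟩)
    obtain rfl : w = 1 := eq_one_of_fixed R.expV hP hu'T hne hne' hV hw hw'
    rw [mul_one] at hd
    have : (⟨x₁, hx₁⟩ : E) = P₀ ^ i'.val * e ^ j'.val := hinj (by
      rw [hd, map_mul, map_pow, map_pow, hP₀, he]; rfl)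
    refine M.hx ?_
    have h2 := congrArg (Subgroup.inclusion hES) this
    rw [map_mul, map_pow, map_pow] at h2
    have h3 : Subgroup.inclusion hES P₀ ^ i'.val * x ^ j'.val ∈ twoStep S 2 :=
      mul_mem (pow_mem hP₀T _) (pow_mem hx _)
    rwa [← h2] at h3
  obtain ⟨s, M⟩ := exists_maxFive c hxT h5.na
  set z := ⁅x, ⁅x, ⁅x, s⁆⁆⁆ with hzdef
  have hzE : (z : Ω) ∈ E := hL3 z M.z_mem
  -- `N` is fully normalized and not essential
  haveI hT := normal_twoStep (X := S)
  have hL1c : Nat.card (L S 1) = p ^ 3 := c.card_L le_rfl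
  have hnorm : ∀ Q : Subgroup Ω, Q ≤ S → Nat.card Q = p ^ 3 → normalizerIn S Q = S →
      Q.subgroupOf S = L S 1 := by
    intro Q hQ hQc hQn
    haveI : (Q.subgroupOf S).Normal :=
      ⟨fun n hn t => mem_subgroupOf.2 (normalizerIn_conj (hQn.ge t.2) (mem_subgroupOf.1 hn))⟩
    have hQ'c : Nat.card (Q.subgroupOf S) = p ^ 3 := by
      rw [Nat.card_congr (subgroupOfEquivOfLe hQ).toEquiv, hQc]
    haveI : IsMulCommutative (S ⧸ Q.subgroupOf S) := IsPGroup.isMulCommutative_of_card_eq_prime_sq (p := p) (by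
      have h := (Q.subgroupOf S).card_mul_index
      rw [hQ'c, h5.card, show p ^ 5 = p ^ 3 * p ^ 2 by ring] at h
      exact Nat.eq_of_mul_eq_mul_left (pow_pos hp.out.pos 3) h)
    refine (PGroup.eq_of_le_of_card_le ?_ (by rw [hL1c, hQ'c])).symm
    show ⁅(⊤ : Subgroup S).lowerCentralSeries 0, (⊤ : Subgroup S)⁆ ≤ _
    exact Subgroup.Normal.quotient_commutative_iff_commutator_le.1 inferInstance
  have hN4 : Nat.card (normalizerIn S N) = p ^ 4 := by
    have hne4 : normalizerIn S N ≠ S := fun h => by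
      have h1 := hnorm N hNS hNc h
      refine M.hx (L_one_le_twoStep 2 ?_)
      rw [← h1]
      exact hEN e.2
    haveI : Finite (normalizerIn S N) := finite_of_le inf_le_left
    obtain ⟨k, hk⟩ : ∃ k, Nat.card (normalizerIn S N) = p ^ k :=
      IsPGroup.iff_card.1 (h5.pg.to_le inf_le_left)
    have h1 := lt_card h5 (M := normalizerIn S N) inf_le_left
      (lt_normalizerIn h5.pg le_rfl (lt_of_le_of_ne hNS hNS'))
    have h2 := lt_card h5 le_rfl (lt_of_le_of_ne inf_le_left hne4 : normalizerIn S N < S)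
    rw [hNc, hk, ← pow_succ', Nat.pow_le_pow_iff_right hp.out.one_lt] at h1
    rw [hk, h5.card, ← pow_succ', Nat.pow_le_pow_iff_right hp.out.one_lt] at h2
    rw [hk, show k = 4 by omega]
  have hfn : F.IsFullyNormalized N := by
    refine ⟨hNS, fun Q hQ => ?_⟩
    have hQS := (isConj_le hQ).2
    obtain ⟨g, hg⟩ := isConj_iff.1 hQ
    have hQc : Nat.card Q = p ^ 3 := (Nat.card_congr hg.equiv.toEquiv).symm.trans hNc
    rw [hN4]
    by_cases hQn : normalizerIn S Q = S
    · exfalso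
      refine hNnc fun a b => hg.equiv.injective (Subtype.ext ?_)
      have hmem : ∀ q : Q, (⟨q, hQS q.2⟩ : S) ∈ L S 1 := fun q => by
        rw [← hnorm Q hQS hQc hQn]
        exact q.2
      rw [map_mul, map_mul]
      exact (congrArg Subtype.val (M.commute_L1 (hmem (hg.equiv a)) (hmem (hg.equiv b))).eq :)
    · haveI := finite_of_le (inf_le_left : normalizerIn S Q ≤ S)
      have h2 := lt_card h5 le_rfl (lt_of_le_of_ne inf_le_left hQn : normalizerIn S Q < S)
      rw [h5.card, pow_succ'] at h2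
      exact Nat.le_of_mul_le_mul_left h2 hp.out.pos
  have hup := up_of_not_essential h5 (lt_of_le_of_ne hNS hNS') hfn (hno _ (Or.inl hNc))
  -- the torus
  have key : ∀ l : ZMod p, l ≠ 0 → l⁻¹ ^ 5 = l := by
    intro l hl
    obtain ⟨h, hh, e1, e2, -, -, -, f, hf, hfe, -⟩ :=
      R.exists_torus_extension h5.pg h5.sat hE (y := ⟨y, hyN⟩) hyE hgen hγ hγu hP hl
    obtain ⟨α, hα, hαf⟩ := exists_aut_of_isIso hf
    obtain ⟨g, hg, hgα⟩ := exists_iso_normalizer h5 hNS (by rw [hN4, hNc, ← pow_succ']) hup hα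
    obtain ⟨φ, -, hφg⟩ := exists_aut_top h5 inf_le_left hN4 (hno _ (Or.inr hN4)) hg
    have hφE : ∀ u : E, φ (Subgroup.inclusion hES u) = Subgroup.inclusion hES (h u) := fun u => by
      refine Subtype.ext ?_
      rw [hφg _ (le_normalizerIn hNS (hEN u.2))]
      show g (u : Ω) = _
      rw [hgα _ (hEN u.2), autFn_apply α (hEN u.2), hαf ⟨u, hEN u.2⟩]
      exact (hfe u u.2).trans (autFn_apply h u.2)
    have hex : h e = e ^ (l⁻¹).val := hinj (by
      rw [map_pow, R.comm, he, hP', e2]; rfl)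
    obtain ⟨hz, -⟩ := M.weights φ (a := (l⁻¹).val) (by
      rw [hxdef, hφE, hex, map_pow, inv_mul_cancel]
      exact one_mem _)
    have hze : h ⟨z, hzE⟩ = (⟨z, hzE⟩ : E) ^ l.val := hinj (by
      obtain ⟨i, hi⟩ := exists_pw_of_mem R.expV (hzP ⟨z, hzE⟩ M.z_mem)
      rw [map_pow, R.comm, ← hi, map_pw, e1, pw_mul R.expV, mul_comm, ← pw_mul R.expV]
      rfl)
    have hz' : φ z = z ^ l.val := by
      have := hφE ⟨z, hzE⟩
      rw [hze, map_pow] at this
      exact this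
    rw [hz'] at hz
    have h1 := cast_eq_of_pow M.orderOf_z hz.symm
    rwa [Nat.cast_pow, ZMod.natCast_zmod_val, ZMod.natCast_zmod_val] at h1
  have hp3 : p = 3 := by
    have h2 := two_ne h5
    have h := key 2 h2
    rw [inv_pow] at h
    have h63 : ((63 : ℕ) : ZMod p) = 0 := by
      have h64 : (2 : ZMod p) ^ 5 * 2 = 1 := by
        conv_lhs => rw [show (2 : ZMod p) ^ 5 * 2 = 2 ^ 5 * ((2 ^ 5)⁻¹) from by rw [h]]
        exact mul_inv_cancel₀ (pow_ne_zero _ h2)
      push_cast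
      linear_combination h64
    have hd := (ZMod.natCast_eq_zero_iff 63 p).1 h63
    rw [show 63 = 3 ^ 2 * 7 by norm_num] at hd
    rcases hp.out.dvd_mul.1 hd with h' | h'
    · exact (Nat.prime_dvd_prime_iff_eq hp.out Nat.prime_three).1 (hp.out.dvd_of_dvd_pow h')
    · exact absurd ((Nat.prime_dvd_prime_iff_eq hp.out (by norm_num)).1 h') hp7
  refine ⟨hp3, s, M.s_not_mem_frattini, fun α _ => ?_⟩
  obtain ⟨w, hw, v, hv, hwv⟩ := mem_sup_of_normal_left.1 (M.top_eq.ge (mem_top (α x)))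
  obtain ⟨a, rfl⟩ := mem_powers_iff_mem_zpowers.2 hv
  have hwa : (x ^ a)⁻¹ * α x ∈ twoStep S 2 := by
    rw [← hwv, ← mul_assoc]
    have := hT.conj_mem w hw (x ^ a)⁻¹
    rwa [inv_inv] at this
  obtain ⟨hz, hs'⟩ := M.weights α hwa
  have ha3 : a % 3 ≠ 0 := by
    intro h
    refine M.z_ne (α.injective ?_)
    obtain ⟨t, ht⟩ := Nat.dvd_of_mod_eq_zero (show a ^ 5 % 3 = 0 by simp [Nat.pow_mod, h])
    rw [hz, map_one, ← orderOf_dvd_iff_pow_eq_one, M.orderOf_z, hp3, ht]
    exact dvd_mul_right _ _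
  have haa : a * a % 3 = 1 := by
    rcases (show a % 3 = 1 ∨ a % 3 = 2 by omega) with h | h <;> simp [Nat.mul_mod, h]
  have hfr : L S 1 ≤ frattini S := by
    show ⁅(⊤ : Subgroup S).lowerCentralSeries 0, (⊤ : Subgroup S)⁆ ≤ _
    exact PGroup.commutator_le_frattini h5.pg
  have hm : α s * (s ^ (a * a))⁻¹ ∈ frattini S := by
    have := (PGroup.commutatorElement_mem_frattini h5.pg (s ^ (a * a)) ((s ^ (a * a))⁻¹ * α s))
    have e : α s * (s ^ (a * a))⁻¹ =
        ⁅s ^ (a * a), (s ^ (a * a))⁻¹ * α s⁆ * ((s ^ (a * a))⁻¹ * α s) := by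
      rw [commutatorElement_def]; group
    rw [e]
    exact (frattini S).mul_mem this (hfr hs')
  have hpow : s ^ (3 * (a * a / 3)) ∈ frattini S := by
    rw [pow_mul]
    exact (frattini S).pow_mem (by have := PGroup.pow_mem_frattini h5.pg s; rwa [hp3] at this) _
  have e : α s * s⁻¹ = α s * (s ^ (a * a))⁻¹ * s ^ (3 * (a * a / 3)) := by
    rw [show s ^ (a * a) = s ^ (3 * (a * a / 3)) * s by rw [← pow_succ, ← haa, Nat.div_add_mod]]
    group
  rw [e]
  exact (frattini S).mul_mem hm hpow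

end Cfsg.Agent.OrderFive
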