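import Cfsg.Agent.Lib.OrderFive.Ready
import Cfsg.Agent.Lib.FusionAbelianIndex.CoreFree
import Cfsg.Agent.Lib.Fusion.Essential

/-!
# Existence of essential subgroups

`exists_essential`: a system without nontrivial normal subgroup on a nontrivial `S` has an essential subgroup.
-/

set_option autoImplicit false
set_option linter.unusedSectionVars false

open Subgroup

namespace Cfsg.Agent.OrderFive

open Cfsg Cfsg.FusionSystem Cfsg.Agent.Fusion

variable {p : ℕ} [hp : Fact p.Prime] {Ω : Type*} [Group Ω] {S : Subgroup Ω} [Finite S] {F : FusionSystem S}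

theorem exists_essential (hS : IsPGroup p S) (hF : F.IsSaturated p) (hS1 : S ≠ ⊥) (hcore : F.core = ⊥) :
    ∃ E : Subgroup Ω, F.IsEssential p E := by
  by_contra hne
  push Not at hne
  refine hS1 (FusionAbelianIndex.eq_bot_of_normal hcore (FusionChain.isNormal_iff.2 ⟨le_rfl, fun P f hf => ?_⟩))
  suffices h : ∃ g, IsMap F S g ∧ ∀ x ∈ P, g x = f x by
    obtain ⟨g, hg, e⟩ := h
    exact ⟨g, by rw [sup_eq_right.2 hf.le]; exact hg, e, fun q hq => hg.mem hq⟩
  refine alperin_essential hS hF (fun P f => ∃ g, IsMap F S g ∧ ∀ x ∈ P, g x = f x) ?_ ?_ ?_ ?_ hf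
  · rintro P f g - ⟨k, hk, h1⟩ he
    exact ⟨k, hk, fun x hx => (h1 x hx).trans (he x hx)⟩
  · rintro P P' f - hle ⟨k, hk, h1⟩
    exact ⟨k, hk, fun x hx => h1 x (hle hx)⟩
  · rintro P P' f g - - hfP ⟨k, hk, h1⟩ ⟨l, hl, h3⟩
    exact ⟨fun x => l (k x), hk.comp hl fun x hx => hk.mem hx, fun x hx => by show l (k x) = g (f x); rw [h1 x hx, h3 _ (hfP x hx)]⟩
  · rintro R (rfl | he) α hα
    · exact ⟨_, (isIso_autFn le_rfl hα).1, fun x _ => rfl⟩
    · exact absurd he (hne R)

end Cfsg.Agent.OrderFive
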