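import Cfsg.Agent.Lib.OrderFive.Types

/-!
# Extension of automorphisms to normalizers

`Five p F`: a group of order `p^5` without an abelian subgroup of index `p`.
`exists_iso_normalizer`: when all automorphisms of `P` extend upwards and `|N_S(P)| = p |P|` they extend to `N_S(P)`.
`exists_aut_top`: for a subgroup of index `p` that is not essential they extend to `S`.
-/

set_option autoImplicit false
set_option linter.unusedSectionVars false
set_option linter.style.haveILetI false

open Subgroup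

namespace Cfsg.Agent.OrderFive

open Cfsg Cfsg.FusionSystem Cfsg.Agent.Fusion

variable {p : ℕ} [hp : Fact p.Prime] {Ω : Type*} [Group Ω] {S : Subgroup Ω} [Finite S] {F : FusionSystem S}

/-- The hypotheses of the theorem. -/
structure Five (p : ℕ) (F : FusionSystem S) : Prop where
  pg : IsPGroup p S
  sat : F.IsSaturated p
  p2 : p ≠ 2
  card : Nat.card S = p ^ 5
  na : ∀ A : Subgroup S, A.index = p → ∃ u ∈ A, ∃ v ∈ A, u * v ≠ v * u

/-- The conclusion of the case analysis. -/
def Good (p : ℕ) (F : FusionSystem S) : Prop :=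
  p = 3 ∧ ∃ c : S, c ∉ frattini S ∧ ∀ α ∈ F.autGroup S, α c * c⁻¹ ∈ frattini S

variable (h5 : Five p F)

include h5

theorem lt_card {P M : Subgroup Ω} (hM : M ≤ S) (h : P < M) : p * Nat.card P ≤ Nat.card M := by
  have := finite_of_le hM
  have hlt : P.subgroupOf M < ⊤ :=
    lt_top_iff_ne_top.2 fun e => h.not_ge (Subgroup.subgroupOf_eq_top.1 e)
  have h1 := PGroup.mul_card_le_of_lt (h5.pg.to_le hM) hlt
  rwa [card_top, Nat.card_congr (subgroupOfEquivOfLe h.le).toEquiv] at h1

/-- Automorphisms extending upwards extend to an automorphism of the normalizer. -/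
theorem exists_iso_normalizer {P : Subgroup Ω} (hP : P ≤ S)
    (hN : Nat.card (normalizerIn S P) ≤ p * Nat.card P) (hup : F.autGroup P ≤ upGroup F P)
    {α : MulAut P} (hα : α ∈ F.autGroup P) :
    ∃ f, IsIso F (normalizerIn S P) (normalizerIn S P) f ∧ ∀ x ∈ P, f x = autFn α x := by
  have := finite_of_le hP
  have := finite_mulAut hP
  have := finite_of_le (inf_le_left : normalizerIn S P ≤ S)
  have hPN : P ≤ normalizerIn S P := le_normalizerIn hP
  have hgen : ∀ β, ExtUp F P β →
      ∃ f, IsIso F (normalizerIn S P) (normalizerIn S P) f ∧ ∀ x ∈ P, f x = autFn β x := by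
    rintro β ⟨Q, hQ, g, hg, e⟩
    have hQS := hg.le
    have h1 : P < normalizerIn Q P := lt_normalizerIn h5.pg hQS hQ
    have h2 : normalizerIn Q P ≤ normalizerIn S P := inf_le_inf_right _ hQS
    have h3 : normalizerIn Q P = normalizerIn S P :=
      eq_of_le_of_card inf_le_left h2 (hN.trans (lt_card h5 (inf_le_left.trans hQS) h1))
    have hgN : IsMap F (normalizerIn S P) g := hg.mono (h3 ▸ inf_le_left)
    refine ⟨g, ⟨hgN, ?_⟩, e⟩
    refine eq_of_le_of_card inf_le_left (hgN.img_le le_rfl fun u hu => ?_) (hgN.card_img le_rfl).ge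
    refine mem_normalizerIn_of_conj (hgN.mem hu) fun x hx => ?_
    obtain ⟨w, hw⟩ := β.surjective ⟨x, hx⟩
    have hx' : g w = x := by rw [e w w.2, autFn_apply β w.2]; exact congrArg Subtype.val hw
    rw [← hx', ← hgN.map_conj hu (hPN w.2), e _ (normalizerIn_conj hu w.2)]
    exact autFn_mem β (normalizerIn_conj hu w.2)
  have hmem : α ∈ Submonoid.closure {β | ExtUp F P β} := by
    rw [← Subgroup.closure_toSubmonoid_of_finite]
    exact hup hα
  clear hα
  induction hmem using Submonoid.closure_induction with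
  | mem β hβ => exact hgen β hβ
  | one =>
    exact ⟨fun x => x, IsIso.refl inf_le_left, fun x hx => by rw [autFn_apply _ hx]; rfl⟩
  | mul a b _ _ ha hb =>
    obtain ⟨fa, hfa, ea⟩ := ha
    obtain ⟨fb, hfb, eb⟩ := hb
    refine ⟨fun x => fa (fb x), hfb.trans hfa, fun x hx => ?_⟩
    show fa (fb x) = _
    rw [eb x hx, ea _ (autFn_mem b hx), autFn_apply (a * b) hx, autFn_apply a (autFn_mem b hx), MulAut.mul_apply]
    exact congrArg (fun y : P => ((a y : P) : Ω)) (Subtype.ext (autFn_apply b hx))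

theorem up_of_not_essential {P : Subgroup Ω} (hP : P < S) (hn : F.IsFullyNormalized P)
    (hne : ¬ F.IsEssential p P) : F.autGroup P ≤ upGroup F P := by
  rcases dichotomy h5.pg h5.sat hP hn with ⟨-, h⟩ | ⟨h, -⟩
  · exact h.ge
  · exact absurd h hne

theorem normalizerIn_fourth {P : Subgroup Ω} (hP : P ≤ S) (hc : Nat.card P = p ^ 4) :
    normalizerIn S P = S := by
  have hlt : P < S := lt_of_le_of_ne hP fun h => by
    rw [h, h5.card] at hc
    exact absurd (Nat.pow_right_injective hp.out.two_le hc) (by norm_num)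
  refine eq_of_le_of_card le_rfl inf_le_left ?_
  rw [h5.card]
  refine le_trans ?_ (lt_card h5 inf_le_left (lt_normalizerIn h5.pg le_rfl hlt))
  rw [hc, ← pow_succ']

/-- Automorphisms of a nonessential subgroup of index `p` extend to `S`. -/
theorem exists_aut_top {P : Subgroup Ω} (hP : P ≤ S) (hc : Nat.card P = p ^ 4)
    (hne : ¬ F.IsEssential p P) {f : Ω → Ω} (hf : IsIso F P P f) :
    ∃ φ ∈ F.autGroup S, ∀ x : S, (x : Ω) ∈ P → ((φ x : S) : Ω) = f x := by
  have hN := normalizerIn_fourth h5 hP hc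
  have hlt : P < S := lt_of_le_of_ne hP fun h => by
    rw [h, h5.card] at hc
    exact absurd (Nat.pow_right_injective hp.out.two_le hc) (by norm_num)
  have hn : F.IsFullyNormalized P := ⟨hP, fun Q _ => hN.symm ▸ Subgroup.card_le_of_le inf_le_left⟩
  obtain ⟨α, hα, hαf⟩ := exists_aut_of_isIso hf
  obtain ⟨g, hg, hge⟩ := exists_iso_normalizer h5 hP (by rw [hN, h5.card, hc, ← pow_succ'])
    (up_of_not_essential h5 hlt hn hne) hα
  rw [hN] at hg
  obtain ⟨φ, hφ, hφg⟩ := exists_aut_of_isIso hg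
  refine ⟨φ, hφ, fun x hx => ?_⟩
  rw [hφg, hge _ hx, autFn_apply α hx]
  exact hαf ⟨x, hx⟩

/-- Essential subgroups have order `p²`, `p³` or `p⁴`. -/
theorem card_essential {E : Subgroup Ω} (hE : F.IsEssential p E) :
    Nat.card E = p ^ 2 ∨ Nat.card E = p ^ 3 ∨ Nat.card E = p ^ 4 := by
  have := finite_of_le (S := S) hE.1.1
  have hlt := lt_S h5.pg h5.sat hE
  obtain ⟨k, hk⟩ := IsPGroup.iff_card.1 (h5.pg.to_le hE.1.1)
  have h4 : k ≤ 4 := by
    have h1 := lt_card h5 le_rfl hlt
    rw [hk, h5.card, ← pow_succ', Nat.pow_le_pow_iff_right hp.out.one_lt] at h1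
    omega
  have h2 : 2 ≤ k := by
    by_contra h
    have hs := EssentialSmall.setting_of_essential h5.pg h5.sat hE
    have hc : Nat.card E ≤ p := by
      rw [hk]
      exact le_trans (Nat.pow_le_pow_right hp.out.pos (by omega : k ≤ 1)) (pow_one p).le
    refine hs.false_of_series ⊤ ⊤ le_rfl (fun _ _ _ _ => mem_top _) (fun _ _ _ _ => mem_top _)
      (by rwa [card_top]) ?_ ?_ <;> rw [card_top] <;> exact Nat.le_mul_of_pos_left _ hp.out.pos
  rcases (show k = 2 ∨ k = 3 ∨ k = 4 by omega) with rfl | rfl | rfl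
  exacts [Or.inl hk, Or.inr (Or.inl hk), Or.inr (Or.inr hk)]

theorem not_comm_fourth {P : Subgroup Ω} (hP : P ≤ S) (hc : Nat.card P = p ^ 4) :
    ¬ ∀ a b : P, a * b = b * a := by
  intro hcm
  have hidx : (P.subgroupOf S).index = p := by
    have h := (P.subgroupOf S).card_mul_index
    rw [Nat.card_congr (subgroupOfEquivOfLe hP).toEquiv, hc, h5.card, pow_succ] at h
    exact Nat.eq_of_mul_eq_mul_left (pow_pos hp.out.pos 4) h
  obtain ⟨u, hu, v, hv, huv⟩ := h5.na _ hidx
  exact huv (Subtype.ext (congrArg Subtype.val (hcm ⟨u, hu⟩ ⟨v, hv⟩) :))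

end Cfsg.Agent.OrderFive
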