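import Cfsg.Agent.Lib.OrderFive.Pair
import Cfsg.Agent.Lib.FusionChain.Hyperfocal

/-!
# Invariant characters

A character of `S` invariant under the extendable automorphisms of an essential subgroup with a pair of
transvections is invariant under all its automorphisms; invariance under `Aut_F(S)` and all automisers of
essential subgroups makes the hyperfocal subgroup lie in the kernel.
-/

set_option autoImplicit false
set_option linter.unusedSectionVars false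

open Subgroup

namespace Cfsg.Agent.OrderFive

open Cfsg Cfsg.FusionSystem Cfsg.Agent.Fusion

variable {p : ℕ} [hp : Fact p.Prime] {Ω : Type*} [Group Ω] {S : Subgroup Ω} [Finite S] {F : FusionSystem S}
  {E : Subgroup Ω} {C : Type*} [CommGroup C] (χ : S →* C)

/-- The character on a subgroup of `S`. -/
def resChi (hES : E ≤ S) : E →* C := χ.comp (Subgroup.inclusion hES)

/-- The automorphisms preserving the character. -/
def Stab (hES : E ≤ S) : Subgroup (MulAut E) where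
  carrier := {α | ∀ e, resChi χ hES (α e) = resChi χ hES e}
  one_mem' _ := rfl
  mul_mem' {α β} ha hb e := by
    show resChi χ hES ((α * β) e) = _
    rw [MulAut.mul_apply, ha, hb]
  inv_mem' {α} ha e := by
    show resChi χ hES (α⁻¹ e) = _
    rw [← ha, MulAut.apply_inv_self]

theorem mem_stab_iff {hES : E ≤ S} {α : MulAut E} :
    α ∈ Stab χ hES ↔ ∀ e, resChi χ hES (α e) = resChi χ hES e := Iff.rfl

theorem inn_le_stab (hES : E ≤ S) : Cfsg.Inn E ≤ Stab χ hES := by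
  rintro _ ⟨n, rfl⟩ e
  rw [MulAut.conj_apply, map_mul, map_mul, map_inv, mul_inv_cancel_comm]

theorem mem_stab_of_map {hES : E ≤ S} {α : MulAut E} {f : Ω → Ω}
    (hf : ∀ x ∈ E, f x = autFn α x)
    (hχ : ∀ x (hx : x ∈ E) (hfx : f x ∈ S), χ ⟨f x, hfx⟩ = χ ⟨x, hES hx⟩) : α ∈ Stab χ hES := by
  intro e
  have h : f e = α e := by rw [hf e e.2, autFn_apply α e.2]
  have := hχ e e.2 (by rw [h]; exact hES (α e).2)
  show χ ⟨_, hES (α e).2⟩ = χ ⟨_, hES e.2⟩
  simpa only [h] using this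

theorem apply_eq_of_mem_stab {hES : E ≤ S} {α : MulAut E} (hα : α ∈ Stab χ hES) {x : Ω} (hx : x ∈ E)
    (hfx : autFn α x ∈ S) : χ ⟨autFn α x, hfx⟩ = χ ⟨x, hES hx⟩ := by
  have h := hα ⟨x, hx⟩
  rw [resChi, MonoidHom.comp_apply, MonoidHom.comp_apply] at h
  refine (congrArg χ ?_).trans h
  exact Subtype.ext (autFn_apply α hx)

variable {V : Type*} [CommGroup V] (R : Rep p F E V)

/-- The key step: the automiser of an essential subgroup preserves the character. -/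
theorem Rep.autGroup_le_stab (hS : IsPGroup p S) (hF : F.IsSaturated p) (hE : F.IsEssential p E)
    (hp2 : p ≠ 2) (hC : ∀ c : C, c ^ p = 1) (hup : upGroup F E ≤ Stab χ hE.1.1)
    {y : normalizerIn S E} (hy : (y : Ω) ∉ E)
    (hgen : ∀ g : normalizerIn S E, ∃ n : ℕ, ((g * (y ^ n)⁻¹ : normalizerIn S E) : Ω) ∈ E)
    {P : V} (hP : Trans (R.act (normConj S E y)) P)
    (hker : ∀ α ∈ G0 p F E, ∀ w, R.proj w = 1 → resChi χ hE.1.1 (α w) = resChi χ hE.1.1 w)
    (hfix : (∀ w, R.proj w = 1 → resChi χ hE.1.1 w = 1) ∨ Nat.card V = p ^ 2) :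
    F.autGroup E ≤ Stab χ hE.1.1 := by
  set hES := hE.1.1
  set ψ := resChi χ hES with hψ
  set a := normConj S E y with ha'
  have ha := isOuterP_conj hS hF hE y.2 hy
  have haA := up_le hS hF hE ha.mem
  have hinn : ∀ ι ∈ Cfsg.Inn E, ∀ x, ψ (ι x) = ψ x := fun ι hι x => inn_le_stab χ hES hι x
  have hlt := lt_S hS hF hE
  -- the conjugates of `a`
  have hconj : ∀ γ ∈ F.autGroup E, γ ∉ upGroup F E → γ * a * γ⁻¹ ∈ Stab χ hES := by
    intro γ hγ hγu
    set u' := γ * a * γ⁻¹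
    obtain ⟨h, hh, e1, e2, e3, e5, hn, f, hf, hfe, -⟩ :=
      R.exists_torus_extension hS hF hE hy hgen hγ hγu hP (l := -1) (neg_ne_zero.2 one_ne_zero)
    have hstab : h ∈ Stab χ hES := hup (Subgroup.subset_closure
      ⟨_, lt_normalizerIn hS le_rfl hlt, f, hf.1, hfe⟩)
    rw [inv_neg, inv_one, neg_one_sq, ZMod.val_one, pow_one] at e5
    let δ : E →* C := (ψ.comp u'.toMonoidHom) * ψ⁻¹
    have hδ : ∀ x, δ x = ψ (u' x) * (ψ x)⁻¹ := fun x => rfl
    have hδh : ∀ x, δ (h x) = δ x := by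
      intro x
      rw [hδ, hδ, hstab x]
      congr 1
      have he : h * u' = u' * (u'⁻¹ * (h * u' * h⁻¹)) * h := by group
      have h1 : ψ (h (u' x)) = ψ (u' x) := hstab _
      rw [← MulAut.mul_apply, he, MulAut.mul_apply, MulAut.mul_apply] at h1
      refine Eq.trans ?_ h1
      obtain ⟨n, hn'⟩ := e5
      rw [← hn', MulAut.conj_apply]
      simp [map_mul, map_inv, mul_inv_cancel_comm]
    have hδk : ∀ w, R.proj w = 1 → δ w = 1 := fun w hw => by
      rw [hδ, hker u' (conj_mem_G0 hγ haA ha.pow.choose_spec) w hw, mul_inv_cancel]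
    have hsq : ∀ (e : E) (Q : V), R.proj e = Q → R.act h Q = pw Q (-1 : ZMod p) → δ e = 1 := by
      intro e Q he hQ
      rw [pw_neg R.expV, pw_one] at hQ
      have h1 : δ (e * h e) = 1 := hδk _ (by rw [map_mul, R.comm, he, hQ, mul_inv_cancel])
      rw [map_mul, hδh, ← pow_two] at h1
      have h2 : δ e ^ p = 1 := hC _
      obtain ⟨m, hm⟩ := hp.out.odd_of_ne_two hp2
      rwa [hm, pow_add, pow_mul, h1, one_pow, one_mul, pow_one] at h2
    rw [inv_neg, inv_one] at e2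
    have hP' : Trans (R.act u') (R.act γ P) := by
      rw [map_mul, map_mul, map_inv]
      exact hP.conj _
    intro x
    show ψ (u' x) = ψ x
    rw [← mul_inv_eq_one, ← hδ]
    have hne := R.not_fix hS hF hE ha ha hγ hγu hP
    have hne' := R.not_fix' hS hF hE ha ha hγ hγu hP
    obtain ⟨i, j, w, hv, hw, hw'⟩ := exists_decomp R.expV hP hP' hne hne' (R.proj x)
    obtain ⟨eP, heP⟩ := R.surj P
    obtain ⟨eQ, heQ⟩ := R.surj (R.act γ P)
    obtain ⟨ew, hew⟩ := R.surj w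
    have hdw : δ ew = 1 := by
      rcases hfix with hk | hk
      · rw [hδ, mul_inv_eq_one, ← inv_mul_eq_one, ← map_inv, ← map_mul]
        have h1 : R.proj ((u' ew)⁻¹ * ew) = 1 := by
          rw [map_mul, map_inv, R.comm, hew, hw', inv_mul_cancel]
        exact hk _ h1
      · exact hδk _ (by rw [hew, eq_one_of_fixed R.expV hP hP' hne hne' hk hw hw'])
    have hk : δ ((eP ^ i.val * eQ ^ j.val * ew)⁻¹ * x) = 1 := hδk _ (by
      rw [map_mul, map_inv, map_mul, map_mul, map_pow, map_pow, heP, heQ, hew, hv]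
      exact inv_mul_cancel _)
    rw [map_mul, map_inv, map_mul, map_mul, map_pow, map_pow, hsq eP P heP e1,
      hsq eQ _ heQ e2, hdw] at hk
    simpa using hk
  -- Sylow's theorem inside the stabiliser
  have := finite_mulAut (S := S) hES
  set A := F.autGroup E
  set T := autInducedBy S E
  have hTA : T ≤ A := autInducedBy_le_autGroup F le_rfl hES
  have hsyl := (isFullyAutomized_iff.1 (fullyAutomized_of_fullyNormalized hS hF hE.2.1)).2
  obtain ⟨R₀, hR₀⟩ := (isSylowIn_iff_exists hTA).1 hsyl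
  have hTall : ∀ γ ∈ A, ∀ t ∈ T, γ * t * γ⁻¹ ∈ Stab χ hES := by
    intro γ hγ t ht
    by_cases hγu : γ ∈ upGroup F E
    · exact hup (Subgroup.mul_mem _ (Subgroup.mul_mem _ hγu (autS_le_upGroup hS hlt ht))
        (Subgroup.inv_mem _ hγu))
    obtain ⟨g, hg⟩ := (range_normConj S E).ge ht
    obtain ⟨n, hn⟩ := hgen g
    have hi : normConj S E (g * (y ^ n)⁻¹) ∈ Cfsg.Inn E := ⟨⟨_, hn⟩, MulEquiv.ext fun x => Subtype.ext rfl⟩
    have e : γ * t * γ⁻¹ = (γ * normConj S E (g * (y ^ n)⁻¹) * γ⁻¹) * (γ * a * γ⁻¹) ^ n := by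
      rw [conj_pow, map_mul, map_inv, map_pow, ← hg, ha']
      group
    rw [e]
    exact Subgroup.mul_mem _ (inn_le_stab χ hES ((Cfsg.innNormal E).conj_mem _ hi γ))
      (Subgroup.pow_mem _ (hconj γ hγ hγu) n)
  intro γ hγ
  set Sg := (Stab χ hES).subgroupOf A
  have hR1 : (R₀ : Subgroup A) ≤ Sg := by
    rw [hR₀]
    exact fun b hb => Subgroup.mem_subgroupOf.2
      (hup (autS_le_upGroup hS hlt (Subgroup.mem_subgroupOf.1 hb)))
  have hR2 : ((⟨γ, hγ⟩ : A) • R₀ : Sylow p A) ≤ Sg := by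
    rintro _ ⟨b, hb, rfl⟩
    rw [hR₀] at hb
    exact Subgroup.mem_subgroupOf.2 (hTall γ hγ b (Subgroup.mem_subgroupOf.1 hb))
  obtain ⟨σ, hσ⟩ := MulAction.exists_smul_eq Sg (R₀.subtype hR1)
    (((⟨γ, hγ⟩ : A) • R₀).subtype hR2)
  have hin : ∀ b ∈ (R₀ : Subgroup A), ((σ : A)⁻¹ * ⟨γ, hγ⟩) * b * ((σ : A)⁻¹ * ⟨γ, hγ⟩)⁻¹ ∈
      (R₀ : Subgroup A) := by
    intro b hb
    have h1 : (⟨γ, hγ⟩ : A) * b * (⟨γ, hγ⟩ : A)⁻¹ ∈ (((⟨γ, hγ⟩ : A) • R₀ : Sylow p A) : Subgroup A) :=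
      ⟨b, hb, rfl⟩
    have h2 : (⟨_, hR2 h1⟩ : Sg) ∈ (σ • R₀.subtype hR1 : Sylow p Sg) := by
      rw [hσ]; exact h1
    obtain ⟨c, hc, hce⟩ := h2
    have : (σ : A) * c * (σ : A)⁻¹ = (⟨γ, hγ⟩ : A) * b * (⟨γ, hγ⟩ : A)⁻¹ := congrArg Subtype.val hce
    have e : ((σ : A)⁻¹ * ⟨γ, hγ⟩) * b * ((σ : A)⁻¹ * ⟨γ, hγ⟩)⁻¹ =
        (σ : A)⁻¹ * ((⟨γ, hγ⟩ : A) * b * (⟨γ, hγ⟩ : A)⁻¹) * σ := by group
    rw [e, ← this]
    simpa [mul_assoc] using Subgroup.mem_subgroupOf.1 hc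
  have hτ : ((σ : A)⁻¹ * ⟨γ, hγ⟩ : A).1 ∈ upGroup F E := by
    refine mem_up_of_conj hS hF hE ha (SetLike.coe_mem _) (autS_le_upGroup hS hlt ?_)
    have h1 : (⟨a, haA⟩ : A) ∈ (R₀ : Subgroup A) := by
      rw [hR₀]
      exact Subgroup.mem_subgroupOf.2 (Resist.normConj_mem F hES y).1
    have h2 := hin _ h1
    rw [hR₀] at h2
    exact Subgroup.mem_subgroupOf.1 h2
  have h := Subgroup.mul_mem _ (Subgroup.mem_subgroupOf.1 σ.2) (hup hτ)
  simpa using h

/-- Invariance everywhere bounds the hyperfocal subgroup. -/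
theorem hyperfocal_le_ker (hS : IsPGroup p S) (hF : F.IsSaturated p) (htop : F.autGroup S ≤ Stab χ le_rfl)
    (hess : ∀ E : Subgroup Ω, ∀ hE : F.IsEssential p E, upGroup F E ≤ Stab χ hE.1.1 →
      F.autGroup E ≤ Stab χ hE.1.1) :
    F.hyperfocalSubgroup p ≤ χ.ker.map S.subtype := by
  have key : ∀ P f, IsMap F P f → ∀ x ∈ P, ∀ (hx : x ∈ S) (hfx : f x ∈ S), χ ⟨f x, hfx⟩ = χ ⟨x, hx⟩ := by
    intro P f hf
    refine FusionChain.alperin_induction hS hF
      (fun P f => ∀ x ∈ P, ∀ (hx : x ∈ S) (hfx : f x ∈ S), χ ⟨f x, hfx⟩ = χ ⟨x, hx⟩) ?_ ?_ ?_ ?_ hf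
    · intro P f g _ h e x hx hxS hgx
      simpa only [← e x hx] using h x hx hxS (by rw [e x hx]; exact hgx)
    · intro P P' f _ hle h x hx
      exact h x (hle hx)
    · intro P P' f g hf _ hm h1 h2 x hx hxS hgx
      exact (h2 (f x) (hm x hx) (hf.mem hx) hgx).trans (h1 x hx hxS (hf.mem hx))
    · intro R hn _ _ α hα big x hx hxS hfx
      refine apply_eq_of_mem_stab χ (hES := hn.1) ?_ hx hfx
      rcases eq_or_lt_of_le hn.1 with rfl | hlt
      · exact htop hα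
      have hupS : upGroup F R ≤ Stab χ hn.1 := by
        refine (Subgroup.closure_le _).2 ?_
        rintro β ⟨Q, hQ, g, hg, e⟩
        refine mem_stab_of_map χ e fun z hz hgz => big Q g hg ?_ z (hQ.le hz) _ hgz
        have := finite_of_le hg.le
        exact lt_of_le_of_ne (Subgroup.card_le_of_le hQ.le) fun h =>
          hQ.ne (Subgroup.eq_of_le_of_card_ge hQ.le h.ge)
      rcases dichotomy hS hF hlt hn with ⟨-, h⟩ | ⟨he, -⟩
      · exact hupS (h.ge hα)
      · exact hess R he hupS hα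
  refine (Subgroup.closure_le _).2 ?_
  rintro _ ⟨P, α, x, hP, -, rfl⟩
  have hxS : (x : Ω)⁻¹ * ((α : MulAut P) x : P) ∈ S :=
    S.mul_mem (S.inv_mem (hP x.2)) (hP (Subtype.prop _))
  refine ⟨⟨_, hxS⟩, ?_, rfl⟩
  show χ ⟨_, hxS⟩ = 1
  have h := key P _ (isIso_autFn hP α.2).1 x x.2 (hP x.2) (hP (autFn_mem _ x.2))
  have e : (⟨_, hxS⟩ : S) = (⟨x, hP x.2⟩ : S)⁻¹ * ⟨autFn (α : MulAut P) x, hP (autFn_mem _ x.2)⟩ :=
    Subtype.ext (by simp [autFn_apply _ x.2])
  rw [e, map_mul, map_inv, h, inv_mul_cancel]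

end Cfsg.Agent.OrderFive
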