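import Cfsg.Agent.Lib.OrderFive.CaseMax
import Cfsg.Agent.Lib.OrderFive.Exists
import Cfsg.Agent.Lib.OrderFive.Invariant

/-!
# Conclusion

`exists_good`: the case analysis gives `Good`; `false_of_good`: `Good` contradicts a full hyperfocal subgroup.
-/

set_option autoImplicit false
set_option linter.unusedSectionVars false
set_option linter.style.haveILetI false

open Subgroup

namespace Cfsg.Agent.OrderFive

open Cfsg Cfsg.FusionSystem Cfsg.Agent.Fusion

variable {p : ℕ} [hp : Fact p.Prime] {Ω : Type*} [Group Ω] {S : Subgroup Ω} [Finite S] {F : FusionSystem S}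

variable (h5 : Five p F)

include h5

theorem exists_good (hp7 : p ≠ 7) (hcore : F.core = ⊥) : Good p F := by
  have hS1 : S ≠ ⊥ := fun h => by
    have := h5.card
    rw [h, card_bot] at this
    exact absurd this (Nat.one_lt_pow (by norm_num) hp.out.one_lt).ne
  obtain ⟨E, hE⟩ := exists_essential h5.pg h5.sat hS1 hcore
  by_cases h4 : ∃ P : Subgroup Ω, Nat.card P = p ^ 4 ∧ F.IsEssential p P
  · obtain ⟨P, hc, hP⟩ := h4
    exact good_of_fourth h5 hp7 hP hc
  push Not at h4
  by_cases h3 : ∃ P : Subgroup Ω, Nat.card P = p ^ 3 ∧ F.IsEssential p P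
  · obtain ⟨P, hc, hP⟩ := h3
    by_cases hcm : ∀ a b : P, a * b = b * a
    · exact good_of_cube h5 h4 hP hc hcm
    · exact (false_of_extraspecial h5 h4 hP hc hcm).elim
  push Not at h3
  rcases card_essential h5 hE with h | h | h
  · exact good_of_pearl h5 hp7 (fun P hP => hP.elim (h3 P) (h4 P)) hE h
  · exact absurd hE (h3 E h)
  · exact absurd hE (h4 E h)

theorem false_of_good (hG : Good p F) (hhyp : F.hyperfocalSubgroup p = S) : False := by
  obtain ⟨-, c, hc, hfix⟩ := hG
  obtain ⟨M, hM, hcM⟩ : ∃ M : Subgroup S, IsCoatom M ∧ c ∉ M := by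
    by_contra h
    push Not at h
    refine hc ?_
    have hle : zpowers c ≤ frattini S := PGroup.le_frattini fun M hM => zpowers_le.2 (h M hM)
    exact hle (mem_zpowers c)
  have hfM : frattini S ≤ M := frattini_le_coatom hM
  haveI hMn : M.Normal := ⟨fun n hn g => by
    have := M.mul_mem (hfM (PGroup.commutatorElement_mem_frattini h5.pg g n)) hn
    rwa [commutatorElement_def, inv_mul_cancel_right] at this⟩
  haveI : IsMulCommutative (S ⧸ M) := Subgroup.Normal.quotient_commutative_iff_commutator_le.2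
    ((PGroup.commutator_le_frattini h5.pg).trans hfM)
  letI : CommGroup (S ⧸ M) :=
    { (inferInstance : Group (S ⧸ M)) with mul_comm := fun a b => IsMulCommutative.is_comm.comm a b }
  let χ₀ : S →* S ⧸ M := QuotientGroup.mk' M
  have hC : ∀ v : S ⧸ M, v ^ p = 1 := fun v => by
    obtain ⟨u, rfl⟩ := QuotientGroup.mk'_surjective M v
    rw [← map_pow]
    exact (QuotientGroup.eq_one_iff _).2 (hfM (PGroup.pow_mem_frattini h5.pg u))
  have := finite_mulAut (S := S) (le_refl S)
  set A := F.autGroup S with hA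
  set N := (Cfsg.Inn S).subgroupOf A
  haveI hN : N.Normal := ⟨fun x hx g => (Cfsg.innNormal S).conj_mem x hx g⟩
  have hcos : ∀ {a b : A}, (a : A ⧸ N) = b → ∀ v : S, χ₀ ((a : MulAut S) v) = χ₀ ((b : MulAut S) v) := by
    intro a b h v
    have h1 : b * a⁻¹ ∈ N := by
      rw [← QuotientGroup.eq_one_iff, QuotientGroup.mk_mul, QuotientGroup.mk_inv, h, mul_inv_cancel]
    obtain ⟨u, hu⟩ := h1
    have h2 : (b : MulAut S) v = u * (a : MulAut S) v * u⁻¹ := by
      have := congrArg (fun t : MulAut S => t ((a : MulAut S) v)) hu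
      simpa using this.symm
    rw [h2, map_mul, map_mul, map_inv, mul_inv_cancel_comm]
  haveI := Fintype.ofFinite (A ⧸ N)
  let χ : S →* S ⧸ M := ∏ q : A ⧸ N, χ₀.comp ((q.out : A) : MulAut S).toMonoidHom
  have hχ : ∀ v, χ v = ∏ q : A ⧸ N, χ₀ (((q.out : A) : MulAut S) v) := fun v => by
    simp [χ]
  have htop : F.autGroup S ≤ Stab χ le_rfl := by
    intro β hβ e
    show χ _ = χ _
    rw [hχ, hχ]
    refine Fintype.prod_equiv (Equiv.mulRight ((⟨β, hβ⟩ : A) : A ⧸ N)) _ _ fun q => ?_
    have h := hcos (a := q.out * ⟨β, hβ⟩) (b := (q * ((⟨β, hβ⟩ : A) : A ⧸ N)).out)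
      (by rw [QuotientGroup.mk_mul, QuotientGroup.out_eq', QuotientGroup.out_eq']) e
    exact h
  have hcop : ¬ p ∣ Nat.card (A ⧸ N) := by
    obtain ⟨-, R, hR⟩ := fullyAutomized_of_fullyNormalized h5.pg h5.sat (isFullyNormalized_self F)
    have hRN : (R : Subgroup A) = N := by
      rw [hR]
      ext a
      refine ⟨fun ha => ?_, fun ha => inn_le_autInducedBy le_rfl ha⟩
      obtain ⟨g, hg, e⟩ := mem_autInducedBy_iff.1 ha
      exact ⟨⟨g, hg⟩, MulEquiv.ext fun x => Subtype.ext (e x).symm⟩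
    haveI : (R : Subgroup A).Normal := hRN ▸ hN
    have := R.not_dvd_index
    rwa [hRN, Subgroup.index_eq_card] at this
  have hχc : χ c ≠ 1 := by
    intro h
    have h1 : ∀ q : A ⧸ N, χ₀ (((q.out : A) : MulAut S) c) = χ₀ c := by
      intro q
      rw [← mul_inv_eq_one, ← map_inv, ← map_mul]
      exact (QuotientGroup.eq_one_iff _).2 (hfM (hfix _ (q.out : A).2))
    rw [hχ, Finset.prod_congr rfl (fun q _ => h1 q), Finset.prod_const, Finset.card_univ,
      ← Nat.card_eq_fintype_card] at h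
    have hne : χ₀ c ≠ 1 := fun h' => hcM ((QuotientGroup.eq_one_iff c).1 h')
    have := orderOf_dvd_of_pow_eq_one h
    rw [orderOf_eq_prime (hC _) hne] at this
    exact hcop this
  have hle := hyperfocal_le_ker χ h5.pg h5.sat htop fun E hE hup => autGroup_stab h5 hE χ hC hup
  rw [hhyp] at hle
  obtain ⟨w, hw, e⟩ := hle c.2
  obtain rfl : w = c := Subtype.ext e
  exact hχc hw

end Cfsg.Agent.OrderFive
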