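import Cfsg.Agent.Lib.PGroup.Power
import Cfsg.Agent.Lib.PGroup.NormalAbelian
import Cfsg.Agent.Lib.PGroup.MaximalClass

/-!
# Groups of order `p^5` with a normal subgroup `N` of index `p` with small derived subgroup

`GroupB p g e c`: generators with `[g,[g,e]] = 1`, `[e,c] = 1`, `[g,c]` central of order `p`.
* `GroupB.weights`: an automorphism mapping `e` to `g^i e^j` multiplies `c` by `j²`;
* `NData.comm_mem`, `NData.exists_groupB`: how they arise.
-/

set_option autoImplicit false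
set_option linter.unusedSectionVars false
set_option linter.style.haveILetI false

open Subgroup
open scoped commutatorElement

namespace Cfsg.Agent.OrderFive

section Calc

variable {G : Type*} [Group G]

theorem conj_pow_pow {a b : G} (h1 : Commute a ⁅a, b⁆) (h2 : Commute b ⁅a, b⁆) (i j : ℕ) :
    ⁅a ^ i, b ^ j⁆ = ⁅a, b⁆ ^ (i * j) := by
  have h : ∀ i : ℕ, a ^ i * b * (a ^ i)⁻¹ = ⁅a, b⁆ ^ i * b := by
    intro i
    induction i with
    | zero => simp
    | succ i ih =>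
      have e : a ^ (i + 1) * b * (a ^ (i + 1))⁻¹ = a * (a ^ i * b * (a ^ i)⁻¹) * a⁻¹ := by
        rw [pow_succ']; group
      rw [e, ih, ← mul_assoc, (h1.pow_right i).eq, pow_succ]
      rw [commutatorElement_def]
      group
  have h3 : a ^ i * b ^ j * (a ^ i)⁻¹ = ⁅a, b⁆ ^ (i * j) * b ^ j := by
    rw [← conj_pow, h i, ((h2.pow_right i).symm).mul_pow, ← pow_mul]
  rw [commutatorElement_def, h3, mul_inv_cancel_right]

/-- Bilinearity in the form used for automorphisms. -/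
theorem comm_pow_mul {a b n z : G} (h1 : Commute a ⁅a, b⁆) (h2 : Commute b ⁅a, b⁆) (hn : Commute n b)
    (hnz : Commute n z) (hza : Commute z a) (i j : ℕ) :
    ⁅a ^ i * n, b ^ j * z⁆ = ⁅a, b⁆ ^ (i * j) := by
  have hn' : n * (b ^ j * z) * n⁻¹ = b ^ j * z := by
    rw [((hn.pow_right j).mul_right hnz).eq, mul_inv_cancel_right]
  have hz : a ^ i * z * (a ^ i)⁻¹ = z := by
    rw [← (hza.pow_right i).eq, mul_inv_cancel_right]
  rw [← conj_pow_pow h1 h2 i j, commutatorElement_def, commutatorElement_def]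
  calc a ^ i * n * (b ^ j * z) * (a ^ i * n)⁻¹ * (b ^ j * z)⁻¹
      = a ^ i * (n * (b ^ j * z) * n⁻¹) * (a ^ i)⁻¹ * (b ^ j * z)⁻¹ := by group
    _ = a ^ i * b ^ j * (a ^ i)⁻¹ * (a ^ i * z * (a ^ i)⁻¹) * z⁻¹ * (b ^ j)⁻¹ := by rw [hn']; group
    _ = _ := by rw [hz, mul_inv_cancel_right]

theorem cast_eq_of_pow {p : ℕ} {z : G} (hz : orderOf z = p) {m n : ℕ} (h : z ^ m = z ^ n) :
    (m : ZMod p) = n := by
  rw [ZMod.natCast_eq_natCast_iff, ← hz]
  exact pow_eq_pow_iff_modEq.1 h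

theorem exists_pow_eq_of_card [Finite G] {p : ℕ} [hp : Fact p.Prime] {K : Subgroup G} (hK : Nat.card K = p)
    {u v : G} (hu : u ∈ K) (hu1 : u ≠ 1) (hv : v ∈ K) : ∃ k : ℕ, u ^ k = v := by
  have h : zpowers u = K := by
    refine eq_of_le_of_card_ge (zpowers_le.2 hu) ?_
    rw [hK, Nat.card_zpowers, orderOf_eq_prime (p := p) ?_ hu1]
    have : (⟨u, hu⟩ : K) ^ Nat.card K = 1 := pow_card_eq_one'
    rw [hK] at this
    exact congrArg Subtype.val this
  exact mem_powers_iff_mem_zpowers.2 (h.ge hv)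

theorem normal_closure_of_gens [Finite G] {T T' : Set G} (hT : closure T = ⊤)
    (h : ∀ s ∈ T, ∀ t ∈ T', s * t * s⁻¹ ∈ closure T') : (closure T').Normal := by
  rw [← normalizer_eq_top_iff, eq_top_iff, ← hT, closure_le]
  intro s hs
  refine PGroup.mem_normalizer_of_conj_le fun u hu => ?_
  induction hu using closure_induction with
  | mem t ht => exact h s hs t ht
  | one => simp
  | mul a b _ _ ha hb =>
    have e : s * (a * b) * s⁻¹ = (s * a * s⁻¹) * (s * b * s⁻¹) := by group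
    exact e ▸ mul_mem ha hb
  | inv a _ ha =>
    have e : s * a⁻¹ * s⁻¹ = (s * a * s⁻¹)⁻¹ := by group
    exact e ▸ inv_mem ha

end Calc

variable {X : Type*} [Group X] [Finite X] {p : ℕ} [hp : Fact p.Prime]

/-- The generators. -/
structure GroupB (p : ℕ) (g e c : X) : Prop where
  pgroup : IsPGroup p X
  gen : closure ({g, e, c} : Set X) = ⊤
  hgx : ⁅g, ⁅g, e⁆⁆ = 1
  hec : ⁅e, c⁆ = 1
  hxc : ⁅⁅g, e⁆, c⁆ = 1
  hzc : ⁅g, c⁆ ∈ center X
  hzp : orderOf ⁅g, c⁆ = p
  hb : ∃ b : ℕ, ¬ p ∣ b ∧ ⁅e, ⁅g, e⁆⁆ = ⁅g, c⁆ ^ b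
  cp : c ^ p ∈ zpowers ⁅g, c⁆
  ep : e ^ p ∈ zpowers ⁅g, c⁆
  gp : g ^ p ∈ closure ({⁅g, e⁆, c, ⁅g, c⁆} : Set X)

namespace GroupB

variable {g e c : X} (B : GroupB p g e c)

/-- The abelian normal subgroup `⟨x, c, z⟩`. -/
def W (_B : GroupB p g e c) : Subgroup X := closure ({⁅g, e⁆, c, ⁅g, c⁆} : Set X)

/-- The derived subgroup `⟨x, z⟩`. -/
def H (_B : GroupB p g e c) : Subgroup X := closure ({⁅g, e⁆, ⁅g, c⁆} : Set X)

include B

theorem x_mem : ⁅g, e⁆ ∈ B.W := subset_closure (Or.inl rfl)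
theorem c_mem : c ∈ B.W := subset_closure (Or.inr (Or.inl rfl))
theorem z_mem : ⁅g, c⁆ ∈ B.W := subset_closure (Or.inr (Or.inr rfl))

theorem comm_z (y : X) : Commute y ⁅g, c⁆ := mem_center_iff.1 B.hzc y

theorem commute_xc : Commute ⁅g, e⁆ c := commutatorElement_eq_one_iff_commute.1 B.hxc

theorem commute_W {u v : X} (hu : u ∈ B.W) (hv : v ∈ B.W) : Commute u v := by
  have hcx := B.commute_xc
  have hgen : ∀ s ∈ ({⁅g, e⁆, c, ⁅g, c⁆} : Set X), ∀ t ∈ ({⁅g, e⁆, c, ⁅g, c⁆} : Set X), Commute s t := by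
    rintro s (rfl | rfl | rfl) t (rfl | rfl | rfl) <;>
      first
        | exact Commute.refl _
        | exact hcx
        | exact hcx.symm
        | exact B.comm_z _
        | exact (B.comm_z _).symm
  have h1 : B.W ≤ centralizer ({⁅g, e⁆, c, ⁅g, c⁆} : Set X) := (closure_le _).2 fun s hs =>
    mem_centralizer_iff.2 fun t ht => (hgen t ht s hs).eq
  have h2 : B.W ≤ centralizer (B.W : Set X) := by
    refine h1.trans ?_
    rw [← centralizer_closure]
    exact le_rfl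
  exact (mem_centralizer_iff.1 (h2 hv) u hu :)

theorem normal_W : B.W.Normal := by
  obtain ⟨b, -, hb⟩ := B.hb
  have hx := B.x_mem
  have hz := B.z_mem
  refine normal_closure_of_gens B.gen ?_
  simp only [Set.mem_insert_iff, Set.mem_singleton_iff, forall_eq_or_imp, forall_eq]
  refine ⟨⟨?_, ?_, ?_⟩, ⟨?_, ?_, ?_⟩, ⟨?_, ?_, ?_⟩⟩
  · rw [show g * ⁅g, e⁆ * g⁻¹ = ⁅g, ⁅g, e⁆⁆ * ⁅g, e⁆ by simp only [commutatorElement_def]; group, B.hgx, one_mul]
    exact hx
  · rw [show g * c * g⁻¹ = ⁅g, c⁆ * c by rw [commutatorElement_def]; group]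
    exact mul_mem hz B.c_mem
  · rw [(B.comm_z g).eq, mul_inv_cancel_right]; exact hz
  · rw [show e * ⁅g, e⁆ * e⁻¹ = ⁅e, ⁅g, e⁆⁆ * ⁅g, e⁆ by simp only [commutatorElement_def]; group, hb]
    exact mul_mem (pow_mem hz b) hx
  · rw [show e * c * e⁻¹ = ⁅e, c⁆ * c by rw [commutatorElement_def]; group, B.hec, one_mul]
    exact B.c_mem
  · rw [(B.comm_z e).eq, mul_inv_cancel_right]; exact hz
  · exact mul_mem (mul_mem B.c_mem hx) (inv_mem B.c_mem)
  · exact mul_mem (mul_mem B.c_mem B.c_mem) (inv_mem B.c_mem)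
  · exact mul_mem (mul_mem B.c_mem hz) (inv_mem B.c_mem)

theorem exists_form (y : X) : ∃ (i j : ℕ) (w : X), w ∈ B.W ∧ y = g ^ i * e ^ j * w := by
  haveI := B.normal_W
  let q := QuotientGroup.mk' B.W
  have h1 : ∀ w ∈ B.W, q w = 1 := fun w hw => (QuotientGroup.eq_one_iff w).2 hw
  have hge : Commute (q g) (q e) := by
    rw [← commutatorElement_eq_one_iff_commute, ← map_commutatorElement]
    exact h1 _ B.x_mem
  haveI : (zpowers (q g)).Normal := by
    rw [← normalizer_eq_top_iff, eq_top_iff]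
    rintro u -
    obtain ⟨u, rfl⟩ := QuotientGroup.mk'_surjective B.W u
    have : (⊤ : Subgroup X) ≤ (centralizer ({q g} : Set (X ⧸ B.W))).comap q := by
      rw [← B.gen, closure_le]
      rintro s (rfl | rfl | rfl)
      · exact mem_centralizer_singleton_iff.2 rfl
      · exact mem_centralizer_singleton_iff.2 hge.eq.symm
      · refine mem_centralizer_singleton_iff.2 ?_
        rw [h1 _ B.c_mem, one_mul, mul_one]
    refine centralizer_le_normalizer _ ?_
    rw [zpowers_eq_closure, centralizer_closure]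
    exact (this (mem_top u) :)
  have hsup : (⊤ : Subgroup X) ≤ (zpowers (q g) ⊔ zpowers (q e)).comap q := by
    rw [← B.gen, closure_le]
    rintro s (rfl | rfl | rfl)
    · exact mem_sup_left (mem_zpowers _)
    · exact mem_sup_right (mem_zpowers _)
    · rw [SetLike.mem_coe, mem_comap, h1 _ B.c_mem]
      exact one_mem _
  haveI : Finite (X ⧸ B.W) := Finite.of_surjective _ (QuotientGroup.mk'_surjective B.W)
  obtain ⟨u, hu, v, hv, huv⟩ := mem_sup_of_normal_left.1 (hsup (mem_top y))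
  obtain ⟨i, rfl⟩ := mem_powers_iff_mem_zpowers.2 hu
  obtain ⟨j, rfl⟩ := mem_powers_iff_mem_zpowers.2 hv
  refine ⟨i, j, (g ^ i * e ^ j)⁻¹ * y, ?_, by group⟩
  rw [← QuotientGroup.eq_one_iff]
  show q _ = 1
  rw [map_mul, map_inv, map_mul, map_pow, map_pow, inv_mul_eq_one]
  exact huv

/-- Commutators modulo `⟨z⟩`. -/
theorem normal_K : (zpowers ⁅g, c⁆).Normal := PGroup.zpowers_normal_of_mem_center B.hzc

theorem mod_facts {G' : Type*} [Group G'] (π : X →* G') (hπ : π ⁅g, c⁆ = 1) :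
    (∀ w ∈ B.W, ∀ y, Commute (π w) (π y)) ∧ Commute (π g) (π ⁅g, e⁆) ∧ Commute (π e) (π ⁅g, e⁆) := by
  obtain ⟨b, -, hb⟩ := B.hb
  have hx1 : Commute (π g) (π ⁅g, e⁆) := by
    rw [← commutatorElement_eq_one_iff_commute, ← map_commutatorElement, B.hgx, map_one]
  have hx2 : Commute (π e) (π ⁅g, e⁆) := by
    rw [← commutatorElement_eq_one_iff_commute, ← map_commutatorElement, hb, map_pow, hπ, one_pow]
  refine ⟨fun w hw y => ?_, hx1, hx2⟩
  have hc : ∀ s ∈ ({g, e, c} : Set X), Commute (π c) (π s) := by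
    rintro s (rfl | rfl | rfl)
    · exact (commutatorElement_eq_one_iff_commute.1 (by rw [← map_commutatorElement, hπ])).symm
    · exact (commutatorElement_eq_one_iff_commute.1 (by rw [← map_commutatorElement, B.hec, map_one])).symm
    · exact Commute.refl _
  have hx : ∀ s ∈ ({g, e, c} : Set X), Commute (π ⁅g, e⁆) (π s) := by
    rintro s (rfl | rfl | rfl)
    · exact hx1.symm
    · exact hx2.symm
    · exact (B.commute_xc.map π)
  have key : B.W ≤ (center (MonoidHom.range π)).comap π.rangeRestrict := by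
    refine (closure_le _).2 ?_
    intro t ht
    refine mem_center_iff.2 fun r => ?_
    obtain ⟨r, rfl⟩ := π.rangeRestrict_surjective r
    refine Subtype.ext ?_
    show π r * π t = π t * π r
    have : (⊤ : Subgroup X) ≤ (centralizer ({π t} : Set G')).comap π := by
      rw [← B.gen, closure_le]
      intro s hs
      refine mem_centralizer_singleton_iff.2 ?_
      rcases ht with rfl | rfl | rfl
      · exact (hx s hs).eq.symm
      · exact (hc s hs).eq.symm
      · rw [hπ, one_mul, mul_one]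
    exact mem_centralizer_singleton_iff.1 (this (mem_top r))
  exact (congrArg Subtype.val (mem_center_iff.1 (key hw) (π.rangeRestrict y))).symm

/-- The commutator with `x`. -/
theorem comm_x {i j : ℕ} {w : X} (hw : w ∈ B.W) :
    ⁅g ^ i * e ^ j * w, ⁅g, e⁆⁆ = ⁅e, ⁅g, e⁆⁆ ^ j := by
  obtain ⟨b, -, hb⟩ := B.hb
  have h1 : ⁅g ^ i * e ^ j * w, ⁅g, e⁆⁆ =
      g ^ i * (e ^ j * (w * ⁅g, e⁆ * w⁻¹) * (e ^ j)⁻¹ * ⁅g, e⁆⁻¹) * (g ^ i)⁻¹ *
        ⁅g ^ i, ⁅g, e⁆⁆ := by
    simp only [commutatorElement_def]; group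
  have hgx : Commute (g ^ i) ⁅g, e⁆ := (commutatorElement_eq_one_iff_commute.1 B.hgx).pow_left i
  rw [h1, (B.commute_W hw B.x_mem).eq, mul_inv_cancel_right, commutatorElement_eq_one_iff_commute.2 hgx,
    mul_one, ← commutatorElement_def]
  have h2 := conj_pow_pow (a := e) (b := ⁅g, e⁆) (by rw [hb]; exact (B.comm_z e).pow_right b)
    (by rw [hb]; exact (B.comm_z _).pow_right b) j 1
  rw [pow_one, mul_one] at h2
  rw [h2]
  have : Commute (g ^ i) (⁅e, ⁅g, e⁆⁆ ^ j) := by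
    rw [hb, ← pow_mul]
    exact (B.comm_z _).pow_right _
  rw [this.eq, mul_inv_cancel_right]

theorem form_W {w : X} (hw : w ∈ B.W) : ∃ (l m : ℕ), ∃ k ∈ zpowers ⁅g, c⁆, w = ⁅g, e⁆ ^ l * c ^ m * k := by
  haveI := B.normal_K
  have hsup : B.W = closure {⁅g, e⁆} ⊔ closure {c} ⊔ zpowers ⁅g, c⁆ := by
    rw [W, zpowers_eq_closure, ← Subgroup.closure_union, ← Subgroup.closure_union, Set.union_assoc, Set.singleton_union,
      Set.singleton_union]
  rw [hsup] at hw
  obtain ⟨u, hu, k, hk, rfl⟩ := mem_sup_of_normal_right.1 hw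
  have hle : closure {⁅g, e⁆} ⊔ closure {c} ≤ B.W := hsup ▸ le_sup_left
  have : u ∈ closure ({⁅g, e⁆, c} : Set X) := by
    rw [← Set.singleton_union, Subgroup.closure_union]; exact hu
  obtain ⟨s, t, hst⟩ : ∃ s t : ℤ, ⁅g, e⁆ ^ s * c ^ t = u := by
    clear hu hw hk
    induction this using closure_induction with
    | mem v hv =>
      rcases hv with rfl | rfl
      · exact ⟨1, 0, by simp⟩
      · exact ⟨0, 1, by simp⟩
    | one => exact ⟨0, 0, by simp⟩
    | mul v v' _ _ hv hv' =>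
      obtain ⟨s, t, rfl⟩ := hv
      obtain ⟨s', t', rfl⟩ := hv'
      refine ⟨s + s', t + t', ?_⟩
      rw [zpow_add, zpow_add, (B.commute_xc.zpow_zpow s' t).mul_mul_mul_comm]
    | inv v _ hv =>
      obtain ⟨s, t, rfl⟩ := hv
      exact ⟨-s, -t, by rw [mul_inv_rev, zpow_neg, zpow_neg, ((B.commute_xc.zpow_zpow s t).inv_inv).eq]⟩
  obtain ⟨l, hl⟩ := mem_powers_iff_mem_zpowers.2 (⟨s, rfl⟩ : ⁅g, e⁆ ^ s ∈ zpowers ⁅g, e⁆)
  obtain ⟨m, hm⟩ := mem_powers_iff_mem_zpowers.2 (⟨t, rfl⟩ : c ^ t ∈ zpowers c)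
  exact ⟨l, m, k, hk, by rw [← hst, ← hl, ← hm]⟩

theorem x_mem_H : ⁅g, e⁆ ∈ B.H := subset_closure (Or.inl rfl)

theorem K_le_H : zpowers ⁅g, c⁆ ≤ B.H := zpowers_le.2 (subset_closure (Or.inr rfl))

theorem pow_mem_H {m : ℕ} (hm : p ∣ m) : c ^ m ∈ B.H := by
  obtain ⟨q, rfl⟩ := hm
  rw [pow_mul]
  exact pow_mem (B.K_le_H B.cp) q

/-- `H` contains the derived subgroup and `p`-th powers. -/
theorem frattini_le : frattini X ≤ B.H := by
  have hK := B.K_le_H
  haveI hn : B.H.Normal := by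
    obtain ⟨b, -, hb⟩ := B.hb
    refine normal_closure_of_gens B.gen ?_
    simp only [Set.mem_insert_iff, Set.mem_singleton_iff, forall_eq_or_imp, forall_eq]
    refine ⟨⟨?_, ?_⟩, ⟨?_, ?_⟩, ⟨?_, ?_⟩⟩
    · rw [show g * ⁅g, e⁆ * g⁻¹ = ⁅g, ⁅g, e⁆⁆ * ⁅g, e⁆ by simp only [commutatorElement_def]; group, B.hgx, one_mul]
      exact B.x_mem_H
    · rw [(B.comm_z g).eq, mul_inv_cancel_right]; exact hK (mem_zpowers _)
    · rw [show e * ⁅g, e⁆ * e⁻¹ = ⁅e, ⁅g, e⁆⁆ * ⁅g, e⁆ by simp only [commutatorElement_def]; group, hb]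
      exact mul_mem (pow_mem (hK (mem_zpowers _)) b) B.x_mem_H
    · rw [(B.comm_z e).eq, mul_inv_cancel_right]; exact hK (mem_zpowers _)
    · rw [B.commute_xc.symm.eq, mul_inv_cancel_right]
      exact B.x_mem_H
    · rw [(B.comm_z _).eq, mul_inv_cancel_right]; exact hK (mem_zpowers _)
  let q := QuotientGroup.mk' B.H
  have h1 : ∀ w ∈ B.H, q w = 1 := fun w hw => (QuotientGroup.eq_one_iff w).2 hw
  have hgen : ∀ s ∈ ({g, e, c} : Set X), ∀ t ∈ ({g, e, c} : Set X), Commute (q s) (q t) := by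
    have a1 : Commute (q g) (q e) := by
      rw [← commutatorElement_eq_one_iff_commute, ← map_commutatorElement]; exact h1 _ B.x_mem_H
    have a2 : Commute (q g) (q c) := by
      rw [← commutatorElement_eq_one_iff_commute, ← map_commutatorElement]; exact h1 _ (hK (mem_zpowers _))
    have a3 : Commute (q e) (q c) := by
      rw [← commutatorElement_eq_one_iff_commute, ← map_commutatorElement, B.hec, map_one]
    rintro s (rfl | rfl | rfl) t (rfl | rfl | rfl) <;>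
      first
        | exact Commute.refl _
        | exact a1
        | exact a2
        | exact a3
        | exact a1.symm
        | exact a2.symm
        | exact a3.symm
  have hall : ∀ u v : X, Commute (q u) (q v) := by
    have h2 : ∀ s ∈ ({g, e, c} : Set X), ∀ v, Commute (q s) (q v) := by
      intro s hs v
      have : (⊤ : Subgroup X) ≤ (centralizer ({q s} : Set (X ⧸ B.H))).comap q := by
        rw [← B.gen, closure_le]
        exact fun t ht => mem_centralizer_singleton_iff.2 (hgen s hs t ht).eq.symm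
      exact (mem_centralizer_singleton_iff.1 (this (mem_top v))).symm
    intro u v
    have : (⊤ : Subgroup X) ≤ (centralizer ({q v} : Set (X ⧸ B.H))).comap q := by
      rw [← B.gen, closure_le]
      exact fun t ht => mem_centralizer_singleton_iff.2 (h2 t ht v).eq
    exact mem_centralizer_singleton_iff.1 (this (mem_top u))
  have hcm : commutator X ≤ B.H := by
    rw [_root_.commutator_def, commutator_le]
    intro u _ v _
    rw [← QuotientGroup.eq_one_iff]
    show q ⁅u, v⁆ = 1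
    rw [map_commutatorElement, commutatorElement_eq_one_iff_commute]
    exact hall u v
  refine PGroup.frattini_le_of_quotient_elementary (p := p) hcm fun u => ?_
  have hg : g ^ p ∈ B.H := by
    obtain ⟨l, m, k, hk, he⟩ := B.form_W B.gp
    have h2 : Commute g (g ^ p) := Commute.self_pow g p
    rw [he] at h2 ⊢
    refine mul_mem (mul_mem (pow_mem B.x_mem_H l) (B.pow_mem_H ?_)) (hK hk)
    have hcz : Commute k g := (mem_center_iff.1 (zpowers_le.2 B.hzc hk) g).symm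
    have hgx : Commute g (⁅g, e⁆ ^ l) := (commutatorElement_eq_one_iff_commute.1 B.hgx).pow_right l
    have h3 : ⁅g, c ^ m⁆ = 1 := by
      rw [commutatorElement_eq_one_iff_commute]
      have h4 := ((hgx.inv_right).mul_right h2).mul_right hcz.symm.inv_right
      simpa [mul_assoc] using h4
    have h5 := conj_pow_pow (a := g) (b := c) (B.comm_z g) (B.comm_z c) 1 m
    rw [pow_one, one_mul, h3] at h5
    rw [← B.hzp]
    exact orderOf_dvd_of_pow_eq_one h5.symm
  have hTop : (⊤ : Subgroup X) ≤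
      ({ carrier := {v | q v ^ p = 1}
         one_mem' := by simp
         mul_mem' := fun {a b} (ha : q a ^ p = 1) (hb : q b ^ p = 1) => by
           show q (a * b) ^ p = 1
           rw [map_mul, (hall a b).mul_pow, ha, hb, one_mul]
         inv_mem' := fun {a} (ha : q a ^ p = 1) => by
           show q a⁻¹ ^ p = 1
           rw [map_inv, inv_pow, ha, inv_one] } : Subgroup X) := by
    rw [← B.gen, closure_le]
    rintro s (rfl | rfl | rfl) <;> show q s ^ p = 1 <;> rw [← map_pow] <;> apply h1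
    · exact hg
    · exact hK B.ep
    · exact hK B.cp
  have := hTop (mem_top u)
  rw [← QuotientGroup.eq_one_iff]
  show q (u ^ p) = 1
  rw [map_pow]
  exact this

theorem c_not_mem_H : c ∉ B.H := by
  intro h
  have hle : B.H ≤ centralizer ({g} : Set X) := (closure_le _).2 (by
    rintro t (rfl | rfl)
    · exact mem_centralizer_singleton_iff.2 (commutatorElement_eq_one_iff_mul_comm.1 B.hgx).symm
    · exact mem_centralizer_singleton_iff.2 (B.comm_z g).eq.symm)
  have h1 : ⁅g, c⁆ = 1 := commutatorElement_eq_one_iff_mul_comm.2 (mem_centralizer_singleton_iff.1 (hle h)).symm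
  have := B.hzp
  rw [h1, orderOf_one] at this
  exact hp.out.one_lt.ne this

theorem c_not_mem_frattini : c ∉ frattini X := fun h => B.c_not_mem_H (B.frattini_le h)

theorem H_le_W : B.H ≤ B.W := closure_mono (by
  simp only [Set.insert_subset_iff, Set.singleton_subset_iff, Set.mem_insert_iff, Set.mem_singleton_iff]
  tauto)

theorem H_eq_frattini : B.H = frattini X := by
  refine le_antisymm ((closure_le _).2 ?_) B.frattini_le
  simp only [Set.insert_subset_iff, Set.singleton_subset_iff]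
  exact ⟨PGroup.commutatorElement_mem_frattini B.pgroup _ _, PGroup.commutatorElement_mem_frattini B.pgroup _ _⟩

theorem form_H {u : X} (hu : u ∈ B.H) : ∃ d : ℕ, ∃ k ∈ zpowers ⁅g, c⁆, u = ⁅g, e⁆ ^ d * k := by
  haveI := B.normal_K
  have hsup : B.H = zpowers ⁅g, e⁆ ⊔ zpowers ⁅g, c⁆ := by
    rw [H, zpowers_eq_closure, zpowers_eq_closure, ← Subgroup.closure_union, Set.singleton_union]
  rw [hsup] at hu
  obtain ⟨v, hv, k, hk, rfl⟩ := mem_sup_of_normal_right.1 hu
  obtain ⟨d, rfl⟩ := mem_powers_iff_mem_zpowers.2 hv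
  exact ⟨d, k, hk, rfl⟩

/-- The commutator with powers of `x`. -/
theorem comm_x_pow {i j : ℕ} {w : X} (hw : w ∈ B.W) {b : ℕ} (hb : ⁅e, ⁅g, e⁆⁆ = ⁅g, c⁆ ^ b) (d : ℕ) {k : X}
    (hk : k ∈ zpowers ⁅g, c⁆) :
    ⁅g ^ i * e ^ j * w, ⁅g, e⁆ ^ d * k⁆ = ⁅g, c⁆ ^ (b * j * d) := by
  have h0 := B.comm_x (i := i) (j := j) hw
  rw [hb, ← pow_mul] at h0
  have hz1 : ∀ y : X, Commute y ⁅g ^ i * e ^ j * w, ⁅g, e⁆⁆ := fun y => by
    rw [h0]; exact (B.comm_z y).pow_right _
  have h := conj_pow_pow (hz1 _) (hz1 _) 1 d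
  rw [pow_one, one_mul, h0, ← pow_mul] at h
  rw [show b * j * d = b * j * d from rfl, ← h]
  have hkc : k ∈ center X := zpowers_le.2 B.hzc hk
  rw [commutatorElement_def, commutatorElement_def]
  generalize g ^ i * e ^ j * w = y
  generalize ⁅g, e⁆ ^ d = v
  calc y * (v * k) * y⁻¹ * (v * k)⁻¹ = y * v * (k * y⁻¹) * k⁻¹ * v⁻¹ := by group
    _ = _ := by rw [← mem_center_iff.1 hkc y⁻¹]; group

theorem x_not_mem_center : ⁅g, e⁆ ∉ center X := fun h => by
  obtain ⟨b, hb0, hb⟩ := B.hb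
  rw [commutatorElement_eq_one_iff_mul_comm.2 (mem_center_iff.1 h e)] at hb
  refine hb0 ?_
  rw [← B.hzp]
  exact orderOf_dvd_of_pow_eq_one hb.symm

/-- The weight of `c`. -/
theorem weights (α : MulAut X) {i j : ℕ} {w : X} (hw : w ∈ B.W) (hα : α e = g ^ i * e ^ j * w) :
    ¬ p ∣ j ∧ α c * (c ^ (j * j))⁻¹ ∈ B.H := by
  obtain ⟨b, hb0, hb⟩ := B.hb
  have hzo : orderOf ⁅g, c⁆ = p := B.hzp
  have hbp : (b : ZMod p) ≠ 0 := fun h => hb0 ((ZMod.natCast_eq_zero_iff b p).1 h)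
  have hcoe : ∀ {n : ℕ}, (n : ZMod p) = 0 → p ∣ n := fun {n} h => (ZMod.natCast_eq_zero_iff n p).1 h
  have hz0 : ∀ {n : ℕ}, ⁅g, c⁆ ^ n = 1 → (n : ZMod p) = 0 := fun {n} h =>
    (ZMod.natCast_eq_zero_iff n p).2 (hzo ▸ orderOf_dvd_of_pow_eq_one h)
  have hαH : α ⁅g, e⁆ ∈ B.H := by
    have h := B.x_mem_H
    rw [B.H_eq_frattini] at h ⊢
    exact (characteristic_iff_le_comap.1 inferInstance α) h
  obtain ⟨d, k, hk, hd⟩ := B.form_H hαH
  have hd0 : (d : ZMod p) ≠ 0 := fun h => by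
    refine B.x_not_mem_center (mem_center_iff.2 fun y => ?_)
    obtain ⟨i', j', w', hw', hy⟩ := B.exists_form (α y)
    refine commutatorElement_eq_one_iff_mul_comm.1 (α.injective ?_)
    rw [map_commutatorElement, map_one, hy, hd, B.comm_x_pow hw' hb d hk]
    obtain ⟨r, hr⟩ := hcoe h
    rw [hr, ← mul_assoc, mul_comm (b * j'), mul_assoc, pow_mul, ← hzo, pow_orderOf_eq_one, one_pow]
  -- membership in the centralizer of `x`
  have hA : ∀ {y : X} {i' j' : ℕ} {w' : X}, w' ∈ B.W → α y = g ^ i' * e ^ j' * w' → ⁅y, ⁅g, e⁆⁆ = 1 →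
      p ∣ j' := by
    intro y i' j' w' hw' hy h
    have h1 := congrArg α h
    rw [map_commutatorElement, map_one, hy, hd, B.comm_x_pow hw' hb d hk] at h1
    have h2 := hz0 h1
    push_cast at h2
    exact hcoe ((mul_eq_zero.1 ((mul_eq_zero.1 h2).resolve_right hd0)).resolve_left hbp)
  have he1 : ⁅α e, α ⁅g, e⁆⁆ = ⁅g, c⁆ ^ (b * j * d) := by rw [hα, hd, B.comm_x_pow hw hb d hk]
  have he2 : ⁅α e, α ⁅g, e⁆⁆ = α ⁅g, c⁆ ^ b := by rw [← map_commutatorElement, hb, map_pow]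
  have hj : (j : ZMod p) ≠ 0 := fun h => by
    have h1 : α (⁅g, c⁆ ^ b) = α 1 := by
      rw [map_pow, ← he2, he1, map_one]
      obtain ⟨r, hr⟩ := hcoe h
      rw [hr, show b * (p * r) * d = p * (b * r * d) by ring, pow_mul, ← hzo, pow_orderOf_eq_one, one_pow]
    exact hb0 (hcoe (hz0 (α.injective h1)))
  have hjd : ¬ p ∣ j := fun h => hj ((ZMod.natCast_eq_zero_iff j p).2 h)
  refine ⟨hjd, ?_⟩
  obtain ⟨a, a', w₂, hw₂, hg⟩ := B.exists_form (α g)
  have ha' : p ∣ a' := hA hw₂ hg B.hgx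
  obtain ⟨i₃, j₃, w₃, hw₃, hc⟩ := B.exists_form (α c)
  have hj₃ : p ∣ j₃ := hA hw₃ hc (by rw [← commutatorElement_inv, B.hxc, inv_one])
  have hew : ∀ {t : ℕ} {u : X}, p ∣ t → u ∈ B.W → e ^ t * u ∈ B.W := by
    rintro t u ⟨r, rfl⟩ hu
    rw [pow_mul]
    exact mul_mem (pow_mem (zpowers_le.2 B.z_mem B.ep) r) hu
  have hgp : ∀ {t : ℕ}, p ∣ t → g ^ t ∈ B.W := by
    rintro t ⟨r, rfl⟩
    rw [pow_mul]
    exact pow_mem B.gp r
  have hu₂ : e ^ a' * w₂ ∈ B.W := hew ha' hw₂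
  have hu₃ : e ^ j₃ * w₃ ∈ B.W := hew hj₃ hw₃
  rw [mul_assoc] at hg hc
  generalize e ^ a' * w₂ = u₂ at hu₂ hg
  generalize e ^ j₃ * w₃ = u₃ at hu₃ hc
  -- modulo `⟨z⟩`
  haveI := B.normal_K
  obtain ⟨G', _, q, hq, hqsurj⟩ : ∃ (G' : Type _) (_ : Group G') (q : X →* G'),
      (∀ y, q y = 1 ↔ y ∈ zpowers ⁅g, c⁆) ∧ Function.Surjective q :=
    ⟨X ⧸ zpowers ⁅g, c⁆, inferInstance, QuotientGroup.mk' _, fun y => QuotientGroup.eq_one_iff y,
      QuotientGroup.mk'_surjective _⟩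
  obtain ⟨hWc, hgx', hex'⟩ := B.mod_facts q ((hq _).2 (mem_zpowers _))
  have hxg : ⁅q g, q e⁆ = q ⁅g, e⁆ := (map_commutatorElement q g e).symm
  have hk1 : Commute (q g) ⁅q g, q e⁆ := hxg ▸ hgx'
  have hk2 : Commute (q e) ⁅q g, q e⁆ := hxg ▸ hex'
  have hgie : Commute (q e ^ j)⁻¹ (q ⁅g, e⁆) := (hex'.pow_left j).inv_left
  have hside : ∀ a₀ : ℕ, ∀ u ∈ B.W,
      ⁅q g ^ a₀ * q u, q (g ^ i * e ^ j * w)⁆ = ⁅q g, q e⁆ ^ (a₀ * j) := by
    intro a₀ u hu
    have e1 : q (g ^ i * e ^ j * w) = q e ^ j * ((q e ^ j)⁻¹ * q g ^ i * q e ^ j * q w) := by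
      rw [map_mul, map_mul, map_pow, map_pow]; group
    rw [e1]
    have hcu : ∀ y, Commute (q u) y := fun y => by
      obtain ⟨y, rfl⟩ := hqsurj y; exact hWc u hu y
    refine comm_pow_mul hk1 hk2 (hcu _) (hcu _) ?_ a₀ j
    refine Commute.mul_left ?_ (hWc w hw g)
    have h3 : (q e ^ j)⁻¹ * q g ^ i * q e ^ j = q g ^ i * ((q ⁅g, e⁆) ^ (i * j)) := by
      have h4 := conj_pow_pow hk1 hk2 i j
      rw [hxg] at h4
      have h5 : q g ^ i * q e ^ j = q ⁅g, e⁆ ^ (i * j) * (q e ^ j * q g ^ i) := by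
        rw [← h4, commutatorElement_def]; group
      rw [mul_assoc, h5, ← mul_assoc, (hgie.pow_right _).eq, mul_assoc, inv_mul_cancel_left,
        ((hgx'.pow_left i).pow_right (i * j)).eq]
    rw [h3]
    exact Commute.mul_left ((Commute.refl _).pow_left i) (hgx'.symm.pow_left _)
  have hxm : ∀ n : ℕ, q ⁅g, e⁆ ^ n = 1 → (n : ZMod p) = 0 := by
    intro n hn
    rw [← map_pow, hq] at hn
    have h1 := B.comm_x_pow (i := 0) (j := 1) (one_mem B.W) hb n (one_mem _)
    rw [pow_zero, pow_one, one_mul, mul_one, mul_one,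
      commutatorElement_eq_one_iff_mul_comm.2 (mem_center_iff.1 (zpowers_le.2 B.hzc hn) e)] at h1
    have h2 := hz0 h1.symm
    push_cast at h2
    simpa [hbp] using h2
  have hqord : ∀ m n : ℕ, q ⁅g, e⁆ ^ m = q ⁅g, e⁆ ^ n → (m : ZMod p) = n := by
    intro m n hmn
    rcases le_total m n with h | h <;> obtain ⟨r, rfl⟩ := Nat.exists_eq_add_of_le h
    · rw [pow_add, left_eq_mul] at hmn
      rw [Nat.cast_add, hxm r hmn, add_zero]
    · rw [pow_add, mul_eq_left] at hmn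
      rw [Nat.cast_add, hxm r hmn, add_zero]
  -- the weight of `x`
  have hda : (d : ZMod p) = a * j := by
    have h1 := congrArg q (map_commutatorElement α g e)
    rw [hd, hg, hα, map_commutatorElement q, map_mul q _ k, (hq k).2 hk, mul_one, map_pow, map_mul q _ u₂,
      map_pow q g, hside a u₂ hu₂, hxg] at h1
    have h2 := hqord _ _ h1
    push_cast at h2
    exact h2
  -- `α c` lies in `W`
  have hi₃ : p ∣ i₃ := by
    have h1 : q ⁅α c, α e⁆ = 1 := by
      rw [← map_commutatorElement, ← commutatorElement_inv, B.hec, inv_one, map_one, map_one]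
    rw [hc, hα, map_commutatorElement, map_mul q _ u₃, map_pow, hside i₃ u₃ hu₃, hxg] at h1
    have h2 := hxm _ h1
    push_cast at h2
    exact hcoe ((mul_eq_zero.1 h2).resolve_right hj)
  have hcW : α c ∈ B.W := by rw [hc]; exact mul_mem (hgp hi₃) hu₃
  obtain ⟨l, m, k₃, hk₃, hcl⟩ := B.form_W hcW
  have hk₃c : k₃ ∈ center X := zpowers_le.2 B.hzc hk₃
  have hcg : α ⁅g, c⁆ = ⁅g, c⁆ ^ (a * m) := by
    rw [map_commutatorElement, hg, hcl, (B.commute_xc.pow_pow l m).eq, mul_assoc]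
    refine comm_pow_mul (B.comm_z g) (B.comm_z c) (B.commute_W hu₂ B.c_mem)
      ((B.commute_W hu₂ (pow_mem B.x_mem l)).mul_right (mem_center_iff.1 hk₃c _)) ?_ a m
    exact Commute.mul_left ((commutatorElement_eq_one_iff_commute.1 B.hgx).symm.pow_left l)
      (mem_center_iff.1 hk₃c g).symm
  rw [he2, hcg, ← pow_mul] at he1
  have h3 := cast_eq_of_pow hzo he1
  push_cast at h3
  have ha0 : (a : ZMod p) ≠ 0 := fun h => hd0 (by rw [hda, h, zero_mul])
  have hm : (m : ZMod p) = j * j := by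
    refine mul_left_cancel₀ (mul_ne_zero ha0 hbp) ?_
    linear_combination h3 + (b : ZMod p) * j * hda
  have hmod : m ≡ j * j [MOD p] := by
    rw [← ZMod.natCast_eq_natCast_iff, hm, Nat.cast_mul]
  have hH : ∀ u v : ℕ, u ≡ v [MOD p] → c ^ u * (c ^ v)⁻¹ ∈ B.H := by
    intro u v huv
    have key : ∀ r : ℕ, c ^ r * (c ^ (r % p))⁻¹ ∈ B.H := fun r => by
      have e1 : c ^ r = c ^ (p * (r / p)) * c ^ (r % p) := by
        rw [← pow_add, Nat.div_add_mod]
      rw [e1, mul_inv_cancel_right]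
      exact B.pow_mem_H (Dvd.intro _ rfl)
    have e' : c ^ u * (c ^ v)⁻¹ = (c ^ u * (c ^ (u % p))⁻¹) * (c ^ v * (c ^ (v % p))⁻¹)⁻¹ := by
      rw [huv]; group
    rw [e']
    exact mul_mem (key u) (inv_mem (key v))
  rw [hcl]
  have e' : ⁅g, e⁆ ^ l * c ^ m * k₃ * (c ^ (j * j))⁻¹ = ⁅g, e⁆ ^ l * (c ^ m * (c ^ (j * j))⁻¹) * k₃ := by
    rw [mul_assoc (⁅g, e⁆ ^ l * c ^ m), ← (mem_center_iff.1 hk₃c _)]
    group
  rw [e']
  exact mul_mem (mul_mem (pow_mem B.x_mem_H l) (hH _ _ hmod)) (B.K_le_H hk₃)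

end GroupB

end Cfsg.Agent.OrderFive
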