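import Cfsg.Agent.Lib.OrderFive.Torus
import Cfsg.Agent.Lib.EssentialSmall.Basic
import Cfsg.Agent.Lib.Resist.Fusion

/-!
# Pairs of transvections in the automiser of an essential subgroup

`Rep p F E V`: an elementary abelian factor `V` of `E` on which a `p'`-residual element acting trivially
is inner.  Main results (namespace `Cfsg.Agent.OrderFive`): `mem_up_of_conj`, `exists_not_mem_up`,
`Rep.not_fix`, `Rep.exists_torus`, `exists_extension_of_normalizes`.
-/

set_option autoImplicit false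
set_option linter.unusedSectionVars false

open Subgroup

namespace Cfsg.Agent.OrderFive

open Cfsg Cfsg.FusionSystem Cfsg.Agent.Fusion

variable {p : ℕ} [hp : Fact p.Prime] {Ω : Type*} [Group Ω] {S : Subgroup Ω} [Finite S] {F : FusionSystem S}
  {E : Subgroup Ω}

/-- The subgroup of `Aut_F(E)` generated by the elements of `p`-power order. -/
def G0 (p : ℕ) (F : FusionSystem S) (E : Subgroup Ω) : Subgroup (MulAut E) :=
  Subgroup.closure {α | α ∈ F.autGroup E ∧ ∃ k, α ^ p ^ k = 1}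

/-- `α` is a noninner element of `p`-power order of the group of extendable automorphisms. -/
structure IsOuterP (p : ℕ) (F : FusionSystem S) (E : Subgroup Ω) (α : MulAut E) : Prop where
  mem : α ∈ upGroup F E
  outer : α ∉ Cfsg.Inn E
  pow : ∃ k, α ^ p ^ k = 1

theorem G0_le : G0 p F E ≤ F.autGroup E := (Subgroup.closure_le _).2 fun _ h => h.1

theorem mem_G0 {α : MulAut E} (h : α ∈ F.autGroup E) {k : ℕ} (hk : α ^ p ^ k = 1) : α ∈ G0 p F E :=
  Subgroup.subset_closure ⟨h, k, hk⟩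

theorem conj_mem_G0 {α γ : MulAut E} (hγ : γ ∈ F.autGroup E) (hα : α ∈ F.autGroup E) {k : ℕ}
    (hk : α ^ p ^ k = 1) : γ * α * γ⁻¹ ∈ G0 p F E :=
  mem_G0 (Subgroup.mul_mem _ (Subgroup.mul_mem _ hγ hα) (Subgroup.inv_mem _ hγ))
    (k := k) (by rw [conj_pow, hk, mul_one, mul_inv_cancel])

section Essential

variable (hS : IsPGroup p S) (hF : F.IsSaturated p) (hE : F.IsEssential p E)

include hS hF hE

theorem lt_S : E < S := (FusionAbelianIndex.Rad.of_essential hS hF hE).lt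

theorem centralizerIn_le : centralizerIn S E ≤ E :=
  (FusionAbelianIndex.Rad.of_essential hS hF hE).cle

theorem up_le : upGroup F E ≤ F.autGroup E := upGroup_le_autGroup hE.1.1

theorem inn_le_up : Cfsg.Inn E ≤ upGroup F E :=
  (inn_le_autInducedBy hE.1.1).trans (autS_le_upGroup hS (lt_S hS hF hE))

theorem exists_strongly : ∃ _ : ((Cfsg.Inn E).subgroupOf (F.autGroup E)).Normal,
    Cfsg.IsStronglyPEmbedded p (((upGroup F E).subgroupOf (F.autGroup E)).map
      (QuotientGroup.mk' ((Cfsg.Inn E).subgroupOf (F.autGroup E)))) := by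
  rcases dichotomy hS hF (lt_S hS hF hE) hE.2.1 with ⟨h, -⟩ | ⟨-, h⟩
  · exact absurd hE h
  · exact h

theorem exists_not_mem_up : ∃ γ ∈ F.autGroup E, γ ∉ upGroup F E := by
  obtain ⟨hn, hSE⟩ := exists_strongly hS hF hE
  by_contra h
  push Not at h
  refine hSE.2.1 (eq_top_iff.2 fun q _ => ?_)
  obtain ⟨a, rfl⟩ := QuotientGroup.mk'_surjective _ q
  exact Subgroup.mem_map_of_mem _ (Subgroup.mem_subgroupOf.2 (h a a.2))

/-- Strong embedding of the extendable automorphisms. -/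
theorem mem_up_of_conj {q γ : MulAut E} (hq : IsOuterP p F E q) (hγ : γ ∈ F.autGroup E)
    (hc : γ * q * γ⁻¹ ∈ upGroup F E) : γ ∈ upGroup F E := by
  obtain ⟨hn, hSE⟩ := exists_strongly hS hF hE
  have := finite_mulAut (S := S) hE.1.1
  have hle := up_le hS hF hE
  set π := QuotientGroup.mk' ((Cfsg.Inn E).subgroupOf (F.autGroup E))
  have hker : ∀ a : F.autGroup E, π a = 1 ↔ (a : MulAut E) ∈ Cfsg.Inn E := fun a => by
    rw [← MonoidHom.mem_ker, QuotientGroup.ker_mk', Subgroup.mem_subgroupOf]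
  set q' : F.autGroup E := ⟨q, hle hq.mem⟩
  obtain ⟨k, hk⟩ := hq.pow
  have hk' : orderOf (π q') ∣ p ^ k := orderOf_dvd_of_pow_eq_one (by
    rw [← map_pow, show q' ^ p ^ k = 1 from Subtype.ext (by simpa using hk), map_one])
  obtain ⟨j, -, hj⟩ := (Nat.dvd_prime_pow hp.out).1 hk'
  have hj0 : 0 < j := Nat.pos_of_ne_zero fun h =>
    hq.outer ((hker q').1 (orderOf_eq_one_iff.1 (by simp [hj, h])))
  set m := p ^ (j - 1)
  have hy : orderOf (π q' ^ m) = p := by
    rw [orderOf_pow' _ (pow_ne_zero _ hp.out.ne_zero), hj,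
      Nat.gcd_eq_right (pow_dvd_pow p (Nat.sub_le j 1)),
      Nat.pow_div (Nat.sub_le j 1) hp.out.pos, Nat.sub_sub_self hj0, pow_one]
  have h1 : π q' ^ m ∈ ((upGroup F E).subgroupOf (F.autGroup E)).map π := by
    rw [← map_pow]
    exact Subgroup.mem_map_of_mem π (Subgroup.pow_mem _ (Subgroup.mem_subgroupOf.2 hq.mem) m)
  have h2 : π ⟨γ, hγ⟩ * π q' ^ m * (π ⟨γ, hγ⟩)⁻¹ ∈ ((upGroup F E).subgroupOf (F.autGroup E)).map π := by
    rw [← conj_pow, ← map_inv, ← map_mul, ← map_mul, ← map_pow]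
    exact Subgroup.mem_map_of_mem π (Subgroup.pow_mem _ (Subgroup.mem_subgroupOf.2 hc) m)
  obtain ⟨b, hb, he⟩ := StrongPEmb.mem_of_conj_mem hSE hy h1 h2
  have h3 : b⁻¹ * ⟨γ, hγ⟩ ∈ ((Cfsg.Inn E).subgroupOf (F.autGroup E)) := by
    rw [← QuotientGroup.ker_mk' ((Cfsg.Inn E).subgroupOf (F.autGroup E)), MonoidHom.mem_ker, map_mul,
      map_inv]
    exact inv_mul_eq_one.2 he
  have h4 := Subgroup.mul_mem _ (Subgroup.mem_subgroupOf.1 hb)
    (inn_le_up hS hF hE (Subgroup.mem_subgroupOf.1 h3))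
  simpa using h4

theorem isOuterP_conj {s : Ω} (hs : s ∈ normalizerIn S E) (hsE : s ∉ E) :
    IsOuterP p F E (normConj S E ⟨s, hs⟩) where
  mem := autS_le_upGroup hS (lt_S hS hF hE) (Resist.normConj_mem F hE.1.1 ⟨s, hs⟩).1
  outer h := hsE (Resist.mem_of_inn hE h)
  pow := by
    obtain ⟨k, hk⟩ := hS ⟨s, hs.1⟩
    refine ⟨k, ?_⟩
    rw [← map_pow, show (⟨s, hs⟩ : normalizerIn S E) ^ p ^ k = 1 from
      Subtype.ext (congrArg Subtype.val hk :), map_one]

/-- An automorphism normalizing `Aut_S(E)` extends to an automorphism of `N_S(E)` in the system. -/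
theorem exists_extension_of_normalizes {h : MulAut E} (hh : h ∈ F.autGroup E)
    (hn : ∀ g : normalizerIn S E, h * normConj S E g * h⁻¹ ∈ autInducedBy S E) :
    ∃ f, IsIso F (normalizerIn S E) (normalizerIn S E) f ∧ (∀ x ∈ E, f x = autFn h x) ∧
      ∀ g : normalizerIn S E, ∃ hf : f g ∈ normalizerIn S E,
        normConj S E ⟨f g, hf⟩ = h * normConj S E g * h⁻¹ := by
  obtain ⟨f, hf, hfe⟩ := FusionChain.exists_extension (receptive_of_fullyNormalized hS hF hE.2.1) hh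
    (le_refl (normalizerIn S E)) fun g hg => hn ⟨g, hg⟩
  have hfN := hf.mono (le_sup_right : normalizerIn S E ≤ E ⊔ normalizerIn S E)
  have hle : E ≤ normalizerIn S E := le_normalizerIn hE.1.1
  have hconj := fun g : normalizerIn S E => Resist.map_conj_eq hfN hle hfe (g := g) g.2
  refine ⟨f, ⟨hfN, ?_⟩, hfe, hconj⟩
  haveI := finite_of_le (S := S) (inf_le_left : normalizerIn S E ≤ S)
  exact eq_of_le_of_card inf_le_left (hfN.img_le le_rfl fun x hx => (hconj ⟨x, hx⟩).1)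
    (hfN.card_img le_rfl).ge

end Essential

/-- An elementary abelian factor of `E` on which `G0` acts with inner kernel. -/
structure Rep (p : ℕ) (F : FusionSystem S) (E : Subgroup Ω) (V : Type*) [CommGroup V] where
  /-- The projection. -/
  proj : E →* V
  /-- The induced action. -/
  act : MulAut E →* MulAut V
  surj : Function.Surjective proj
  comm : ∀ α e, proj (α e) = act α (proj e)
  expV : ∀ v : V, v ^ p = 1
  ker : ∀ α ∈ G0 p F E, act α = 1 → α ∈ Cfsg.Inn E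

namespace Rep

variable {V : Type*} [CommGroup V] (R : Rep p F E V)

theorem act_inn {α : MulAut E} (hα : α ∈ Cfsg.Inn E) : R.act α = 1 := by
  obtain ⟨e, rfl⟩ := hα
  refine MulEquiv.ext fun v => ?_
  obtain ⟨x, rfl⟩ := R.surj v
  rw [← R.comm, MulAut.one_apply, MulAut.conj_apply, map_mul, map_mul, map_inv, mul_inv_cancel_comm]

variable (hS : IsPGroup p S) (hF : F.IsSaturated p) (hE : F.IsEssential p E)

include hS hF hE

/-- An element of the strongly embedded subgroup does not fix a centre from outside. -/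
theorem not_fix {a b γ : MulAut E} (ha : IsOuterP p F E a) (hb : IsOuterP p F E b)
    (hγ : γ ∈ F.autGroup E) (hγu : γ ∉ upGroup F E) {P : V} (hP : Trans (R.act b) P) :
    R.act a (R.act γ P) ≠ R.act γ P := by
  intro hfix
  have hle := up_le hS hF hE
  obtain ⟨kb, hkb⟩ := hb.pow
  set u' := γ * b * γ⁻¹ with hu'
  set c := a * u' * a⁻¹ with hc
  have hu'T : Trans (R.act u') (R.act γ P) := by
    rw [hu', map_mul, map_mul, map_inv]
    exact hP.conj _
  have hcT : Trans (R.act c) (R.act γ P) := by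
    rw [hc, map_mul, map_mul, map_inv]
    have := hu'T.conj (R.act a)
    rwa [hfix] at this
  have hu'0 : u' ∈ G0 p F E := conj_mem_G0 hγ (hle hb.mem) hkb
  have hu'A := G0_le hu'0
  have hc0 : c ∈ G0 p F E := conj_mem_G0 (k := kb) (hle ha.mem) hu'A
    (by rw [hu', conj_pow, hkb, mul_one, mul_inv_cancel])
  have hk : c * u' * c⁻¹ * u'⁻¹ ∈ Cfsg.Inn E := by
    refine R.ker _ (Subgroup.mul_mem _ (Subgroup.mul_mem _ (Subgroup.mul_mem _ hc0 hu'0)
      (Subgroup.inv_mem _ hc0)) (Subgroup.inv_mem _ hu'0)) ?_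
    simp only [map_mul, map_inv]
    rw [hcT.commute R.expV hu'T]
    group
  -- `c` lies in the conjugate of the strongly embedded subgroup
  set c₀ := γ⁻¹ * c * γ with hc₀
  have hc₀A : c₀ ∈ F.autGroup E :=
    Subgroup.mul_mem _ (Subgroup.mul_mem _ (Subgroup.inv_mem _ hγ) (G0_le hc0)) hγ
  have h1 : c₀ ∈ upGroup F E := by
    refine mem_up_of_conj hS hF hE hb hc₀A ?_
    have e : c₀ * b * c₀⁻¹ = γ⁻¹ * (c * u' * c⁻¹ * u'⁻¹) * γ * b := by
      rw [hc₀, hu']; group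
    rw [e]
    refine Subgroup.mul_mem _ (inn_le_up hS hF hE ?_) hb.mem
    have := (Cfsg.innNormal E).conj_mem _ hk γ⁻¹
    rwa [inv_inv] at this
  set d := γ⁻¹ * a * γ with hd
  have hdA : d ∈ F.autGroup E :=
    Subgroup.mul_mem _ (Subgroup.mul_mem _ (Subgroup.inv_mem _ hγ) (hle ha.mem)) hγ
  have h2 : d ∈ upGroup F E := by
    refine mem_up_of_conj hS hF hE hb hdA ?_
    have e : d * b * d⁻¹ = c₀ := by rw [hd, hc₀, hc, hu']; group
    rwa [e]
  have hd' : IsOuterP p F E d := by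
    refine ⟨h2, fun hi => ha.outer ?_, ?_⟩
    · have := (Cfsg.innNormal E).conj_mem _ hi γ
      rw [hd] at this
      simpa [mul_assoc] using this
    · obtain ⟨k, hk⟩ := ha.pow
      refine ⟨k, ?_⟩
      have e : d = γ⁻¹ * a * γ⁻¹⁻¹ := by rw [hd, inv_inv]
      rw [e, conj_pow, hk, mul_one, mul_inv_cancel]
  refine hγu (mem_up_of_conj hS hF hE hd' hγ ?_)
  have e : γ * d * γ⁻¹ = a := by rw [hd]; group
  rw [e]
  exact ha.mem

theorem not_fix' {a b γ : MulAut E} (ha : IsOuterP p F E a) (hb : IsOuterP p F E b)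
    (hγ : γ ∈ F.autGroup E) (hγu : γ ∉ upGroup F E) {P : V} (hP : Trans (R.act b) P) :
    R.act (γ * a * γ⁻¹) P ≠ P := by
  intro h
  refine R.not_fix hS hF hE ha hb (Subgroup.inv_mem _ hγ) (fun h' => hγu (by simpa using Subgroup.inv_mem _ h'))
    hP ?_
  rw [map_mul, map_mul, map_inv, MulAut.mul_apply, MulAut.mul_apply] at h
  rw [map_inv]
  apply (R.act γ).injective
  rw [MulAut.apply_inv_self]
  exact h

/-- The torus elements of the pair `a`, `γ a γ⁻¹`. -/
theorem exists_torus {a γ : MulAut E} (ha : IsOuterP p F E a) (hγ : γ ∈ F.autGroup E)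
    (hγu : γ ∉ upGroup F E) {P : V} (hP : Trans (R.act a) P) {l : ZMod p} (hl : l ≠ 0) :
    ∃ h ∈ G0 p F E, R.act h P = pw P l ∧ R.act h (R.act γ P) = pw (R.act γ P) l⁻¹ ∧
      (∀ w, R.act a w = w → R.act (γ * a * γ⁻¹) w = w → R.act h w = w) ∧
      (a ^ (l ^ 2).val)⁻¹ * (h * a * h⁻¹) ∈ Cfsg.Inn E ∧
      ((γ * a * γ⁻¹) ^ (l⁻¹ ^ 2).val)⁻¹ * (h * (γ * a * γ⁻¹) * h⁻¹) ∈ Cfsg.Inn E := by
  have hle := up_le hS hF hE
  obtain ⟨k, hk⟩ := ha.pow
  have ha0 : a ∈ G0 p F E := mem_G0 (hle ha.mem) hk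
  set u' := γ * a * γ⁻¹ with hu'
  have hu'0 : u' ∈ G0 p F E := conj_mem_G0 hγ (hle ha.mem) hk
  have hT : Trans (R.act u') (R.act γ P) := by
    rw [hu', map_mul, map_mul, map_inv]
    exact hP.conj _
  obtain ⟨h, hh, e1, e2, e3, e4, e5⟩ := OrderFive.exists_torus R.expV hP hT
    (R.not_fix hS hF hE ha ha hγ hγu hP) (R.not_fix' hS hF hE ha ha hγ hγu hP) hl
  rw [← Set.image_pair R.act a u', ← MonoidHom.map_closure] at hh
  obtain ⟨h', hh', rfl⟩ := hh
  have hh0 : h' ∈ G0 p F E := by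
    refine (Subgroup.closure_le _).2 ?_ hh'
    rintro x (rfl | rfl)
    · exact ha0
    · exact hu'0
  refine ⟨h', hh0, e1, e2, e3, ?_, ?_⟩
  · refine R.ker _ (Subgroup.mul_mem _ (Subgroup.inv_mem _ (Subgroup.pow_mem _ ha0 _))
      (Subgroup.mul_mem _ (Subgroup.mul_mem _ hh0 ha0) (Subgroup.inv_mem _ hh0))) ?_
    rw [map_mul, map_inv, map_pow, map_mul, map_mul, map_inv, e4, inv_mul_cancel]
  · refine R.ker _ (Subgroup.mul_mem _ (Subgroup.inv_mem _ (Subgroup.pow_mem _ hu'0 _))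
      (Subgroup.mul_mem _ (Subgroup.mul_mem _ hh0 hu'0) (Subgroup.inv_mem _ hh0))) ?_
    rw [map_mul, map_inv, map_pow, map_mul (R.act) (h' * u') h'⁻¹, map_mul (R.act) h' u', map_inv, e5,
      inv_mul_cancel]

/-- A torus element normalizes `Aut_S(E)` when `N_S(E) = ⟨y⟩E`. -/
theorem exists_torus_extension {y : normalizerIn S E} (hy : (y : Ω) ∉ E)
    (hgen : ∀ g : normalizerIn S E, ∃ n : ℕ, ((g * (y ^ n)⁻¹ : normalizerIn S E) : Ω) ∈ E)
    {γ : MulAut E} (hγ : γ ∈ F.autGroup E) (hγu : γ ∉ upGroup F E) {P : V}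
    (hP : Trans (R.act (normConj S E y)) P) {l : ZMod p} (hl : l ≠ 0) :
    ∃ h ∈ G0 p F E, R.act h P = pw P l ∧ R.act h (R.act γ P) = pw (R.act γ P) l⁻¹ ∧
      (∀ w, R.act (normConj S E y) w = w → R.act (γ * normConj S E y * γ⁻¹) w = w → R.act h w = w) ∧
      ((γ * normConj S E y * γ⁻¹) ^ (l⁻¹ ^ 2).val)⁻¹ * (h * (γ * normConj S E y * γ⁻¹) * h⁻¹) ∈ Cfsg.Inn E ∧
      (∀ g : normalizerIn S E, h * normConj S E g * h⁻¹ ∈ autInducedBy S E) ∧
      ∃ f, IsIso F (normalizerIn S E) (normalizerIn S E) f ∧ (∀ x ∈ E, f x = autFn h x) ∧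
        ((y : Ω) ^ (l ^ 2).val)⁻¹ * f y ∈ E := by
  have ha := isOuterP_conj hS hF hE y.2 hy
  obtain ⟨h, hh, e1, e2, e3, e4, e5⟩ := R.exists_torus hS hF hE ha hγ hγu hP hl
  have hhA := G0_le hh
  have hn : ∀ g : normalizerIn S E, h * normConj S E g * h⁻¹ ∈ autInducedBy S E := by
    intro g
    obtain ⟨n, hn⟩ := hgen g
    have hi : normConj S E (g * (y ^ n)⁻¹) ∈ Cfsg.Inn E :=
      ⟨⟨_, hn⟩, MulEquiv.ext fun x => Subtype.ext rfl⟩
    have hy1 : h * normConj S E y * h⁻¹ ∈ autInducedBy S E := by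
      have := Subgroup.mul_mem _ (Subgroup.pow_mem _ (Resist.normConj_mem F hE.1.1 y).1 (l ^ 2).val)
        (inn_le_autInducedBy hE.1.1 e4)
      rwa [mul_inv_cancel_left] at this
    have e : h * normConj S E g * h⁻¹ =
        (h * normConj S E (g * (y ^ n)⁻¹) * h⁻¹) * (h * normConj S E y * h⁻¹) ^ n := by
      rw [conj_pow, map_mul, map_inv, map_pow]
      group
    rw [e]
    exact Subgroup.mul_mem _ (inn_le_autInducedBy hE.1.1 ((Cfsg.innNormal E).conj_mem _ hi h))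
      (Subgroup.pow_mem _ hy1 n)
  obtain ⟨f, hf, hfe, hconj⟩ := exists_extension_of_normalizes hS hF hE hhA hn
  refine ⟨h, hh, e1, e2, e3, e5, hn, f, hf, hfe, ?_⟩
  obtain ⟨hm, he⟩ := hconj y
  have hi : normConj S E ((y ^ (l ^ 2).val)⁻¹ * ⟨f y, hm⟩) ∈ Cfsg.Inn E := by
    rw [map_mul, map_inv, map_pow, he]
    exact e4
  exact Resist.mem_of_inn hE hi

end Rep

end Cfsg.Agent.OrderFive
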