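import Cfsg.Agent.Lib.OrderFive.Ext
import Cfsg.Agent.S5185

/-!
# Transvections in all small automisers

`false_of_normal`: no essential elementary abelian subgroup of order `p³` is normal.
`trans_cube`: for the others `N_S(E)` acts through a transvection.
`autGroup_stab`: an invariant character of `S` is invariant under every automiser.
-/

set_option autoImplicit false
set_option linter.unusedSectionVars false
set_option linter.style.haveILetI false

open Subgroup
open scoped commutatorElement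

namespace Cfsg.Agent.OrderFive

open Cfsg Cfsg.FusionSystem Cfsg.Agent.Fusion

variable {p : ℕ} [hp : Fact p.Prime] {Ω : Type*} [Group Ω] {S : Subgroup Ω} [Finite S] {F : FusionSystem S}
  {E : Subgroup Ω}

theorem trans_of_fixed {V : Type*} [CommGroup V] [Finite V] (hexp : ∀ v : V, v ^ p = 1) {a : MulAut V}
    {k : ℕ} (hk : a ^ p ^ k = 1) (ha : a ≠ 1) {U : Subgroup V} (hc : Nat.card V ≤ p * Nat.card U)
    (hfix : ∀ u ∈ U, a u = u) : ∃ P, Trans a P ∧ P ∈ U ∧ ∀ v, a v = v → v ∈ U := by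
  have hV : IsPGroup p V := fun v => ⟨1, by rw [pow_one, hexp]⟩
  have hmem : ∀ v, v⁻¹ * a v ∈ U := fun v => EssentialSmall.mul_apply_mem_of_card_le hV le_top
    (by rw [card_top]; exact hc) hk (fun u hu => by rwa [hfix u hu]) (fun _ _ => mem_top _) (mem_top v)
  let d : V →* V := MonoidHom.mk' (fun v => v⁻¹ * a v) fun u v => by
    rw [map_mul, mul_inv_rev, mul_comm v⁻¹, mul_mul_mul_comm]
  have hker : U ≤ d.ker := fun u hu => by show u⁻¹ * a u = 1; rw [hfix u hu, inv_mul_cancel]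
  have hne : d.ker ≠ ⊤ := fun h => ha (MulEquiv.ext fun v => (inv_mul_eq_one.1 (h.ge (mem_top v) : d v = 1)).symm)
  have hR : Nat.card d.range ≤ p := by
    have h1 : Nat.card d.ker * Nat.card d.range = Nat.card V := by
      rw [← Subgroup.index_ker, Subgroup.card_mul_index]
    refine Nat.le_of_mul_le_mul_left ?_ (Nat.card_pos (α := U))
    calc Nat.card U * Nat.card d.range ≤ Nat.card d.ker * Nat.card d.range :=
          Nat.mul_le_mul_right _ (Subgroup.card_le_of_le hker)
      _ ≤ _ := h1.le.trans (hc.trans_eq (mul_comm _ _))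
  obtain ⟨v₀, hv₀⟩ : ∃ v₀, d v₀ ≠ 1 := by
    by_contra h
    push Not at h
    exact hne (eq_top_iff.2 fun v _ => h v)
  refine ⟨d v₀, ⟨hv₀, hfix _ (hmem v₀), fun v => ?_, ha⟩, hmem v₀, fun v hv => ?_⟩
  · have h : zpowers (d v₀) = d.range := Subgroup.eq_of_le_of_card_ge (zpowers_le.2 ⟨v₀, rfl⟩)
      (by rw [Nat.card_zpowers, orderOf_eq_prime (hexp _) hv₀]; exact hR)
    exact h.ge ⟨v, rfl⟩
  · by_contra hvU
    refine hne (top_le_iff.1 ?_)
    rw [← PGroup.eq_sup_zpowers_of_card hV le_top (by rw [card_top]; exact hc) (mem_top v) hvU]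
    exact sup_le hker (zpowers_le.2 (by show v⁻¹ * a v = 1; rw [hv, inv_mul_cancel]))

variable (h5 : Five p F) (hE : F.IsEssential p E)

include h5 hE

/-- The representation of an elementary abelian essential subgroup on itself. -/
theorem exists_rep_elem (hcm : ∀ a b : E, a * b = b * a) (hexp : ∀ e : E, e ^ p = 1) :
    ∃ R : Rep p F E (Vq (⊥ : Subgroup E)), R.proj = qproj (⊥ : Subgroup E) ∧ R.act = qact (⊥ : Subgroup E) ∧
      Function.Injective R.proj := by
  have hN : commutator E ≤ ⊥ := by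
    rw [_root_.commutator_def, commutator_le]
    exact fun a _ b _ => mem_bot.2 (commutatorElement_eq_one_iff_mul_comm.2 (hcm a b))
  refine ⟨quotRep ⊥ hN (fun e => mem_bot.2 (hexp e)) fun α _ h => ?_, rfl, rfl, ?_⟩
  · have : α = 1 := MulEquiv.ext fun e => (inv_mul_eq_one.1 (mem_bot.1 (h e))).symm
    rw [this]
    exact one_mem _
  · rw [← MonoidHom.ker_eq_bot_iff, eq_bot_iff]
    exact fun e he => (qproj_eq_one ⊥ hN e).1 he

omit h5 in
theorem act_conj {V : Type*} [CommGroup V] (R : Rep p F E V) (y : normalizerIn S E) (v : E) :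
    R.act (normConj S E y) (R.proj v) = R.proj (normConj S E y v) := (R.comm _ _).symm

theorem act_ne_one {V : Type*} [CommGroup V] (R : Rep p F E V) {y : normalizerIn S E} (hy : (y : Ω) ∉ E) :
    R.act (normConj S E y) ≠ 1 ∧ ∃ k : ℕ, R.act (normConj S E y) ^ p ^ k = 1 := by
  have h := isOuterP_conj h5.pg h5.sat hE y.2 hy
  obtain ⟨k, hk⟩ := h.pow
  exact ⟨fun e => h.outer (R.ker _ (mem_G0 (up_le h5.pg h5.sat hE h.mem) hk) e),
    k, by rw [← map_pow]; exact (congrArg R.act hk).trans (map_one _)⟩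

/-- An elementary abelian essential subgroup of order `p³` is not normal. -/
theorem false_of_normal (hcm : ∀ a b : E, a * b = b * a) (hexp : ∀ e : E, e ^ p = 1)
    (hc : Nat.card E = p ^ 3) (hN : normalizerIn S E = S) : False := by
  have hES := hE.1.1
  have := finite_of_le (S := S) hES
  obtain ⟨R, -, -, hinj⟩ := exists_rep_elem h5 hE hcm hexp
  haveI : Finite (Vq (⊥ : Subgroup E)) := Finite.of_surjective _ R.surj
  have hVc : Nat.card (Vq (⊥ : Subgroup E)) = p ^ 3 := by
    rw [← hc, Nat.card_congr (Equiv.ofBijective _ ⟨hinj, R.surj⟩)]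
  have hmemN : ∀ s : S, (s : Ω) ∈ normalizerIn S E := fun s => hN.ge s.2
  let κ : S →* normalizerIn S E :=
    { toFun := fun s => ⟨s, hmemN s⟩, map_one' := rfl, map_mul' := fun _ _ => rfl }
  set E' := E.subgroupOf S with hE'
  have hE'c : Nat.card E' = p ^ 3 := by rw [Nat.card_congr (subgroupOfEquivOfLe hES).toEquiv, hc]
  haveI hE'n : E'.Normal := ⟨fun n hn g => mem_subgroupOf.2 (normalizerIn_conj (hmemN g) (mem_subgroupOf.1 hn))⟩
  obtain ⟨Q, hQn, hQE, hQc⟩ := PGroup.exists_normal_le_card h5.pg hE'c 2 (by norm_num)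
  haveI := hQn
  -- the image of `Q`
  let ι : Q →* E := { toFun := fun q => ⟨q.1, hQE q.2⟩, map_one' := rfl, map_mul' := fun _ _ => rfl }
  set U := (R.proj.comp ι).range
  have hUc : Nat.card U = p ^ 2 := by
    rw [← hQc]
    refine (Nat.card_congr (MonoidHom.ofInjective (f := R.proj.comp ι) ?_).toEquiv).symm
    exact hinj.comp fun a b hab => Subtype.ext (Subtype.ext (congrArg Subtype.val hab :))
  have hconjU : ∀ g : S, ∀ u ∈ U, R.act (normConj S E (κ g)) u ∈ U := by
    rintro g _ ⟨q, rfl⟩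
    refine ⟨⟨g * q * g⁻¹, hQn.conj_mem _ q.2 g⟩, ?_⟩
    rw [MonoidHom.comp_apply, MonoidHom.comp_apply, act_conj hE R]
    exact congrArg R.proj (Subtype.ext rfl)
  -- an element of order `p` modulo `E` centralizing `Q`
  obtain ⟨s, hsC, hsE, hsp⟩ : ∃ s : S, s ∈ centralizer (Q : Set S) ∧ s ∉ E' ∧ s ^ p ∈ E' := by
    have hidx : E'.index = p ^ 2 := by
      have h := E'.card_mul_index
      rw [hE'c, h5.card, show p ^ 5 = p ^ 3 * p ^ 2 by ring] at h
      exact Nat.eq_of_mul_eq_mul_left (pow_pos hp.out.pos 3) h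
    obtain ⟨s, hs, hsE⟩ : ∃ s ∈ centralizer (Q : Set S), s ∉ E' := by
      by_contra h
      push Not at h
      have h1 := Subgroup.card_le_of_le (show centralizer (Q : Set S) ≤ E' from h)
      have h2 := PGroup.index_centralizer_le h5.pg 2 Q hQn hQc
      have h3 := (centralizer (Q : Set S)).card_mul_index
      rw [hE'c] at h1
      rw [h5.card] at h3
      have : p ^ 5 ≤ p ^ 4 := by
        calc p ^ 5 = Nat.card (centralizer (Q : Set S)) * (centralizer (Q : Set S)).index := h3.symm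
          _ ≤ p ^ 3 * p ^ (2 * (2 - 1) / 2) := Nat.mul_le_mul h1 h2
          _ = p ^ 4 := by norm_num; ring
      exact absurd ((Nat.pow_le_pow_iff_right hp.out.one_lt).1 this) (by norm_num)
    by_cases hp' : s ^ p ∈ E'
    · exact ⟨s, hs, hsE, hp'⟩
    · refine ⟨s ^ p, pow_mem hs p, hp', ?_⟩
      rw [← pow_mul, ← pow_two, ← hidx]
      exact Subgroup.pow_index_mem E' s
  have hsE' : (s : Ω) ∉ E := hsE
  obtain ⟨ha1, ka, hka⟩ := act_ne_one h5 hE R (y := κ s) hsE'
  set τ := R.act (normConj S E (κ s)) with hτ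
  have hUfix : ∀ u ∈ U, τ u = u := by
    rintro _ ⟨q, rfl⟩
    rw [hτ, MonoidHom.comp_apply, act_conj hE R]
    refine congrArg R.proj (Subtype.ext ?_)
    show (s : Ω) * (q.1 : Ω) * (s : Ω)⁻¹ = (q.1 : Ω)
    have := congrArg Subtype.val (mem_centralizer_iff.1 hsC _ q.2 : (q.1 : S) * s = s * q.1)
    rw [mul_inv_eq_iff_eq_mul]
    exact this.symm
  obtain ⟨P, hP, hPU, hfixU⟩ := trans_of_fixed R.expV hka ha1 (U := U)
    (by rw [hVc, hUc, ← pow_succ']) hUfix
  -- a second element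
  obtain ⟨b, hb⟩ : ∃ b : S, ∀ i : ℕ, s ^ i * b ∉ E' := by
    by_contra h
    push Not at h
    let q := QuotientGroup.mk' E'
    have htop : ∀ v : S ⧸ E', v ∈ zpowers (q s) := by
      intro v
      obtain ⟨b, rfl⟩ := QuotientGroup.mk'_surjective E' v
      obtain ⟨i, hi⟩ := h b
      have h1 : q (s ^ i * b) = 1 := (QuotientGroup.eq_one_iff _).2 hi
      rw [map_mul, map_pow, ← eq_inv_iff_mul_eq_one, eq_comm, inv_eq_iff_eq_inv] at h1
      exact ⟨-(i : ℤ), by show q s ^ (-(i : ℤ)) = _; rw [zpow_neg, zpow_natCast, h1]⟩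
    have h2 : Nat.card (S ⧸ E') ≤ p := by
      rw [← card_top (G := S ⧸ E'), ← eq_top_iff.2 (fun v _ => htop v), Nat.card_zpowers]
      exact Nat.le_of_dvd hp.out.pos (orderOf_dvd_of_pow_eq_one
        (by rw [← map_pow]; exact (QuotientGroup.eq_one_iff _).2 hsp))
    have h3 := E'.card_mul_index
    rw [hE'c, h5.card, Subgroup.index] at h3
    have h4 : p ^ 5 ≤ p ^ 4 := by
      calc p ^ 5 = p ^ 3 * Nat.card (S ⧸ E') := h3.symm
        _ ≤ p ^ 3 * p := Nat.mul_le_mul_left _ h2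
        _ = p ^ 4 := by ring
    exact absurd ((Nat.pow_le_pow_iff_right hp.out.one_lt).1 h4) (by norm_num)
  have hbE : (b : Ω) ∉ E := fun h => hb 0 (by rw [pow_zero, one_mul]; exact h)
  obtain ⟨-, kb, hkb⟩ := act_ne_one h5 hE R (y := κ b) hbE
  set β := R.act (normConj S E (κ b)) with hβ
  have hcomm : β * τ = τ * β := by
    have h1 : ⁅b, s⁆ ∈ E' := by
      haveI : IsMulCommutative (S ⧸ E') := IsPGroup.isMulCommutative_of_card_eq_prime_sq (p := p) (by
        have h := E'.card_mul_index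
        rw [hE'c, h5.card, show p ^ 5 = p ^ 3 * p ^ 2 by ring] at h
        exact Nat.eq_of_mul_eq_mul_left (pow_pos hp.out.pos 3) h)
      exact Subgroup.Normal.quotient_commutative_iff_commutator_le.1 inferInstance
        (commutator_mem_commutator (mem_top b) (mem_top s))
    rw [← commutatorElement_eq_one_iff_mul_comm, hβ, hτ, ← map_commutatorElement, ← map_commutatorElement,
      ← map_commutatorElement κ]
    exact R.act_inn ⟨⟨_, h1⟩, MulEquiv.ext fun _ => Subtype.ext rfl⟩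
  have hβP : β P = P := by
    have h1 := hP.conj β
    rw [hcomm, mul_inv_cancel_right] at h1
    obtain ⟨v, hv⟩ : ∃ v, v⁻¹ * τ v ≠ 1 := by
      by_contra h
      push Not at h
      exact hP.moves (MulEquiv.ext fun v => (inv_mul_eq_one.1 (h v)).symm)
    have hPv : ∀ Q₀ : Vq (⊥ : Subgroup E), Q₀ ≠ 1 → v⁻¹ * τ v ∈ zpowers Q₀ → zpowers (v⁻¹ * τ v) = zpowers Q₀ :=
      fun Q₀ hQ₀ hmem => Subgroup.eq_of_le_of_card_ge (zpowers_le.2 hmem)
        (by rw [Nat.card_zpowers, Nat.card_zpowers, orderOf_eq_prime (R.expV _) hv, orderOf_eq_prime (R.expV _) hQ₀])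
    have h2 : β P ∈ zpowers P := by
      rw [← hPv P hP.ne (hP.mem v), hPv (β P) h1.ne (h1.mem v)]
      exact mem_zpowers _
    obtain ⟨r, hr⟩ := exists_pw_of_mem R.expV h2
    have h3 : ∀ n : ℕ, (β ^ n) P = pw P (r ^ n) := by
      intro n
      induction n with
      | zero => simp
      | succ n ih => rw [pow_succ', MulAut.mul_apply, ih, map_pw, ← hr, pw_mul R.expV, pow_succ']
    have h4 := h3 (p ^ kb)
    rw [hkb, MulAut.one_apply, ZMod.pow_card_pow] at h4
    rw [← hr, ← h4]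
  -- the contradiction
  obtain ⟨γ, hγ, hγu⟩ := exists_not_mem_up h5.pg h5.sat hE
  have ha := isOuterP_conj h5.pg h5.sat hE (κ s).2 hsE'
  have hne := R.not_fix h5.pg h5.sat hE ha ha hγ hγu hP
  have hne' := R.not_fix' h5.pg h5.sat hE ha ha hγ hγu hP
  set P' := R.act γ P with hP'
  set u' := γ * normConj S E (κ s) * γ⁻¹ with hu'
  have hT' : Trans (R.act u') P' := by
    rw [hu', map_mul, map_mul, map_inv]; exact hP.conj _
  set x := β P' with hx
  have hxU : τ x ≠ x := by
    intro h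
    have h1 : P'⁻¹ * β P' ∈ U := EssentialSmall.mul_apply_mem_of_card_le
      (fun v => ⟨1, by rw [pow_one, R.expV]⟩) le_top (by rw [card_top, hVc, hUc, ← pow_succ']) hkb
      (fun u hu => hconjU b u hu) (fun _ _ => mem_top _) (mem_top P')
    have h2 := U.mul_mem (hfixU _ h) (U.inv_mem h1)
    have h3 : x * (P'⁻¹ * β P')⁻¹ = P' := by rw [hx, mul_inv_rev, inv_inv, mul_inv_cancel_left]
    rw [h3] at h2
    exact hne (hUfix _ h2)
  obtain ⟨c, hc'⟩ := hP.exists_coef R.expV x
  have hc0 : c ≠ 0 := fun h => hxU (by rw [hc', h, pw_zero, mul_one])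
  obtain ⟨d₁, hd₁⟩ := hT'.exists_coef R.expV x
  obtain ⟨d, hd⟩ := hT'.exists_coef R.expV P
  have hd0 : d ≠ 0 := fun h => hne' ((hd.trans (by rw [h, pw_zero, mul_one])) : R.act u' P = P)
  set i := (-(d₁ / d) / c).val
  have hi : (τ ^ i * β) P' = x * pw P (-(d₁ / d)) := by
    rw [MulAut.mul_apply, ← hx, hP.pow_val R.expV hc', div_mul_cancel₀ _ hc0]
  have hfixed : R.act u' ((τ ^ i * β) P') = (τ ^ i * β) P' := by
    rw [hi, map_mul, map_pw, hd₁, hd, pw_mul_distrib R.expV, pw_mul R.expV,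
      show d * -(d₁ / d) = -d₁ by field_simp, pw_neg R.expV P' d₁]
    simp [mul_assoc, mul_left_comm, mul_comm]
  set b₁ := s ^ i * b
  have hact : R.act (normConj S E (κ b₁)) = τ ^ i * β := by
    rw [map_mul, map_mul, map_mul, map_pow, map_pow, map_pow]
  have hb₁ := isOuterP_conj h5.pg h5.sat hE (κ b₁).2 (hb i)
  set δ := γ⁻¹ * normConj S E (κ b₁) * γ with hδ
  have hb₁A := up_le h5.pg h5.sat hE hb₁.mem
  have hδA : δ ∈ F.autGroup E :=
    Subgroup.mul_mem _ (Subgroup.mul_mem _ (Subgroup.inv_mem _ hγ) hb₁A) hγ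
  have hδu : δ ∉ upGroup F E := by
    intro h
    have hδ' : IsOuterP p F E δ := by
      refine ⟨h, fun hi => hb₁.outer ?_, ?_⟩
      · have := (Cfsg.innNormal E).conj_mem _ hi γ
        rw [hδ] at this
        simpa [mul_assoc] using this
      · obtain ⟨k, hk⟩ := hb₁.pow
        refine ⟨k, ?_⟩
        have e : δ = γ⁻¹ * normConj S E (κ b₁) * γ⁻¹⁻¹ := by rw [hδ, inv_inv]
        rw [e, conj_pow]
        exact (congrArg (fun t => γ⁻¹ * t * γ⁻¹⁻¹) hk).trans (by group)
    refine hγu (mem_up_of_conj h5.pg h5.sat hE hδ' hγ ?_)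
    have e : γ * δ * γ⁻¹ = normConj S E (κ b₁) := by rw [hδ]; group
    rw [e]
    exact hb₁.mem
  refine R.not_fix h5.pg h5.sat hE ha ha hδA hδu hP ?_
  apply (R.act γ).injective
  have e1 : R.act γ (R.act δ P) = (τ ^ i * β) P' := by
    rw [hδ, map_mul, map_mul, map_inv, MulAut.mul_apply, MulAut.mul_apply, MulAut.apply_inv_self, hact]
  rw [e1]
  have e2 : R.act γ (R.act (normConj S E (κ s)) (R.act δ P)) = R.act u' (R.act γ (R.act δ P)) := by
    rw [hu']
    simp [MulAut.mul_apply]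
  rw [e2, e1, hfixed]

/-- For an essential elementary abelian subgroup of order `p³`, `N_S(E)` acts as a transvection. -/
theorem trans_cube (hcm : ∀ a b : E, a * b = b * a) (hexp : ∀ e : E, e ^ p = 1) (hc : Nat.card E = p ^ 3) :
    Nat.card (normalizerIn S E) = p ^ 4 ∧ ∀ (R : Rep p F E (Vq (⊥ : Subgroup E))),
      Function.Injective R.proj → ∀ y : normalizerIn S E, (y : Ω) ∉ E →
      ∃ P, Trans (R.act (normConj S E y)) P := by
  have hES := hE.1.1
  have := finite_of_le (S := S) hES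
  set N := normalizerIn S E with hN
  have hlt := lt_normalizerIn h5.pg le_rfl (lt_S h5.pg h5.sat hE)
  have hNS : N ≠ S := fun h => false_of_normal h5 hE hcm hexp hc h
  have hNc : Nat.card N = p ^ 4 := by
    haveI := finite_of_le (inf_le_left : N ≤ S)
    obtain ⟨k, hk⟩ := IsPGroup.iff_card.1 (h5.pg.to_le (inf_le_left : N ≤ S))
    have h1 := lt_card h5 inf_le_left hlt
    have h2 := lt_card h5 le_rfl (lt_of_le_of_ne inf_le_left hNS : N < S)
    rw [hc, hk, ← pow_succ', Nat.pow_le_pow_iff_right hp.out.one_lt] at h1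
    rw [show Nat.card N = p ^ k from hk, h5.card, ← pow_succ', Nat.pow_le_pow_iff_right hp.out.one_lt] at h2
    rw [show Nat.card N = p ^ k from hk, show k = 4 by omega]
  refine ⟨hNc, fun R hinj y hy => ?_⟩
  haveI : Finite (Vq (⊥ : Subgroup E)) := Finite.of_surjective _ R.surj
  have hEN : E ≤ N := le_normalizerIn hES
  have hNN := normalizerIn_fourth h5 (inf_le_left : N ≤ S) hNc
  -- a conjugate of `E` inside `N`
  obtain ⟨g, hg, hgN⟩ := SetLike.exists_of_lt (lt_of_le_of_ne inf_le_left hNS : N < S)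
  have hgNN : g ∈ normalizerIn S N := hNN.ge hg
  obtain ⟨e, he, hge⟩ : ∃ e ∈ E, g * e * g⁻¹ ∉ E := by
    by_contra h
    push Not at h
    exact hgN (mem_normalizerIn_of_conj hg h)
  set E₂ := E.map (MulAut.conj g).toMonoidHom
  have hE₂N : E₂ ≤ N := by
    rintro _ ⟨x, hx, rfl⟩
    exact normalizerIn_conj hgNN (hEN hx)
  set N' := N.subgroupOf S
  set A := E.subgroupOf S
  set B := E₂.subgroupOf S
  have hAc : Nat.card A = p ^ 3 := by rw [Nat.card_congr (subgroupOfEquivOfLe hES).toEquiv, hc]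
  have hBc : Nat.card B = p ^ 3 := by
    rw [Nat.card_congr (subgroupOfEquivOfLe (hE₂N.trans inf_le_left)).toEquiv,
      Subgroup.card_map_of_injective (MulAut.conj g).injective, hc]
  have hN'c : Nat.card N' = p ^ 4 := by
    exact (Nat.card_congr (subgroupOfEquivOfLe (inf_le_left : N ≤ S)).toEquiv).trans hNc
  have hAN : A ≤ N' := fun x hx => hEN hx
  have hBN : B ≤ N' := fun x hx => hE₂N hx
  have hsup : A ⊔ B = N' := by
    refine le_antisymm (sup_le hAN hBN) ?_
    have hBA : ¬ B ≤ A := fun h => hge (h (show (⟨g * e * g⁻¹, S.mul_mem (S.mul_mem hg (hES he)) (S.inv_mem hg)⟩ : S) ∈ B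
      from ⟨e, he, rfl⟩))
    have h1 := PGroup.mul_card_le_of_lt h5.pg (left_lt_sup.2 hBA : A < A ⊔ B)
    rw [hAc, ← pow_succ', ← hN'c] at h1
    exact (Subgroup.eq_of_le_of_card_ge (sup_le hAN hBN) h1).ge
  have hcap : p ^ 2 ≤ Nat.card ↥(A ⊓ B) := by
    haveI : (A.subgroupOf N').Normal :=
      ⟨fun n hn t => (normalizerIn_conj (mem_subgroupOf.1 t.2) (mem_subgroupOf.1 (mem_subgroupOf.1 hn)) :)⟩
    have h1 := Cfsg.Agent.Solvable.card_sup_mul_card_inf (B.subgroupOf N') (A.subgroupOf N')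
    rw [← Subgroup.subgroupOf_sup hBN hAN, sup_comm, hsup, Subgroup.subgroupOf_self, card_top,
      Nat.card_congr (subgroupOfEquivOfLe hBN).toEquiv, Nat.card_congr (subgroupOfEquivOfLe hAN).toEquiv,
      show B.subgroupOf N' ⊓ A.subgroupOf N' = (A ⊓ B).subgroupOf N' from inf_comm _ _,
      Nat.card_congr (subgroupOfEquivOfLe (inf_le_left.trans hAN : A ⊓ B ≤ N')).toEquiv, hAc, hBc, hN'c] at h1
    refine le_of_eq (Nat.eq_of_mul_eq_mul_left (pow_pos hp.out.pos 4) ?_).symm
    rw [h1]; ring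
  let ι : ↥(A ⊓ B) →* E := { toFun := fun q => ⟨q.1, q.2.1⟩, map_one' := rfl, map_mul' := fun _ _ => rfl }
  obtain ⟨ha1, ka, hka⟩ := act_ne_one h5 hE R hy
  refine (trans_of_fixed R.expV hka ha1 (U := (R.proj.comp ι).range) ?_ ?_).imp fun P hP => hP.1
  · have hUc : Nat.card (R.proj.comp ι).range = Nat.card ↥(A ⊓ B) :=
      (Nat.card_congr (MonoidHom.ofInjective (f := R.proj.comp ι)
        (hinj.comp fun a b hab => Subtype.ext (Subtype.ext (congrArg Subtype.val hab :)))).toEquiv).symm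
    rw [hUc, ← Nat.card_congr (Equiv.ofBijective _ ⟨hinj, R.surj⟩), hc, pow_succ']
    exact Nat.mul_le_mul_left _ hcap
  · rintro _ ⟨q, rfl⟩
    rw [MonoidHom.comp_apply, act_conj hE R]
    refine congrArg R.proj (Subtype.ext ?_)
    show (y : Ω) * (q.1 : Ω) * (y : Ω)⁻¹ = (q.1 : Ω)
    have hyN : (⟨y, y.2.1⟩ : S) ∈ N' := y.2
    rw [← hsup] at hyN
    have hcent : A ⊔ B ≤ centralizer ({q.1} : Set S) := by
      refine sup_le (fun a ha => mem_centralizer_singleton_iff.2 ?_) ?_
      · exact Subtype.ext (congrArg Subtype.val (hcm ⟨_, ha⟩ ⟨_, q.2.1⟩) :)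
      · rintro a ⟨u, hu, hua⟩
        obtain ⟨w, hw, hwq⟩ : (q.1 : Ω) ∈ E₂ := q.2.2
        refine mem_centralizer_singleton_iff.2 (Subtype.ext ?_)
        show (a : Ω) * (q.1 : Ω) = (q.1 : Ω) * (a : Ω)
        rw [← hwq, show (a : Ω) = (MulAut.conj g) u from hua.symm]
        show (MulAut.conj g) u * (MulAut.conj g) w = _
        rw [← map_mul, show u * w = w * u from congrArg Subtype.val (hcm ⟨u, hu⟩ ⟨w, hw⟩), map_mul]
        rfl
    have h2 := congrArg Subtype.val (mem_centralizer_singleton_iff.1 (hcent hyN))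
    rw [mul_inv_eq_iff_eq_mul]
    exact h2

theorem gen_of_index {y : normalizerIn S E} (hy : (y : Ω) ∉ E)
    (hc : Nat.card (normalizerIn S E) = p * Nat.card E) :
    ∀ g : normalizerIn S E, ∃ n : ℕ, ((g * (y ^ n)⁻¹ : normalizerIn S E) : Ω) ∈ E := by
  intro g
  have hES := hE.1.1
  haveI := finite_of_le (inf_le_left : normalizerIn S E ≤ S)
  haveI : (E.subgroupOf (normalizerIn S E)).Normal :=
    ⟨fun n hn t => mem_subgroupOf.2 (normalizerIn_conj t.2 (mem_subgroupOf.1 hn))⟩
  let q := QuotientGroup.mk' (E.subgroupOf (normalizerIn S E))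
  have hQ : Nat.card (normalizerIn S E ⧸ E.subgroupOf (normalizerIn S E)) = p := by
    have h := (E.subgroupOf (normalizerIn S E)).card_mul_index
    rw [Nat.card_congr (subgroupOfEquivOfLe (le_normalizerIn hES)).toEquiv, hc, mul_comm p] at h
    haveI := finite_of_le (S := S) hES
    exact Nat.eq_of_mul_eq_mul_left Nat.card_pos h
  have hy1 : q y ≠ 1 := fun h => hy ((QuotientGroup.eq_one_iff y).1 h)
  obtain ⟨n, hn⟩ := mem_powers_of_prime_card hQ hy1 (g' := q g)
  refine ⟨n, mem_subgroupOf.1 ((QuotientGroup.eq_one_iff (g * (y ^ n)⁻¹)).1 ?_)⟩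
  show q _ = 1
  rw [map_mul, map_inv, map_pow, mul_inv_eq_one]
  exact hn.symm

/-- A character invariant under the extendable automorphisms is invariant under the automiser. -/
theorem autGroup_stab {C : Type*} [CommGroup C] (χ : S →* C) (hC : ∀ c : C, c ^ p = 1)
    (hup : upGroup F E ≤ Stab χ hE.1.1) : F.autGroup E ≤ Stab χ hE.1.1 := by
  have hES := hE.1.1
  have := finite_of_le (S := S) hES
  obtain ⟨y, hyN, hyE⟩ := SetLike.exists_of_lt (lt_normalizerIn h5.pg le_rfl (lt_S h5.pg h5.sat hE))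
  by_cases hcm : ∀ a b : E, a * b = b * a
  · have hexp : ∀ e : E, e ^ p = 1 ∧ (Nat.card E = p ^ 2 ∨ Nat.card E = p ^ 3) := by
      rcases card_essential h5 hE with h | h | h
      · exact fun e => ⟨Subtype.ext ((S5185.result p h5.pg F h5.sat E hE h).1.2 e e.2), Or.inl h⟩
      · rcases S5186.result p h5.pg F h5.sat E hE h with h' | ⟨-, h', -⟩ | ⟨h', -⟩
        · exact fun e => ⟨Subtype.ext (h'.2 e e.2), Or.inr h⟩
        · exfalso
          have h1 := h'.2
          have h2 : center E = ⊤ := eq_top_iff.2 fun u _ => mem_center_iff.2 fun v => hcm v u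
          rw [h2, card_top, h] at h1
          exact absurd (Nat.pow_right_injective hp.out.two_le (h1.trans (pow_one p).symm)) (by norm_num)
        · exact absurd h' h5.p2
      · exact absurd hcm (not_comm_fourth h5 hES h)
    obtain ⟨R, -, -, hinj⟩ := exists_rep_elem h5 hE hcm fun e => (hexp e).1
    have hk1 : ∀ w, R.proj w = 1 → w = 1 := fun w hw => hinj (hw.trans (map_one _).symm)
    obtain ⟨P, hP, hgen⟩ : ∃ P, Trans (R.act (normConj S E ⟨y, hyN⟩)) P ∧
        ∀ g : normalizerIn S E, ∃ n : ℕ, ((g * ((⟨y, hyN⟩ : normalizerIn S E) ^ n)⁻¹ : normalizerIn S E) : Ω) ∈ E := by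
      rcases (hexp 1).2 with h | h
      · obtain ⟨⟨P, hP⟩, hgen⟩ := exists_trans_plane h5.pg h5.sat hE R
          (by rw [← Nat.card_congr (Equiv.ofBijective _ ⟨hinj, R.surj⟩), h]) (y := ⟨y, hyN⟩) hyE
        exact ⟨P, hP, hgen⟩
      · obtain ⟨hN, hT⟩ := trans_cube h5 hE hcm (fun e => (hexp e).1) h
        obtain ⟨P, hP⟩ := hT R hinj ⟨y, hyN⟩ hyE
        exact ⟨P, hP, gen_of_index h5 hE (y := ⟨y, hyN⟩) hyE (by rw [hN, h, ← pow_succ'])⟩
    refine R.autGroup_le_stab χ h5.pg h5.sat hE h5.p2 hC hup hyE hgen hP ?_ (Or.inl ?_)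
    · intro α _ w hw
      rw [hk1 w hw, map_one]
    · intro w hw
      rw [hk1 w hw, map_one]
  · have hNA : NonAb p E := by
      rcases card_essential h5 hE with h | h | h
      · exact absurd (fun a b => (IsPGroup.isMulCommutative_of_card_eq_prime_sq (p := p) h).is_comm.comm a b) hcm
      · exact nonAb_of_cube h5.pg h5.sat hE h hcm
      · exact nonAb_of_fourth h5.pg h5.sat hE h5.p2 h hcm
    obtain ⟨R, hproj, -⟩ := exists_rep_nonAb h5.pg h5.sat hE hNA
    have hV : Nat.card (Vq (center E)) = p ^ 2 := by rw [card_Vq _ hNA.der_le, hNA.idx]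
    obtain ⟨⟨P, hP⟩, hgen⟩ := exists_trans_plane h5.pg h5.sat hE R hV (y := ⟨y, hyN⟩) hyE
    refine R.autGroup_le_stab χ h5.pg h5.sat hE h5.p2 hC hup hyE hgen hP ?_ (Or.inr hV)
    intro α hα w hw
    rw [hproj, qproj_eq_one _ hNA.der_le] at hw
    have h1 := G0_factor h5.pg h5.sat hE hNA.der_le hNA.card_center hα hw
    have h2 : resChi χ hES (w⁻¹ * α w) = 1 := Abelianization.commutator_subset_ker _ h1
    rw [map_mul, map_inv, inv_mul_eq_one] at h2
    exact h2.symm

end Cfsg.Agent.OrderFive
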