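import Cfsg.Agent.Lib.Resist.Basic

/-!
# Pairs of transvections of an elementary abelian group

`Trans f P`: `f` is a nontrivial transvection with centre `⟨P⟩`;  `pw v i = v ^ i.val`.
Main results: `Trans.commute` (same centre), `exists_decomp` and `exists_torus` for two
transvections moving each other's centres.
-/

set_option autoImplicit false
set_option linter.unusedSectionVars false

open Subgroup

namespace Cfsg.Agent.OrderFive

variable {p : ℕ} [hp : Fact p.Prime] {V : Type*} [CommGroup V]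

/-- Powers with exponents modulo `p`. -/
def pw (v : V) (i : ZMod p) : V := v ^ i.val

/-- A nontrivial transvection with centre `⟨P⟩`. -/
structure Trans (f : MulAut V) (P : V) : Prop where
  ne : P ≠ 1
  fix : f P = P
  mem : ∀ v, v⁻¹ * f v ∈ zpowers P
  moves : f ≠ 1

variable (hexp : ∀ v : V, v ^ p = 1)

@[simp] theorem pw_zero (v : V) : pw v (0 : ZMod p) = 1 := by simp [pw]

@[simp] theorem pw_one (v : V) : pw v (1 : ZMod p) = v := by simp [pw, ZMod.val_one]

theorem map_pw {W F : Type*} [CommGroup W] [FunLike F V W] [MonoidHomClass F V W] (f : F) (v : V)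
    (i : ZMod p) : f (pw v i) = pw (f v) i := map_pow f v _

include hexp

theorem pw_add (v : V) (i j : ZMod p) : pw v (i + j) = pw v i * pw v j := by
  rw [pw, pw, pw, ← pow_add, ZMod.val_add, ← pow_eq_pow_mod _ (hexp v)]

theorem pw_mul (v : V) (i j : ZMod p) : pw (pw v i) j = pw v (i * j) := by
  rw [pw, pw, pw, ← pow_mul, ZMod.val_mul, ← pow_eq_pow_mod _ (hexp v)]

theorem pw_natCast (v : V) (n : ℕ) : pw v (n : ZMod p) = v ^ n := by
  rw [pw, ZMod.val_natCast, ← pow_eq_pow_mod _ (hexp v)]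

theorem pw_neg (v : V) (i : ZMod p) : pw v (-i) = (pw v i)⁻¹ :=
  eq_inv_of_mul_eq_one_left (by rw [← pw_add hexp, neg_add_cancel, pw_zero])

theorem pw_mul_distrib (v w : V) (i : ZMod p) : pw (v * w) i = pw v i * pw w i := mul_pow v w _

theorem pw_eq_one_iff {v : V} (hv : v ≠ 1) (i : ZMod p) : pw v i = 1 ↔ i = 0 := by
  refine ⟨fun h => ?_, fun h => by rw [h, pw_zero]⟩
  have hd := orderOf_dvd_of_pow_eq_one h
  rw [orderOf_eq_prime (hexp v) hv] at hd
  rw [← ZMod.natCast_zmod_val i, (ZMod.natCast_eq_zero_iff _ _).2 hd]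

theorem exists_pw_of_mem {v w : V} (h : w ∈ zpowers v) : ∃ i : ZMod p, pw v i = w := by
  obtain ⟨n, rfl⟩ := Subgroup.mem_zpowers_iff.1 h
  refine ⟨(n : ZMod p), ?_⟩
  rw [pw, ← zpow_natCast, ZMod.val_intCast]
  conv_rhs => rw [← Int.emod_add_mul_ediv n p]
  rw [zpow_add, zpow_mul, zpow_natCast v p, hexp, one_zpow, mul_one]

namespace Trans

variable {f g : MulAut V} {P P' : V} (hf : Trans f P)

include hf

theorem exists_coef (v : V) : ∃ i : ZMod p, f v = v * pw P i := by
  obtain ⟨i, hi⟩ := exists_pw_of_mem hexp (hf.mem v)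
  exact ⟨i, by rw [hi, mul_inv_cancel_left]⟩

theorem apply_pow {v : V} {i : ZMod p} (hv : f v = v * pw P i) (n : ℕ) :
    (f ^ n) v = v * pw P ((n : ZMod p) * i) := by
  induction n with
  | zero => simp
  | succ n ih =>
    rw [pow_succ', MulAut.mul_apply, ih, map_mul, hv, map_pw, hf.fix, mul_assoc, ← pw_add hexp]
    push_cast
    ring_nf

theorem pow_val {v : V} {i : ZMod p} (hv : f v = v * pw P i) (t : ZMod p) :
    (f ^ t.val) v = v * pw P (t * i) := by
  rw [hf.apply_pow hexp hv, ZMod.natCast_zmod_val]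

theorem pow_p : f ^ p = 1 := MulEquiv.ext fun v => by
  obtain ⟨i, hi⟩ := hf.exists_coef hexp v
  rw [hf.apply_pow hexp hi, ZMod.natCast_self, zero_mul, pw_zero, mul_one, MulAut.one_apply]

omit hexp in
theorem conj (γ : MulAut V) : Trans (γ * f * γ⁻¹) (γ P) where
  ne h := hf.ne (γ.injective (h.trans (map_one γ).symm))
  fix := by simp only [MulAut.mul_apply, MulAut.inv_apply_self, hf.fix]
  mem v := by
    obtain ⟨w, rfl⟩ := γ.surjective v
    simp only [MulAut.mul_apply, MulAut.inv_apply_self]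
    rw [← map_inv, ← map_mul]
    obtain ⟨k, hk⟩ := Subgroup.mem_zpowers_iff.1 (hf.mem w)
    exact Subgroup.mem_zpowers_iff.2 ⟨k, by rw [← map_zpow, hk]⟩
  moves h := hf.moves (by
    rw [mul_inv_eq_one, mul_eq_left] at h
    exact h)

/-- Transvections with the same centre commute. -/
theorem commute (hg : Trans g P) : f * g = g * f := MulEquiv.ext fun v => by
  obtain ⟨i, hi⟩ := hf.exists_coef hexp v
  obtain ⟨j, hj⟩ := hg.exists_coef hexp v
  rw [MulAut.mul_apply, MulAut.mul_apply, hj, hi, map_mul, map_mul, map_pw, map_pw, hf.fix, hg.fix,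
    hi, hj, mul_right_comm]

end Trans

section Pair

variable {f g : MulAut V} {P P' : V} (hf : Trans f P) (hg : Trans g P') (hfP : f P' ≠ P') (hgP : g P ≠ P)

include hf hg hfP hgP

/-- Every element is a combination of the two centres and an element fixed by both. -/
theorem exists_decomp (v : V) :
    ∃ (i j : ZMod p) (w : V), v = pw P i * pw P' j * w ∧ f w = w ∧ g w = w := by
  obtain ⟨a, ha⟩ := hf.exists_coef hexp P'
  obtain ⟨b, hb⟩ := hg.exists_coef hexp P
  have ha0 : a ≠ 0 := fun h => hfP (by rw [ha, h, pw_zero, mul_one])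
  have hb0 : b ≠ 0 := fun h => hgP (by rw [hb, h, pw_zero, mul_one])
  obtain ⟨i', hi⟩ := hf.exists_coef hexp v
  obtain ⟨j', hj⟩ := hg.exists_coef hexp v
  refine ⟨j' / b, i' / a, v * pw P (-(j' / b)) * pw P' (-(i' / a)), ?_, ?_, ?_⟩
  · rw [pw_neg hexp, pw_neg hexp, mul_comm (pw P _), mul_comm _ (v * _ * _)]
    group
  · rw [map_mul, map_mul, map_pw, map_pw, hf.fix, hi, ha, pw_mul_distrib hexp, pw_mul hexp,
      show a * -(i' / a) = -i' by field_simp, pw_neg hexp P i']
    simp [mul_assoc, mul_comm, mul_left_comm]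
  · rw [map_mul, map_mul, map_pw, map_pw, hg.fix, hj, hb, pw_mul_distrib hexp, pw_mul hexp,
      show b * -(j' / b) = -j' by field_simp, pw_neg hexp P' j']
    simp [mul_assoc, mul_comm, mul_left_comm]

/-- The torus of two transvections moving each other's centres. -/
theorem exists_torus {l : ZMod p} (hl : l ≠ 0) :
    ∃ h ∈ Subgroup.closure ({f, g} : Set (MulAut V)), h P = pw P l ∧ h P' = pw P' l⁻¹ ∧
      (∀ w, f w = w → g w = w → h w = w) ∧ h * f * h⁻¹ = f ^ (l ^ 2).val ∧
      h * g * h⁻¹ = g ^ (l⁻¹ ^ 2).val := by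
  obtain ⟨a, ha⟩ := hf.exists_coef hexp P'
  obtain ⟨b, hb⟩ := hg.exists_coef hexp P
  have ha0 : a ≠ 0 := fun h => hfP (by rw [ha, h, pw_zero, mul_one])
  have hb0 : b ≠ 0 := fun h => hgP (by rw [hb, h, pw_zero, mul_one])
  have hu : ∀ t i j w, f w = w →
      (f ^ (t / a).val) (pw P i * pw P' j * w) = pw P (i + t * j) * pw P' j * w := by
    intro t i j w hw
    have hx : f (pw P i * pw P' j * w) = pw P i * pw P' j * w * pw P (a * j) := by
      rw [map_mul, map_mul, map_pw, map_pw, hf.fix, ha, hw, pw_mul_distrib hexp, pw_mul hexp]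
      ac_rfl
    rw [hf.pow_val hexp hx, show t / a * (a * j) = t * j by rw [← mul_assoc, div_mul_cancel₀ _ ha0],
      pw_add hexp P i]
    ac_rfl
  have hv : ∀ t i j w, g w = w →
      (g ^ (t / b).val) (pw P i * pw P' j * w) = pw P i * pw P' (j + t * i) * w := by
    intro t i j w hw
    have hx : g (pw P i * pw P' j * w) = pw P i * pw P' j * w * pw P' (b * i) := by
      rw [map_mul, map_mul, map_pw, map_pw, hg.fix, hb, hw, pw_mul_distrib hexp, pw_mul hexp]
      ac_rfl
    rw [hg.pow_val hexp hx, show t / b * (b * i) = t * i by rw [← mul_assoc, div_mul_cancel₀ _ hb0],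
      pw_add hexp P' j]
    ac_rfl
  obtain ⟨m, hmdef⟩ : ∃ m : ZMod p → MulAut V,
      ∀ t, m t = f ^ (t / a).val * g ^ (-t⁻¹ / b).val * f ^ (t / a).val := ⟨_, fun _ => rfl⟩
  have hm : ∀ t i j w, t ≠ 0 → f w = w → g w = w →
      m t (pw P i * pw P' j * w) = pw P (t * j) * pw P' (-(t⁻¹ * i)) * w := by
    intro t i j w ht hw hw'
    have e1 : j + -t⁻¹ * (i + t * j) = -(t⁻¹ * i) := by
      rw [neg_mul, mul_add, inv_mul_cancel_left₀ ht]; ring
    have e2 : i + t * j + t * -(t⁻¹ * i) = t * j := by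
      rw [mul_neg, mul_inv_cancel_left₀ ht]; ring
    rw [hmdef, MulAut.mul_apply, MulAut.mul_apply, hu _ _ _ _ hw, hv _ _ _ _ hw', e1, hu _ _ _ _ hw, e2]
  have hmem : ∀ t, m t ∈ Subgroup.closure ({f, g} : Set (MulAut V)) := by
    have hfm : f ∈ Subgroup.closure ({f, g} : Set (MulAut V)) := Subgroup.subset_closure (Or.inl rfl)
    have hgm : g ∈ Subgroup.closure ({f, g} : Set (MulAut V)) :=
      Subgroup.subset_closure (Or.inr rfl)
    generalize Subgroup.closure ({f, g} : Set (MulAut V)) = K at hfm hgm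
    intro t
    rw [hmdef]
    have h1 := K.pow_mem hfm (t / a).val
    exact K.mul_mem (K.mul_mem h1 (K.pow_mem hgm (-t⁻¹ / b).val)) h1
  obtain ⟨k, hk⟩ : ∃ k, k = m l * m (-1) := ⟨_, rfl⟩
  have hh : ∀ i j w, f w = w → g w = w →
      k (pw P i * pw P' j * w) = pw P (l * i) * pw P' (l⁻¹ * j) * w := by
    intro i j w hw hw'
    rw [hk, MulAut.mul_apply, hm _ _ _ _ (neg_ne_zero.2 one_ne_zero) hw hw', hm _ _ _ _ hl hw hw',
      show -((-1 : ZMod p)⁻¹ * i) = i by rw [inv_neg, inv_one]; ring,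
      show -(l⁻¹ * (-1 * j)) = l⁻¹ * j by ring]
  refine ⟨k, by rw [hk]; exact Subgroup.mul_mem _ (hmem l) (hmem (-1)), ?_, ?_, fun w hw hw' => ?_, ?_, ?_⟩
  · simpa only [mul_zero, pw_zero, mul_one, pw_one] using hh 1 0 1 (map_one f) (map_one g)
  · simpa only [mul_zero, pw_zero, one_mul, mul_one, pw_one] using hh 0 1 1 (map_one f) (map_one g)
  · simpa only [pw_zero, one_mul, mul_zero] using hh 0 0 w hw hw'
  · rw [mul_inv_eq_iff_eq_mul]
    refine MulEquiv.ext fun v => ?_
    obtain ⟨i, j, w, rfl, hw, hw'⟩ := exists_decomp hexp hf hg hfP hgP v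
    have e1 := hu a i j w hw
    rw [div_self ha0, ZMod.val_one, pow_one] at e1
    have e2 := hu (a * l ^ 2) (l * i) (l⁻¹ * j) w hw
    rw [mul_div_cancel_left₀ _ ha0] at e2
    rw [MulAut.mul_apply, MulAut.mul_apply, e1, hh _ _ _ hw hw', hh _ _ _ hw hw', e2]
    congr 3
    calc l * (i + a * j) = l * i + a * l * (l * l⁻¹) * j := by rw [mul_inv_cancel₀ hl]; ring
      _ = _ := by ring
  · rw [mul_inv_eq_iff_eq_mul]
    refine MulEquiv.ext fun v => ?_
    obtain ⟨i, j, w, rfl, hw, hw'⟩ := exists_decomp hexp hf hg hfP hgP v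
    have e1 := hv b i j w hw'
    rw [div_self hb0, ZMod.val_one, pow_one] at e1
    have e2 := hv (b * l⁻¹ ^ 2) (l * i) (l⁻¹ * j) w hw'
    rw [mul_div_cancel_left₀ _ hb0] at e2
    rw [MulAut.mul_apply, MulAut.mul_apply, e1, hh _ _ _ hw hw', hh _ _ _ hw hw', e2]
    congr 3
    calc l⁻¹ * (j + b * i) = l⁻¹ * j + b * l⁻¹ * (l * l⁻¹) * i := by rw [mul_inv_cancel₀ hl]; ring
      _ = _ := by ring

/-- On a plane nothing but the identity is fixed by both. -/
theorem eq_one_of_fixed (hV : Nat.card V = p ^ 2) {w : V} (hw : f w = w) (hw' : g w = w) : w = 1 := by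
  haveI : Finite V := Nat.finite_of_card_ne_zero (hV ▸ pow_ne_zero _ hp.out.ne_zero)
  have hne : P' ∉ zpowers P := fun h => by
    obtain ⟨i, rfl⟩ := exists_pw_of_mem hexp h
    exact hfP (by rw [map_pw, hf.fix])
  have hsup := Resist.plane_sup_eq hV hexp mul_comm hf.ne hne
  obtain ⟨x, hx, y, hy, rfl⟩ := Subgroup.mem_sup.1 (hsup.ge (Subgroup.mem_top w))
  obtain ⟨i, rfl⟩ := exists_pw_of_mem hexp hx
  obtain ⟨j, rfl⟩ := exists_pw_of_mem hexp hy
  obtain ⟨a, ha⟩ := hf.exists_coef hexp P'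
  obtain ⟨b, hb⟩ := hg.exists_coef hexp P
  have hi : pw P' (b * i) = 1 := by
    rw [map_mul, map_pw, map_pw, hg.fix, hb, pw_mul_distrib hexp, pw_mul hexp, mul_left_inj,
      mul_eq_left] at hw'
    exact hw'
  have hj : pw P (a * j) = 1 := by
    rw [map_mul, map_pw, map_pw, hf.fix, ha, pw_mul_distrib hexp, pw_mul hexp, mul_right_inj,
      mul_eq_left] at hw
    exact hw
  have hb0 : b ≠ 0 := fun h => hgP (by rw [hb, h, pw_zero, mul_one])
  have ha0 : a ≠ 0 := fun h => hfP (by rw [ha, h, pw_zero, mul_one])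
  rw [pw_eq_one_iff hexp hg.ne, mul_eq_zero, or_iff_right hb0] at hi
  rw [pw_eq_one_iff hexp hf.ne, mul_eq_zero, or_iff_right ha0] at hj
  rw [hi, hj, pw_zero, pw_zero, mul_one]

end Pair

end Cfsg.Agent.OrderFive
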