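import Cfsg.Agent.Lib.OrderFive.Invariant
import Cfsg.Agent.Lib.EssentialSmall.OrderFour
import Cfsg.Agent.S5186

/-!
# The factors of the small essential subgroups

`quotRep`: the representation on `E ⧸ N` for a characteristic `N ≥ [E,E]`.
`NonAb`: the facts on a nonabelian essential subgroup of order `p³` or `p⁴`.
`exists_trans_plane`: on a plane `N_S(E)` acts as one transvection group.
-/

set_option autoImplicit false
set_option linter.unusedSectionVars false
set_option linter.style.haveILetI false

open Subgroup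
open scoped commutatorElement

namespace Cfsg.Agent.OrderFive

open Cfsg Cfsg.FusionSystem Cfsg.Agent.Fusion

section Quot

variable {E : Type*} [Group E] (N : Subgroup E) [N.Characteristic]

/-- The factor group as an abelian group. -/
abbrev Vq := Abelianization (E ⧸ N)

/-- The projection. -/
def qproj : E →* Vq N := Abelianization.of.comp (QuotientGroup.mk' N)

theorem qproj_surjective : Function.Surjective (qproj N) := by
  intro v
  obtain ⟨u, rfl⟩ := Quotient.exists_rep v
  obtain ⟨e, rfl⟩ := QuotientGroup.mk'_surjective N u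
  exact ⟨e, rfl⟩

/-- The induced automorphisms of `E ⧸ N`. -/
def qcongr : MulAut E →* MulAut (E ⧸ N) where
  toFun α := QuotientGroup.congr N N α (characteristic_iff_map_eq.1 inferInstance α)
  map_one' := MulEquiv.ext fun v => by
    obtain ⟨e, rfl⟩ := QuotientGroup.mk'_surjective N v
    rfl
  map_mul' α β := MulEquiv.ext fun v => by
    obtain ⟨e, rfl⟩ := QuotientGroup.mk'_surjective N v
    rfl

/-- The induced automorphisms of the factor group. -/
def qact : MulAut E →* MulAut (Vq N) where
  toFun α := (qcongr N α).abelianizationCongr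
  map_one' := MulEquiv.ext fun v => by
    obtain ⟨e, rfl⟩ := qproj_surjective N v
    rfl
  map_mul' α β := MulEquiv.ext fun v => by
    obtain ⟨e, rfl⟩ := qproj_surjective N v
    rfl

theorem qact_apply (α : MulAut E) (e : E) : qproj N (α e) = qact N α (qproj N e) := rfl

variable (hN : commutator E ≤ N)

include hN

theorem qproj_eq_one (e : E) : qproj N e = 1 ↔ e ∈ N := by
  refine ⟨fun h => ?_, fun h => ?_⟩
  · haveI : IsMulCommutative (E ⧸ N) := Subgroup.Normal.quotient_commutative_iff_commutator_le.2 hN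
    letI : CommGroup (E ⧸ N) :=
      { (inferInstance : Group (E ⧸ N)) with mul_comm := fun a b => IsMulCommutative.is_comm.comm a b }
    have := congrArg (Abelianization.lift (MonoidHom.id (E ⧸ N))) h
    rw [map_one] at this
    exact (QuotientGroup.eq_one_iff e).1 this
  · show Abelianization.of (QuotientGroup.mk' N e) = 1
    rw [show QuotientGroup.mk' N e = 1 from (QuotientGroup.eq_one_iff e).2 h, map_one]

theorem card_Vq [Finite E] : Nat.card (Vq N) = N.index := by
  rw [Subgroup.index]
  refine (Nat.card_congr (Equiv.ofBijective (Abelianization.of (G := E ⧸ N)) ⟨?_, ?_⟩)).symm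
  · intro a b hab
    obtain ⟨a, rfl⟩ := QuotientGroup.mk'_surjective N a
    obtain ⟨b, rfl⟩ := QuotientGroup.mk'_surjective N b
    rw [← inv_mul_eq_one, ← map_inv, ← map_mul]
    exact (QuotientGroup.eq_one_iff _).2 ((qproj_eq_one N hN _).1
      (by rw [map_mul, map_inv, inv_mul_eq_one]; exact hab))
  · intro v
    obtain ⟨u, rfl⟩ := Quotient.exists_rep v
    exact ⟨u, rfl⟩

end Quot

variable {p : ℕ} [hp : Fact p.Prime] {Ω : Type*} [Group Ω] {S : Subgroup Ω} [Finite S] {F : FusionSystem S}
  {E : Subgroup Ω}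

/-- The representation on `E ⧸ N`. -/
def quotRep (N : Subgroup E) [N.Characteristic] (hN : commutator E ≤ N) (hexp : ∀ e : E, e ^ p ∈ N)
    (hker : ∀ α ∈ G0 p F E, (∀ e : E, e⁻¹ * α e ∈ N) → α ∈ Cfsg.Inn E) : Rep p F E (Vq N) where
  proj := qproj N
  act := qact N
  surj := qproj_surjective N
  comm := qact_apply N
  expV v := by
    obtain ⟨e, rfl⟩ := qproj_surjective N v
    rw [← map_pow]
    exact (qproj_eq_one N hN _).2 (hexp e)
  ker α hα h := hker α hα fun e => (qproj_eq_one N hN _).1 (by
    rw [map_mul, map_inv, qact_apply, h, MulAut.one_apply, inv_mul_cancel])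

variable (hS : IsPGroup p S) (hF : F.IsSaturated p) (hE : F.IsEssential p E)

include hS hF hE

/-- `G0` is trivial on characteristic factors of order at most `p`. -/
theorem G0_factor {U W : Subgroup E} [U.Characteristic] [W.Characteristic] (hUW : U ≤ W)
    (hc : Nat.card W ≤ p * Nat.card U) {α : MulAut E} (hα : α ∈ G0 p F E) {x : E} (hx : x ∈ W) :
    x⁻¹ * α x ∈ U := by
  haveI := Fusion.finite_of_le (S := S) hE.1.1
  have hinv : ∀ {M : Subgroup E} [M.Characteristic] (β : MulAut E), ∀ y ∈ M, β y ∈ M := fun β y hy =>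
    (characteristic_iff_map_le.1 inferInstance β) ⟨y, hy, rfl⟩
  let K : Subgroup (MulAut E) :=
    { carrier := {β | ∀ y ∈ W, y⁻¹ * β y ∈ U}
      one_mem' := fun y _ => by simp
      mul_mem' := fun {β γ} hb hc y hy => by
        show y⁻¹ * (β * γ) y ∈ U
        rw [MulAut.mul_apply, show y⁻¹ * β (γ y) = (y⁻¹ * γ y) * ((γ y)⁻¹ * β (γ y)) by group]
        exact mul_mem (hc y hy) (hb _ (hinv γ y hy))
      inv_mem' := fun {β} hb y hy => by
        show y⁻¹ * β⁻¹ y ∈ U
        have h := hb _ (hinv β⁻¹ y hy)
        rw [MulAut.apply_inv_self] at h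
        simpa using inv_mem h }
  refine (show G0 p F E ≤ K from (Subgroup.closure_le _).2 ?_) hα x hx
  rintro β ⟨-, k, hk⟩ y hy
  exact EssentialSmall.mul_apply_mem_of_card_le (hS.to_le hE.1.1) hUW hc hk (hinv β) (hinv β) hy

/-- The facts used of a nonabelian essential subgroup. -/
structure NonAb (p : ℕ) (E : Subgroup Ω) : Prop where
  idx : (center E).index = p ^ 2
  der_le : commutator E ≤ center E
  card_der : Nat.card (commutator E) = p
  card_center : Nat.card (center E) ≤ p * Nat.card (commutator E)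
  pow : ∀ e : E, e ^ p ∈ center E

theorem exists_rep_nonAb (h : NonAb p E) : ∃ R : Rep p F E (Vq (center E)),
    R.proj = qproj (center E) ∧ R.act = qact (center E) := by
  haveI := Fusion.finite_of_le (S := S) hE.1.1
  refine ⟨quotRep (center E) h.der_le h.pow ?_, rfl, rfl⟩
  intro α hα hZ
  have s := EssentialSmall.setting_of_essential hS hF hE
  have h1 : ∀ x ∈ commutator E, x⁻¹ * α x ∈ (⊥ : Subgroup E) := fun x hx =>
    G0_factor hS hF hE bot_le (by rw [h.card_der, card_bot, mul_one]) hα hx
  have h2 : ∀ x ∈ center E, x⁻¹ * α x ∈ commutator E := fun x hx =>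
    G0_factor hS hF hE h.der_le h.card_center hα hx
  refine s.mem_inn_of_chain 3
    (fun i => match i with | 0 => ⊥ | 1 => commutator E | 2 => center E | _ => ⊤) rfl rfl ?_ ?_
    (G0_le hα) ?_
  · intro i hi
    rcases i with _ | _ | _ | i
    exacts [bot_le, h.der_le, le_top, by omega]
  · intro b _ i hi x hx
    rcases i with _ | _ | _ | i
    · show b x ∈ (⊥ : Subgroup E)
      rw [show x = 1 from hx, map_one]; exact one_mem _
    · exact (characteristic_iff_map_le.1 (inferInstance : (commutator E).Characteristic) b) ⟨x, hx, rfl⟩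
    · exact (characteristic_iff_map_le.1 (inferInstance : (center E).Characteristic) b) ⟨x, hx, rfl⟩
    · exact Subgroup.mem_top _
  · intro i hi x hx
    rcases i with _ | _ | _ | i
    exacts [h1 x hx, h2 x hx, hZ x, by omega]

/-- On a plane, `N_S(E)` acts through one transvection. -/
theorem exists_trans_plane {V : Type*} [CommGroup V] (R : Rep p F E V) (hV : Nat.card V = p ^ 2)
    {y : normalizerIn S E} (hy : (y : Ω) ∉ E) :
    (∃ P, Trans (R.act (normConj S E y)) P) ∧
      ∀ g : normalizerIn S E, ∃ n : ℕ, ((g * (y ^ n)⁻¹ : normalizerIn S E) : Ω) ∈ E := by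
  haveI : Finite V := Nat.finite_of_card_ne_zero (hV ▸ pow_ne_zero _ hp.out.ne_zero)
  haveI : Nontrivial V :=
    Finite.one_lt_card_iff_nontrivial.1 (by rw [hV]; exact Nat.one_lt_pow two_ne_zero hp.out.one_lt)
  have hcm : ∀ a b : V, a * b = b * a := mul_comm
  have hone : ∀ {g : normalizerIn S E}, R.act (normConj S E g) = 1 → (g : Ω) ∈ E := by
    intro g hg
    obtain ⟨k, hk⟩ := hS ⟨g, g.2.1⟩
    refine Resist.mem_of_inn hE (R.ker _ (mem_G0 (k := k) (Resist.normConj_mem F hE.1.1 g).2 ?_) hg)
    rw [← map_pow, show g ^ p ^ k = 1 from Subtype.ext (congrArg Subtype.val hk :), map_one]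
  obtain ⟨e1, he1, hfix⟩ := Resist.exists_fixed (IsPGroup.of_card hV) ((autInducedBy S E).map R.act)
    ((isPGroup_autInducedBy hS).map R.act)
  have hfix' : ∀ g : normalizerIn S E, R.act (normConj S E g) e1 = e1 := fun g =>
    hfix _ (mem_map_of_mem _ (Resist.normConj_mem F hE.1.1 g).1)
  have hpow : ∀ g : normalizerIn S E, ∃ k : ℕ, R.act (normConj S E g) ^ p ^ k = 1 := fun g => by
    obtain ⟨k, hk⟩ := hS ⟨g, g.2.1⟩
    exact ⟨k, by rw [← map_pow, ← map_pow,
      show g ^ p ^ k = 1 from Subtype.ext (congrArg Subtype.val hk :), map_one, map_one]⟩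
  set a := R.act (normConj S E y)
  obtain ⟨k, hk⟩ := hpow y
  have hT : Trans a e1 := ⟨he1, hfix' y, fun v => by
    rw [mul_comm]; exact Resist.plane_transvection hV R.expV hcm he1 a hk (hfix' y) v,
    fun h => hy (hone h)⟩
  refine ⟨⟨e1, hT⟩, fun g => ?_⟩
  obtain ⟨e2, he2⟩ : ∃ e2, e2 ∉ zpowers e1 := by
    by_contra h
    push Not at h
    have h1 : zpowers e1 = ⊤ := eq_top_iff.2 fun v _ => h v
    have h2 := congrArg (fun U : Subgroup V => Nat.card U) h1
    simp only [Nat.card_zpowers, orderOf_eq_prime (R.expV e1) he1, card_top, hV] at h2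
    exact absurd (Nat.pow_right_injective hp.out.two_le ((pow_one p).trans h2)) (by norm_num)
  obtain ⟨c, hc⟩ := hT.exists_coef R.expV e2
  have hc0 : c ≠ 0 := fun h => hT.moves (Resist.plane_ext hV R.expV hcm he1 he2
    (by rw [hT.fix]; rfl) (by rw [hc, h, pw_zero, mul_one]; rfl))
  have hu : (a ^ c⁻¹.val) e2 = e1 * e2 := by
    rw [hT.pow_val R.expV hc, inv_mul_cancel₀ hc0, pw_one, mul_comm]
  have hu1 : (a ^ c⁻¹.val) e1 = e1 := by
    rw [hT.pow_val R.expV (i := 0) (by rw [pw_zero, mul_one, hT.fix]), mul_zero, pw_zero, mul_one]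
  obtain ⟨k', hk'⟩ := hpow g
  obtain ⟨n, hn⟩ := Resist.exists_transvection_pow hV R.expV hcm he1 he2 hu1 hu hk' (hfix' g)
  refine ⟨c⁻¹.val * n, hone ?_⟩
  rw [map_mul, map_inv, map_pow, map_mul, map_inv, map_pow, hn, ← pow_mul, mul_inv_cancel]

omit hE in
/-- A nonabelian group with centre of index `p²`. -/
theorem nonAb_of_index {H : Subgroup Ω} [Finite H] (hH : IsPGroup p H) (hidx : (center H).index = p ^ 2)
    (hZ : Nat.card (center H) ≤ p * p) (hnc : ¬ ∀ a b : H, a * b = b * a) : NonAb p H := by
  have hq : IsMulCommutative (H ⧸ center H) :=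
    IsPGroup.isMulCommutative_of_card_eq_prime_sq (p := p) (by rw [← Subgroup.index_eq_card, hidx])
  have hder : commutator H ≤ center H := Subgroup.Normal.quotient_commutative_iff_commutator_le.1 hq
  have hcy : ∀ x : H, x ^ p ∈ center H := by
    intro x
    rw [← QuotientGroup.eq_one_iff]
    show QuotientGroup.mk' (center H) (x ^ p) = 1
    rw [map_pow]
    by_contra hne
    refine hnc ?_
    haveI : IsCyclic (H ⧸ center H) := by
      refine isCyclic_of_orderOf_eq_card (QuotientGroup.mk' (center H) x) ?_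
      rw [← Subgroup.index_eq_card, hidx]
      refine orderOf_eq_prime_pow (by rwa [pow_one]) ?_
      have : (QuotientGroup.mk' (center H) x) ^ Nat.card (H ⧸ center H) = 1 := pow_card_eq_one'
      rwa [← Subgroup.index_eq_card, hidx] at this
    exact commutative_of_cyclic_center_quotient (QuotientGroup.mk' (center H)) (by rw [QuotientGroup.ker_mk'])
  have hcomm : ∀ a b : H, ⁅a, b⁆ ∈ center H := fun a b =>
    hder (commutator_mem_commutator (mem_top a) (mem_top b))
  obtain ⟨a, ha⟩ : ∃ a : H, a ∉ center H := by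
    by_contra h
    push Not at h
    exact hnc fun u v => (mem_center_iff.1 (h v) u)
  let φ : H →* H := MonoidHom.mk' (fun g => ⁅g, a⁆) fun g g' =>
    show ⁅g * g', a⁆ = ⁅g, a⁆ * ⁅g', a⁆ by
      rw [PGroup.commutator_mul_left ((mem_center_iff.1 (hcomm g' a) g))]
      exact (mem_center_iff.1 (hcomm g a) _)
  set A := center H ⊔ zpowers a
  have hA1 := PGroup.mul_card_le_of_lt hH (lt_of_le_of_ne le_sup_left fun e =>
    ha (e ▸ mem_sup_right (mem_zpowers a)) : center H < A)
  have hAker : A ≤ φ.ker := sup_le (fun z hz => commutatorElement_eq_one_iff_mul_comm.2 (mem_center_iff.1 hz a).symm)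
    (zpowers_le.2 (commutatorElement_eq_one_iff_mul_comm.2 rfl))
  have hR : Nat.card φ.range ≤ p := by
    have h1 : Nat.card φ.ker * Nat.card φ.range = Nat.card H := by
      rw [← Subgroup.index_ker, Subgroup.card_mul_index]
    have h2 : p * Nat.card (center H) * Nat.card φ.range ≤ p * Nat.card (center H) * p := by
      calc p * Nat.card (center H) * Nat.card φ.range ≤ Nat.card φ.ker * Nat.card φ.range :=
            Nat.mul_le_mul_right _ (hA1.trans (Subgroup.card_le_of_le hAker))
        _ = _ := by rw [h1, ← (center H).card_mul_index, hidx]; ring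
    exact Nat.le_of_mul_le_mul_left h2 (Nat.mul_pos hp.out.pos Nat.card_pos)
  have hRc : φ.range ≤ center H := by rintro _ ⟨g, rfl⟩; exact hcomm g a
  haveI : φ.range.Normal := ⟨fun r hr g => by
    rw [mem_center_iff.1 (hRc hr) g, mul_inv_cancel_right]; exact hr⟩
  obtain ⟨b, hb⟩ : ∃ b : H, b ∉ A := by
    by_contra h
    push Not at h
    exact hnc fun u v => by
      have hA : A ≤ centralizer ({a} : Set H) := fun w hw =>
        mem_centralizer_singleton_iff.2 (commutatorElement_eq_one_iff_mul_comm.1 (hAker hw))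
      have ha' : a ∈ center H := mem_center_iff.2 fun w => mem_centralizer_singleton_iff.1 (hA (h w))
      exact absurd ha' ha
  have htop : A ⊔ zpowers b = ⊤ := by
    refine PGroup.eq_sup_zpowers_of_card hH le_top ?_ (mem_top b) hb
    rw [card_top, ← (center H).card_mul_index, hidx]
    calc Nat.card (center H) * p ^ 2 = p * (p * Nat.card (center H)) := by ring
      _ ≤ _ := Nat.mul_le_mul_left _ hA1
  have hle : commutator H ≤ φ.range := by
    refine Subgroup.Normal.quotient_commutative_iff_commutator_le.1 ⟨⟨fun u v => ?_⟩⟩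
    let q := QuotientGroup.mk' φ.range
    have hA' : A ≤ (center (H ⧸ φ.range)).comap q := by
      refine sup_le (fun z hz => mem_center_iff.2 fun w => ?_) (zpowers_le.2 (mem_center_iff.2 fun w => ?_))
      · obtain ⟨w, rfl⟩ := QuotientGroup.mk'_surjective _ w
        rw [← map_mul, ← map_mul, mem_center_iff.1 hz w]
      · obtain ⟨w, rfl⟩ := QuotientGroup.mk'_surjective _ w
        rw [← commutatorElement_eq_one_iff_mul_comm, ← map_commutatorElement]
        exact (QuotientGroup.eq_one_iff _).2 ⟨w, rfl⟩
    have hb' : (⊤ : Subgroup H) ≤ (centralizer ({q b} : Set (H ⧸ φ.range))).comap q := by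
      rw [← htop]
      exact sup_le (fun w hw => mem_centralizer_singleton_iff.2 (mem_center_iff.1 (hA' hw) (q b)).symm)
        (zpowers_le.2 (mem_centralizer_singleton_iff.2 rfl))
    have hbc : q b ∈ center (H ⧸ φ.range) := mem_center_iff.2 fun w => by
      obtain ⟨w, rfl⟩ := QuotientGroup.mk'_surjective _ w
      exact mem_centralizer_singleton_iff.1 (hb' (mem_top w))
    have hall : (⊤ : Subgroup H) ≤ (center (H ⧸ φ.range)).comap q := by
      rw [← htop]
      exact sup_le hA' (zpowers_le.2 hbc)
    obtain ⟨u, rfl⟩ := QuotientGroup.mk'_surjective _ u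
    exact (mem_center_iff.1 (hall (mem_top u)) v).symm
  have hcd : Nat.card (commutator H) = p := by
    obtain ⟨k, hk⟩ := IsPGroup.iff_card.1 (hH.to_subgroup (commutator H))
    have h1 := (Subgroup.card_le_of_le hle).trans hR
    rw [hk] at h1
    rcases k with _ | _ | k
    · exfalso
      have hb0 := eq_bot_of_card_eq _ (by rw [hk, pow_zero])
      exact hnc fun u v => commutatorElement_eq_one_iff_mul_comm.1
        (mem_bot.1 (hb0 ▸ commutator_mem_commutator (mem_top u) (mem_top v)))
    · rw [hk, pow_one]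
    · exact absurd h1 (not_le.2 (by simpa using Nat.pow_lt_pow_right hp.out.one_lt (show 1 < k + 2 by omega)))
  exact ⟨hidx, hder, hcd, hcd.symm ▸ hZ, hcy⟩

theorem nonAb_of_cube (hc : Nat.card E = p ^ 3) (hnc : ¬ ∀ a b : E, a * b = b * a) : NonAb p E := by
  haveI := Fusion.finite_of_le (S := S) hE.1.1
  obtain ⟨h1, h2⟩ := EssentialSmall.card_center_mul_le hc hnc
  have hcard : Nat.card (center E) = p := by
    obtain ⟨j, -, hj⟩ := (Nat.dvd_prime_pow hp.out).1 (hc ▸ Subgroup.card_subgroup_dvd_card (center E))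
    rw [hj, hc, ← pow_add, Nat.pow_le_pow_iff_right hp.out.one_lt] at h2
    rcases j with _ | _ | j
    · rw [hj, pow_zero] at h1; exact absurd h1 (lt_irrefl 1)
    · rw [hj, pow_one]
    · omega
  refine nonAb_of_index hS hF (hS.to_le hE.1.1) ?_ (by rw [hcard]; exact Nat.le_mul_of_pos_left _ hp.out.pos) hnc
  have h := (center E).card_mul_index
  rw [hcard, hc, pow_succ' p 2] at h
  exact Nat.eq_of_mul_eq_mul_left hp.out.pos h

theorem nonAb_of_fourth (hp2 : p ≠ 2) (hc : Nat.card E = p ^ 4) (hnc : ¬ ∀ a b : E, a * b = b * a) :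
    NonAb p E := by
  haveI := Fusion.finite_of_le (S := S) hE.1.1
  have hs := EssentialSmall.setting_of_essential hS hF hE
  have hcard : Nat.card (center E) = p ^ 2 := by
    rcases EssentialSmall.nonabelian_order_four hs hc hnc with
      ⟨-, H, i1, i2, he, hH, -, ⟨e⟩⟩ | ⟨h, -⟩ | ⟨-, -, h⟩
    · rw [Nat.card_congr (Subgroup.centerCongr e).toEquiv]
      obtain ⟨h1, h2⟩ := EssentialSmall.card_center_mul_le (n := 4)
        (show Nat.card (H × Multiplicative (ZMod p)) = p ^ 4 by rw [← Nat.card_congr e.toEquiv, hc])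
        (fun h => hnc fun a b => e.injective (by rw [map_mul, map_mul, h]))
      obtain ⟨j, -, hj⟩ := (Nat.dvd_prime_pow hp.out).1
        ((show Nat.card (H × Multiplicative (ZMod p)) = p ^ 4 by rw [← Nat.card_congr e.toEquiv, hc]) ▸
          Subgroup.card_subgroup_dvd_card (center (H × Multiplicative (ZMod p))))
      rw [hj, show Nat.card (H × Multiplicative (ZMod p)) = p ^ 4 by rw [← Nat.card_congr e.toEquiv, hc],
        ← pow_add, Nat.pow_le_pow_iff_right hp.out.one_lt] at h2
      have hle : (center H).prod (⊤ : Subgroup (Multiplicative (ZMod p))) ≤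
          center (H × Multiplicative (ZMod p)) := fun u hu => mem_center_iff.2 fun v =>
        Prod.ext (mem_center_iff.1 hu.1 v.1) (mul_comm _ _)
      have hlt : (⊥ : Subgroup H).prod (⊤ : Subgroup (Multiplicative (ZMod p))) <
          center (H × Multiplicative (ZMod p)) := by
        obtain ⟨z, hz⟩ : ∃ z : center H, z ≠ 1 := by
          haveI : Finite (center H) := inferInstance
          haveI : Nontrivial (center H) := Finite.one_lt_card_iff_nontrivial.1
            (by rw [he.2]; exact hp.out.one_lt)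
          exact exists_ne 1
        refine lt_of_le_of_ne (le_trans (Subgroup.prod_mono bot_le le_rfl) hle) ?_
        intro h
        have hz' : ((z : H), (1 : Multiplicative (ZMod p))) ∈ center (H × Multiplicative (ZMod p)) :=
          hle ⟨z.2, Subgroup.mem_top _⟩
        rw [← h] at hz'
        exact hz (Subtype.ext hz'.1)
      have hP : IsPGroup p (H × Multiplicative (ZMod p)) := IsPGroup.of_card (n := 4)
        (by rw [← Nat.card_congr e.toEquiv, hc])
      have h3 := PGroup.mul_card_le_of_lt hP hlt
      rw [hj, Nat.card_congr ((⊥ : Subgroup H).prodEquiv (⊤ : Subgroup (Multiplicative (ZMod p)))).toEquiv,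
        Nat.card_prod, card_bot, one_mul, card_top, Nat.card_congr Multiplicative.toAdd, Nat.card_zmod,
        ← pow_two, Nat.pow_le_pow_iff_right hp.out.one_lt] at h3
      rw [hj, show j = 2 by omega]
    · exact absurd h hp2
    · exact h
  refine nonAb_of_index hS hF (hS.to_le hE.1.1) ?_ (by rw [hcard, pow_two]) hnc
  have h := (center E).card_mul_index
  rw [hcard, hc, show p ^ 4 = p ^ 2 * p ^ 2 by ring] at h
  exact Nat.eq_of_mul_eq_mul_left (pow_pos hp.out.pos 2) h

end Cfsg.Agent.OrderFive
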